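import Groth.Agent.Pi1FEt.Colimits
import Groth.Agent.HensPair.Couple

/-!
# A fully faithful restriction functor is bijective on clopens of covers
-/

universe u

set_option autoImplicit false
set_option backward.isDefEq.respectTransparency false
set_option linter.style.haveILetI false

open CategoryTheory CategoryTheory.Limits AlgebraicGeometry TopologicalSpace

namespace Groth.Pi1Lef

variable {X Y : Scheme.{u}}

/-- The map to two copies of `A` separating a clopen from its complement. -/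
theorem exists_sep {A T : Scheme.{u}} (m : T ⟶ A) {D : Set T} (hD : IsClopen D) :
    ∃ φ : T ⟶ A ⨿ A, φ ≫ coprod.desc (𝟙 A) (𝟙 A) = m ∧
      φ.base ⁻¹' Set.range (coprod.inl : A ⟶ A ⨿ A).base = D ∧
      Scheme.Opens.ι ⟨D, hD.2⟩ ≫ φ = Scheme.Opens.ι ⟨D, hD.2⟩ ≫ m ≫ coprod.inl ∧
      Scheme.Opens.ι ⟨Dᶜ, hD.1.isOpen_compl⟩ ≫ φ = Scheme.Opens.ι ⟨Dᶜ, hD.1.isOpen_compl⟩ ≫ m ≫ coprod.inr := by
  let j₁ := Scheme.Opens.ι (⟨D, hD.2⟩ : T.Opens)
  let j₂ := Scheme.Opens.ι (⟨Dᶜ, hD.1.isOpen_compl⟩ : T.Opens)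
  have hc : IsCompl j₁.opensRange j₂.opensRange := by
    rw [Scheme.Opens.opensRange_ι, Scheme.Opens.opensRange_ι]
    constructor
    · rw [disjoint_iff]
      exact Opens.ext (Set.inter_compl_self D)
    · rw [codisjoint_iff]
      exact Opens.ext (Set.union_compl_self D)
  obtain ⟨hlim⟩ := nonempty_isColimit_binaryCofanMk_of_isCompl j₁ j₂ hc
  obtain ⟨φ, h₁, h₂⟩ := BinaryCofan.IsColimit.desc' hlim (j₁ ≫ m ≫ (coprod.inl : A ⟶ A ⨿ A))
    (j₂ ≫ m ≫ coprod.inr)
  replace h₁ : j₁ ≫ φ = j₁ ≫ m ≫ coprod.inl := h₁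
  replace h₂ : j₂ ≫ φ = j₂ ≫ m ≫ coprod.inr := h₂
  refine ⟨φ, BinaryCofan.IsColimit.hom_ext hlim ?_ ?_, ?_, h₁, h₂⟩
  · change j₁ ≫ φ ≫ _ = j₁ ≫ m
    rw [reassoc_of% h₁, coprod.inl_desc, Category.comp_id]
  · change j₂ ≫ φ ≫ _ = j₂ ≫ m
    rw [reassoc_of% h₂, coprod.inr_desc, Category.comp_id]
  · ext t
    by_cases ht : t ∈ D
    · refine ⟨fun _ => ht, fun _ => ?_⟩
      have h := congr($(h₁).base ⟨t, ht⟩)
      exact ⟨m t, h.symm⟩
    · refine ⟨fun h => absurd h ?_, fun h => absurd h ht⟩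
      rintro ⟨a, ha⟩
      have h := congr($(h₂).base ⟨t, ht⟩)
      exact (isCompl_range_inl_inr A A).disjoint.ne_of_mem ⟨a, ha⟩ ⟨m t, h.symm⟩ rfl

/-- Two maps separating the same clopen agree. -/
theorem sep_unique {A T : Scheme.{u}} {m : T ⟶ A} {φ ψ : T ⟶ A ⨿ A}
    (hφ : φ ≫ coprod.desc (𝟙 A) (𝟙 A) = m) (hψ : ψ ≫ coprod.desc (𝟙 A) (𝟙 A) = m)
    (h : φ.base ⁻¹' Set.range (coprod.inl : A ⟶ A ⨿ A).base = ψ.base ⁻¹' Set.range (coprod.inl : A ⟶ A ⨿ A).base) :
    φ = ψ := by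
  let L := (coprod.inl : A ⟶ A ⨿ A).opensRange
  let R := (coprod.inr : A ⟶ A ⨿ A).opensRange
  have hc := isCompl_opensRange_inl_inr A A
  have hLR : ((R : Set ↥(A ⨿ A))) = ((L : Set ↥(A ⨿ A)))ᶜ := by
    have := isCompl_range_inl_inr A A
    rw [Scheme.Hom.coe_opensRange, Scheme.Hom.coe_opensRange]
    exact this.compl_eq.symm
  have hcT : IsCompl (φ ⁻¹ᵁ L).ι.opensRange (φ ⁻¹ᵁ R).ι.opensRange := by
    rw [Scheme.Opens.opensRange_ι, Scheme.Opens.opensRange_ι]
    constructor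
    · rw [disjoint_iff]
      refine Opens.ext ?_
      rw [Opens.coe_inf, Opens.map_coe, Opens.map_coe, hLR, Set.preimage_compl, Set.inter_compl_self]
      rfl
    · rw [codisjoint_iff]
      refine Opens.ext ?_
      rw [Opens.coe_sup, Opens.map_coe, Opens.map_coe, hLR, Set.preimage_compl, Set.union_compl_self]
      rfl
  obtain ⟨hlim⟩ := nonempty_isColimit_binaryCofanMk_of_isCompl _ _ hcT
  have key : ∀ (W : T.Opens) (i : A ⟶ A ⨿ A) [IsOpenImmersion i], i ≫ coprod.desc (𝟙 A) (𝟙 A) = 𝟙 A →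
      (W : Set T) ⊆ φ.base ⁻¹' Set.range i.base → (W : Set T) ⊆ ψ.base ⁻¹' Set.range i.base →
      W.ι ≫ φ = W.ι ≫ ψ := by
    intro W i _ hi h₁ h₂
    have r₁ : Set.range (W.ι ≫ φ).base ⊆ Set.range i.base := by
      rintro _ ⟨w, rfl⟩; exact h₁ w.2
    have r₂ : Set.range (W.ι ≫ ψ).base ⊆ Set.range i.base := by
      rintro _ ⟨w, rfl⟩; exact h₂ w.2
    have e₁ := IsOpenImmersion.lift_fac i (W.ι ≫ φ) r₁
    have e₂ := IsOpenImmersion.lift_fac i (W.ι ≫ ψ) r₂
    have : IsOpenImmersion.lift i (W.ι ≫ φ) r₁ = IsOpenImmersion.lift i (W.ι ≫ ψ) r₂ := by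
      have := congrArg (· ≫ coprod.desc (𝟙 A) (𝟙 A)) e₁
      have := congrArg (· ≫ coprod.desc (𝟙 A) (𝟙 A)) e₂
      simp only [Category.assoc, hi, hφ, hψ, Category.comp_id] at *
      simp_all
    rw [← e₁, ← e₂, this]
  refine BinaryCofan.IsColimit.hom_ext hlim ?_ ?_
  · refine key (φ ⁻¹ᵁ L) coprod.inl (coprod.inl_desc _ _) le_rfl ?_
    exact h.le
  · refine key (φ ⁻¹ᵁ R) coprod.inr (coprod.inr_desc _ _) le_rfl ?_
    have e : ((φ ⁻¹ᵁ R : T.Opens) : Set T) = (φ.base ⁻¹' Set.range (coprod.inl : A ⟶ A ⨿ A).base)ᶜ := by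
      rw [Opens.map_coe, hLR, Set.preimage_compl]; rfl
    rw [e, h, ← Set.preimage_compl, (isCompl_range_inl_inr A A).compl_eq]

/-- A fully faithful restriction functor is bijective on clopens of covers. -/
theorem clopenBij_of_fullyFaithful (f : X ⟶ Y) [(FEt.restrict f).Full] [(FEt.restrict f).Faithful]
    (A : FEt.Cat Y) : HensPair.ClopenBij (pullback.fst A.hom f).base := by
  intro D hD
  let a : A.left ⟶ Y := A.hom
  haveI : IsFinite a := A.prop.1
  haveI : Etale a := A.prop.2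
  let dd : A.left ⨿ A.left ⟶ A.left := coprod.desc (𝟙 _) (𝟙 _)
  let b : A.left ⨿ A.left ⟶ Y := coprod.desc a a
  haveI : IsFinite b := inferInstance
  haveI : Etale b := by
    let 𝒰 := coprodOpenCover.{u, u} A.left A.left
    refine IsZariskiLocalAtSource.of_openCover 𝒰 ?_
    rintro (i | i)
    · change Etale (coprod.inl ≫ b); rw [coprod.inl_desc]; infer_instance
    · change Etale (coprod.inr ≫ b); rw [coprod.inr_desc]; infer_instance
  let B : FEt.Cat Y := MorphismProperty.Over.mk ⊤ b ⟨inferInstance, inferInstance⟩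
  have hdd : dd ≫ a = b := by
    ext <;> simp [dd, b]
  obtain ⟨φ₀, hφ₀, hφD, -, -⟩ := exists_sep (A := A.left) (pullback.fst A.hom f) hD
  have hw : φ₀ ≫ b = pullback.snd A.hom f ≫ f := by
    rw [← hdd, ← Category.assoc, hφ₀]; exact pullback.condition
  let φ : (FEt.restrict f).obj A ⟶ (FEt.restrict f).obj B :=
    MorphismProperty.Over.homMk (pullback.lift φ₀ (pullback.snd A.hom f) hw) (pullback.lift_snd _ _ _)
  obtain ⟨ψ, hψ⟩ := (FEt.restrict f).map_surjective φ
  let g : A.left ⟶ A.left ⨿ A.left := ψ.left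
  have hg : pullback.fst A.hom f ≫ g = φ₀ := by
    have h1 := Pi1FEt.restrict_map_left_fst ψ f
    rw [hψ] at h1
    exact h1.symm.trans (pullback.lift_fst _ _ _)
  let C : Set A.left := g.base ⁻¹' Set.range (coprod.inl : A.left ⟶ A.left ⨿ A.left).base
  have hclop : IsClopen (Set.range (coprod.inl : A.left ⟶ A.left ⨿ A.left).base) := by
    refine ⟨?_, (coprod.inl : A.left ⟶ A.left ⨿ A.left).isOpenEmbedding.isOpen_range⟩
    rw [← isOpen_compl_iff, (isCompl_range_inl_inr A.left A.left).compl_eq]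
    exact (coprod.inr : A.left ⟶ A.left ⨿ A.left).isOpenEmbedding.isOpen_range
  have hC : IsClopen C := hclop.preimage g.continuous
  have hCD : (pullback.fst A.hom f).base ⁻¹' C = D := by
    rw [← hφD, ← hg]; rfl
  refine ⟨C, ⟨hC, hCD⟩, fun C' ⟨hC', hC'D⟩ => ?_⟩
  obtain ⟨χ, hχ, hχC, -, -⟩ := exists_sep (𝟙 A.left) hC'
  have hgm : g ≫ dd = 𝟙 A.left := by
    -- both agree after restriction, so by faithfulness
    let χ₁ : A ⟶ A := MorphismProperty.Over.homMk (g ≫ dd) (by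
      rw [Category.assoc]; change g ≫ dd ≫ a = a; rw [hdd]; exact MorphismProperty.Over.w ψ)
    have h12 : χ₁ = 𝟙 A := (FEt.restrict f).map_injective <| by
      apply MorphismProperty.Over.Hom.ext
      apply pullback.hom_ext
      · refine (Pi1FEt.restrict_map_left_fst χ₁ f).trans ?_
        refine Eq.trans ?_ (Pi1FEt.restrict_map_left_fst (𝟙 A) f).symm
        change pullback.fst A.hom f ≫ g ≫ dd = pullback.fst A.hom f ≫ 𝟙 _
        rw [reassoc_of% hg, hφ₀, Category.comp_id]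
      · exact (MorphismProperty.Over.w ((FEt.restrict f).map χ₁)).trans
          (MorphismProperty.Over.w ((FEt.restrict f).map (𝟙 A))).symm
    exact congrArg (fun r : A ⟶ A => r.left) h12
  let χ' : A ⟶ B := MorphismProperty.Over.homMk χ (by
    change χ ≫ b = a
    rw [← hdd, ← Category.assoc, hχ, Category.id_comp])
  have hχψ : χ' = ψ := (FEt.restrict f).map_injective <| by
    apply MorphismProperty.Over.Hom.ext
    apply pullback.hom_ext
    · refine (Pi1FEt.restrict_map_left_fst χ' f).trans ?_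
      refine Eq.trans ?_ (Pi1FEt.restrict_map_left_fst ψ f).symm
      change pullback.fst A.hom f ≫ χ = pullback.fst A.hom f ≫ g
      refine sep_unique (m := pullback.fst A.hom f) ?_ ?_ ?_
      · exact (Category.assoc _ _ _).trans ((congrArg (pullback.fst A.hom f ≫ ·) hχ).trans (Category.comp_id _))
      · exact (Category.assoc _ _ _).trans ((congrArg (pullback.fst A.hom f ≫ ·) hgm).trans (Category.comp_id _))
      · refine Eq.trans (b := (pullback.fst A.hom f).base ⁻¹' C') ?_ (Eq.trans (b := (pullback.fst A.hom f).base ⁻¹' C) ?_ ?_)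
        · rw [← hχC]; rfl
        · rw [hC'D, hCD]
        · rfl
    · exact (MorphismProperty.Over.w ((FEt.restrict f).map χ')).trans
        (MorphismProperty.Over.w ((FEt.restrict f).map ψ)).symm
  have : χ = g := congrArg (fun r : A ⟶ B => r.left) hχψ
  rw [← hχC, this]

end Groth.Pi1Lef
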