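import Groth.Agent.Pi1Lef.Apply
import Groth.Agent.S17762
import Groth.Agent.S1712
import Groth.Agent.S1713
import Groth.Agent.LocDual.Completion
import Groth.Agent.LocDual.CompleteQuotient
import Groth.Agent.DualCore.AtPrime
import Groth.Agent.DualCore.Catenary
import Groth.Agent.Calg1.BEConverse
import Groth.Agent.Ega4Algebra1.CatenaryDim
import Groth.Agent.Gorenstein.Regular

/-!
# Powers of `f` killing low local cohomology
-/

universe u

set_option autoImplicit false
set_option linter.style.haveILetI false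

open CategoryTheory
open IsLocalRing (maximalIdeal)
attribute [local instance] HasDerivedCategory.standard

namespace Groth.Pi1Lef

variable {A : Type u} [CommRing A] [IsNoetherianRing A] [IsLocalRing A]

/-- Over a quotient of a regular local ring: the conditions away from `f`. -/
theorem conditions_of_killed [IsAdicComplete (maximalIdeal A) A] {f : A} (hf : f ∈ maximalIdeal A)
    (h1 : f ∈ (Module.annihilator A (LocCoh.H (maximalIdeal A) 1 A)).radical)
    (h2 : f ∈ (Module.annihilator A (LocCoh.H (maximalIdeal A) 2 A)).radical) :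
    (∀ p ∈ minimalPrimes A, f ∉ p → (3 : WithBot ℕ∞) ≤ ringKrullDim (A ⧸ p)) ∧
    ∀ (p : Ideal A) [p.IsPrime], f ∉ p → ringKrullDim (A ⧸ p) = 1 →
      (2 : ℕ∞) ≤ LocCoh.depth (Localization.AtPrime p) (Localization.AtPrime p) := by
  obtain ⟨S, _, _, π, hπ⟩ := Groth.LocDual.exists_regularLocal_surjection A
  haveI : LocCoh.IsGorensteinLocalRing S := (GrothGoren.isGorenstein_iff S).2 (GrothGoren.exists_injLT_of_regular _ S le_rfl)
  have key : ∀ (p : Ideal A) [p.IsPrime], f ∉ p → ∀ (i : ℕ), (i = 1 ∨ i = 2) → ∀ j : ℕ,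
      (j : WithBot ℕ∞) + ringKrullDim (A ⧸ p) = i →
        Subsingleton (LocCoh.H (maximalIdeal (Localization.AtPrime p)) j (LocalizedModule p.primeCompl A)) := by
    intro p _ hfp i hi j hj
    refine (Groth.Agent.S17762.result A S π hπ A (Ideal.span {f}) i).1 ?_ p
      (fun h => hfp (h (Ideal.mem_span_singleton_self f))) j hj
    rw [Ideal.span_singleton_le_iff_mem]
    rcases hi with rfl | rfl
    · exact h1
    · exact h2
  refine ⟨fun p hp hfp => ?_, fun p _ hfp h1 => ?_⟩
  · haveI : p.IsPrime := hp.1.1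
    obtain ⟨e, he⟩ := ENat.ne_top_iff_exists.1 (Ega4Algebra1.coheight_ne_top A (⟨p, inferInstance⟩ : PrimeSpectrum A))
    have hd : ringKrullDim (A ⧸ p) = (e : WithBot ℕ∞) := by
      rw [Ega4Algebra1.ringKrullDim_quotient_eq_coheight A ⟨p, inferInstance⟩, ← he]; rfl
    rw [hd]
    by_contra hlt
    have he2 : e ≤ 2 := by
      rw [show (3 : WithBot ℕ∞) = ((3 : ℕ) : WithBot ℕ∞) from rfl] at hlt
      simp only [Nat.cast_le, not_le] at hlt
      omega
    have he1 : e ≠ 0 := fun e0 => by
      have hmax : IsMax (⟨p, inferInstance⟩ : PrimeSpectrum A) := Order.coheight_eq_zero.1 (by rw [← he, e0]; rfl)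
      have hle : (⟨p, inferInstance⟩ : PrimeSpectrum A) ≤ IsLocalRing.closedPoint A :=
        IsLocalRing.le_maximalIdeal Ideal.IsPrime.ne_top'
      exact hfp ((show maximalIdeal A ≤ p from hmax hle) hf)
    have h0 : ¬ (1 : ℕ∞) ≤ LocCoh.depth (Localization.AtPrime p) (LocalizedModule p.primeCompl A) := by
      rw [Groth.LocCohBase.one_le_depth_localized_iff p A, not_not]
      refine Module.associatedPrimes.minimalPrimes_annihilator_subset_associatedPrimes A A ?_
      rwa [Module.annihilator_eq_bot.2 inferInstance]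
    refine h0 ((LocCohBase.le_idealDepth_iff_localCohomology _ 1 _).2 fun i hi => ?_)
    obtain rfl : i = 0 := by omega
    refine key p hfp e (by omega) 0 ?_
    rw [hd, Nat.cast_zero, zero_add]
  · rw [← Calg1.BE.depth_localizedModule_self]
    refine (LocCohBase.le_idealDepth_iff_localCohomology _ 2 _).2 fun i hi => ?_
    refine key p hfp (i + 1) (by omega) i ?_
    rw [h1, Nat.cast_add, Nat.cast_one]

/-- `depth + dim > 2` off `V(f)` gives killed local cohomology, given a dualizing complex. -/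
theorem killed_of_dualizing (hd : ∃ ω : Dual.D A, Dual.IsDualizing A ω) {f : A}
    (hc : ∀ (p : Ideal A) [p.IsPrime], f ∉ p →
      (2 : WithBot ℕ∞) < (LocCoh.depth (Localization.AtPrime p) (Localization.AtPrime p) : WithBot ℕ∞) + ringKrullDim (A ⧸ p))
    (i : ℕ) (hi : i ≤ 2) :
    f ∈ (Module.annihilator A (LocCoh.H (maximalIdeal A) i A)).radical := by
  obtain ⟨ω₀, hω₀⟩ := hd
  obtain ⟨n, hn, -, -⟩ := Groth.DualCore.exists_normalized hω₀
  have hω : Dual.IsDualizing A (ω₀⟦n⟧) := Groth.DualCore.isDualizing_shift hω₀ n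
  rw [← Groth.Agent.S1713.result A _ hω hn A i]
  haveI : Module.Finite A (Dual.inD A A ⟶ (ω₀⟦n⟧)⟦(-(i : ℤ))⟧) :=
    Groth.DualCore.finite_hom_dualizing hω _ (fun j => Groth.DualCore.finite_HD_inD A j) _
  rw [Ideal.radical_eq_sInf, Ideal.mem_sInf]
  rintro P ⟨hle, hP⟩
  by_contra hfP
  have hsupp : (⟨P, hP⟩ : PrimeSpectrum A) ∈ Module.support A (Dual.inD A A ⟶ (ω₀⟦n⟧)⟦(-(i : ℤ))⟧) :=
    Module.mem_support_iff_of_finite.2 hle
  have h := (Groth.Agent.S1712.result A _ hω hn A i ⟨P, hP⟩).1 ⟨i, le_rfl, hsupp⟩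
  rw [Calg1.BE.depth_localizedModule_self] at h
  have := (hc P hfP).trans_le h
  rw [show (2 : WithBot ℕ∞) = ((2 : ℕ) : WithBot ℕ∞) from rfl, Nat.cast_lt] at this
  omega

/-- `(S₂)` off `V(f)` and dimension at least three give `depth + dim > 2` off `V(f)`. -/
theorem depth_add_dim_of_hasSk (hcat : CAlg.IsCatenary A) {f : A} (hf : f ∈ maximalIdeal A)
    (hS : LocCoh.HasSk 2 (Localization.Away f) (Localization.Away f))
    (hmin : ∀ p ∈ minimalPrimes A, f ∉ p → (3 : WithBot ℕ∞) ≤ ringKrullDim (A ⧸ p))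
    (p : Ideal A) [p.IsPrime] (hfp : f ∉ p) :
    (2 : WithBot ℕ∞) < (LocCoh.depth (Localization.AtPrime p) (Localization.AtPrime p) : WithBot ℕ∞) + ringKrullDim (A ⧸ p) := by
  let P := p.map (algebraMap A (Localization.Away f))
  have hdisj : Disjoint (Submonoid.powers f : Set A) p := by
    rw [Set.disjoint_left]
    rintro _ ⟨k, rfl⟩ hk
    exact hfp (Ideal.IsPrime.mem_of_pow_mem inferInstance k hk)
  haveI : P.IsPrime := IsLocalization.isPrime_of_isPrime_disjoint (Submonoid.powers f) _ p ‹_› hdisj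
  have hcomap : P.comap (algebraMap A (Localization.Away f)) = p :=
    IsLocalization.under_map_of_isPrime_disjoint (Submonoid.powers f) _ ‹p.IsPrime› hdisj
  haveI := IsLocalization.isLocalization_isLocalization_atPrime_isLocalization (Submonoid.powers f)
    (Localization.AtPrime P) P
  haveI : IsLocalization.AtPrime (Localization.AtPrime P) p := by
    simpa [hcomap] using this
  let e : Localization.AtPrime P ≃+* Localization.AtPrime p :=
    (IsLocalization.algEquiv p.primeCompl (Localization.AtPrime P) (Localization.AtPrime p)).toRingEquiv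
  have h := hS P
  rw [Calg1.BE.depth_localizedModule_self, Module.supportDim_eq_of_equiv
    ((IsLocalizedModule.iso P.primeCompl
      (Algebra.linearMap (Localization.Away f) (Localization.AtPrime P))).extendScalarsOfIsLocalization
        P.primeCompl (Localization.AtPrime P)),
    Module.supportDim_self_eq_ringKrullDim, ringKrullDim_eq_of_ringEquiv e,
    Groth.Ega4b.depth_eq_of_ringEquiv e, IsLocalization.AtPrime.ringKrullDim_eq_height p] at h
  let x : PrimeSpectrum A := ⟨p, inferInstance⟩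
  have hnm : ¬ IsMax x := fun hmax => hfp ((show maximalIdeal A ≤ p from hmax
    (show x ≤ IsLocalRing.closedPoint A from IsLocalRing.le_maximalIdeal Ideal.IsPrime.ne_top')) hf)
  obtain ⟨d, hd⟩ := ENat.ne_top_iff_exists.1 (Ega4Algebra1.coheight_ne_top A x)
  have hd0 : d ≠ 0 := fun d0 => hnm (Order.coheight_eq_zero.1 (by rw [← hd, d0]; rfl))
  rw [Ega4Algebra1.ringKrullDim_quotient_eq_coheight A x, ← hd]
  obtain ⟨k, hk⟩ := ENat.ne_top_iff_exists.1 (Ideal.height_ne_top (I := p) Ideal.IsPrime.ne_top')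
  rw [← hk] at h
  suffices hm : 3 ≤ min 2 k + d by
    have h' : ((min 2 k : ℕ) : WithBot ℕ∞) ≤ (LocCoh.depth (Localization.AtPrime p) (Localization.AtPrime p) : WithBot ℕ∞) :=
      le_trans (le_min (Nat.cast_le.2 (min_le_left _ _)) (Nat.cast_le.2 (min_le_right _ _))) h
    refine lt_of_lt_of_le ?_ (add_le_add h' le_rfl)
    show (2 : WithBot ℕ∞) < ((min 2 k : ℕ) : WithBot ℕ∞) + ((d : ℕ) : WithBot ℕ∞)
    rw [← Nat.cast_add, show (2 : WithBot ℕ∞) = ((2 : ℕ) : WithBot ℕ∞) from rfl, Nat.cast_lt]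
    omega
  by_cases hk2 : 2 ≤ k
  · omega
  by_cases hk0 : k = 0
  · have hpm : p ∈ minimalPrimes A := Ideal.height_eq_zero_iff.1 (by rw [← hk, hk0]; rfl)
    have := hmin p hpm hfp
    rw [Ega4Algebra1.ringKrullDim_quotient_eq_coheight A x, ← hd] at this
    have h3 : 3 ≤ d := by
      rw [show (3 : WithBot ℕ∞) = ((3 : ℕ) : WithBot ℕ∞) from rfl] at this
      exact Nat.cast_le.1 this
    omega
  · have hk1 : k = 1 := by omega
    obtain ⟨q, hq, hqp⟩ := Ideal.exists_minimalPrimes_le (bot_le : ⊥ ≤ p)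
    haveI := hq.1.1
    let y : PrimeSpectrum A := ⟨q, inferInstance⟩
    have hlt : y < x := lt_of_le_of_ne hqp fun e => hk0 (by
      have hq0 : q.height = 0 := Ideal.height_eq_zero_iff.2 hq
      rw [show q = p from congrArg PrimeSpectrum.asIdeal e, ← hk] at hq0
      exact_mod_cast hq0)
    have hcov : y ⋖ x := ⟨hlt, fun z hz1 hz2 => by
      have a := Ideal.height_add_one_le_of_lt_of_isPrime (I := y.asIdeal) (J := z.asIdeal) hz1
      have b := Ideal.height_add_one_le_of_lt_of_isPrime (I := z.asIdeal) (J := p) hz2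
      rw [← hk, hk1] at b
      have c : (1 : ℕ∞) ≤ z.asIdeal.height := le_add_self.trans a
      exact absurd ((add_le_add c le_rfl).trans b) (by decide)⟩
    have hco := Ega4Algebra1.coheight_eq_add_one_of_covBy A hcat hcov
    have := hmin q hq fun hh => hfp (hqp hh)
    rw [Ega4Algebra1.ringKrullDim_quotient_eq_coheight A y, hco, ← hd] at this
    have h3 : 3 ≤ d + 1 := by
      rw [show (3 : WithBot ℕ∞) = ((3 : ℕ) : WithBot ℕ∞) from rfl] at this
      exact Nat.cast_le.1 (this : ((3:ℕ) : WithBot ℕ∞) ≤ ((d + 1 : ℕ) : WithBot ℕ∞))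
    omega

/-- Killed local cohomology gives full faithfulness. -/
theorem fullyFaithful_of_killed {f : A} (hf : f ∈ maximalIdeal A) [HenselianRing A (Ideal.span {f})]
    (h : ∀ i : ℕ, i = 1 ∨ i = 2 → f ∈ (Module.annihilator A (LocCoh.H (maximalIdeal A) i A)).radical) :
    (FEt.restrict (Limits.pullback.fst (FEt.puncturedSpec A).ι
      (AlgebraicGeometry.Spec.map (CommRingCat.ofHom (Ideal.Quotient.mk (Ideal.span {f})))))).Full ∧
    (FEt.restrict (Limits.pullback.fst (FEt.puncturedSpec A).ι
      (AlgebraicGeometry.Spec.map (CommRingCat.ofHom (Ideal.Quotient.mk (Ideal.span {f})))))).Faithful := by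
  haveI := completion_isNoetherianRing A
  have hc : ∀ i : ℕ, i = 1 ∨ i = 2 → algebraMap A (AdicCompletion (maximalIdeal A) A) f ∈
      (Module.annihilator (AdicCompletion (maximalIdeal A) A)
        (LocCoh.H (maximalIdeal (AdicCompletion (maximalIdeal A) A)) i (AdicCompletion (maximalIdeal A) A))).radical := by
    intro i hi
    obtain ⟨n, hn⟩ := h i hi
    exact ⟨n, by rw [← map_pow]; exact Groth.LocDual.algebraMap_mem_annihilator_H_cpl A hn⟩
  have hfC : algebraMap A (AdicCompletion (maximalIdeal A) A) f ∈ maximalIdeal _ := by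
    rw [← completion_map_maximalIdeal]; exact Ideal.mem_map_of_mem _ hf
  obtain ⟨h3, h4⟩ := conditions_of_killed hfC (hc 1 (.inl rfl)) (hc 2 (.inr rfl))
  exact fullyFaithful_of_completion_conditions hf h3 h4

end Groth.Pi1Lef
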