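import Groth.Agent.Pi1Lef.Topo
import Groth.Agent.S17758
import Groth.Agent.S9675
import Groth.Agent.S9683
import Groth.Agent.ResolveSurf.Normalization
import Groth.Agent.Calg2.CompleteNagata
import Groth.Agent.Hensel1.Finite
import Groth.Agent.EtaleAlgebra.FiniteComplete
import Groth.Agent.Pi1Vdim.Connected
import Groth.Agent.EGA41Two.DimIntegral
import Groth.Agent.Calg4.FlatDepth
import Groth.Agent.Smt.FreeCM
import Groth.Agent.Calg1.SerreConditions
import Groth.Prelude.Def_IntMult
import Groth.Agent.CohTwo.PushClosed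
import Groth.Agent.PropsBasic2.Reduced
import Mathlib.AlgebraicGeometry.ZariskisMainTheorem
import Mathlib.RingTheory.Ideal.KrullsHeightTheorem

/-!
# Hyperplane sections of covers of the punctured spectrum of a complete local ring

Let `A` be complete Noetherian local, `f ∈ m`, `W` finite flat over the punctured spectrum `U`. If
`dim A/p ≥ 3` for minimal primes `p ∌ f` and `depth A_p ≥ 2` for primes `p ∌ f` with `dim A/p = 1`,
then clopens of `W` correspond to clopens of its trace on `V(f)`.
-/

universe u

set_option autoImplicit false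
set_option backward.isDefEq.respectTransparency false
set_option backward.defeqAttrib.useBackward true
set_option linter.style.haveILetI false

open CategoryTheory CategoryTheory.Limits AlgebraicGeometry TopologicalSpace
open IsLocalRing (maximalIdeal closedPoint)

namespace Groth.Pi1Lef

/-- An open over which a quasi-finite separated morphism is finite lies in the image of the source in the
normalisation. -/
theorem preimage_subset_range_toNormalization {C X : Scheme.{u}} (g : C ⟶ X) [LocallyQuasiFinite g]
    [LocallyOfFiniteType g] [IsSeparated g] [QuasiCompact g] (V : X.Opens) [IsFinite (g ∣_ V)] :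
    g.fromNormalization.base ⁻¹' (V : Set X) ⊆ Set.range g.toNormalization.base := by
  let π := g.fromNormalization
  let t := g.toNormalization
  have htπ : t ≫ π = g := g.toNormalization_fromNormalization
  haveI : IsFinite ((t ≫ π) ∣_ V) := by rw [htπ]; infer_instance
  haveI : IsFinite ((t ∣_ (π ⁻¹ᵁ V)) ≫ (π ∣_ V)) := by rw [← morphismRestrict_comp]; infer_instance
  haveI : IsFinite (t ∣_ (π ⁻¹ᵁ V)) := IsFinite.of_comp _ (π ∣_ V)
  intro n hn
  have hcl : IsClosed (Set.range (t ∣_ (π ⁻¹ᵁ V)).base) := (t ∣_ (π ⁻¹ᵁ V)).isClosedMap.isClosed_range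
  have hdense : DenseRange (t ∣_ (π ⁻¹ᵁ V)).base := by
    refine (Dense.preimage t.denseRange (π ⁻¹ᵁ V).ι.isOpenEmbedding.isOpenMap).mono ?_
    rintro o ⟨c, hc⟩
    refine ⟨⟨c, show π (t c) ∈ V by rw [hc]; exact o.2⟩, (π ⁻¹ᵁ V).ι.isOpenEmbedding.injective ?_⟩
    rw [← Scheme.Hom.comp_apply, morphismRestrict_ι, Scheme.Hom.comp_apply]
    exact hc
  have huniv : Set.range (t ∣_ (π ⁻¹ᵁ V)).base = Set.univ := by
    rw [← hcl.closure_eq, hdense.closure_range]
  obtain ⟨c, hc⟩ : (⟨n, hn⟩ : (π ⁻¹ᵁ V : g.normalization.Opens)) ∈ Set.range (t ∣_ (π ⁻¹ᵁ V)).base :=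
    huniv ▸ Set.mem_univ _
  exact ⟨c.1, by
    have := congrArg (π ⁻¹ᵁ V).ι.base hc
    rw [← Scheme.Hom.comp_apply, morphismRestrict_ι, Scheme.Hom.comp_apply] at this
    exact this⟩

/-- A morphism finite over an open is finite over it after composing with the inclusion. -/
theorem isFinite_comp_ι_restrict {C X : Scheme.{u}} (V : X.Opens) (w : C ⟶ V) [IsFinite w] :
    IsFinite ((w ≫ V.ι) ∣_ V) := by
  rw [morphismRestrict_comp]
  haveI : IsIso (V.ι ∣_ V) := by
    have : Surjective (V.ι ∣_ V) := ⟨fun x => ⟨⟨⟨x.1, x.2⟩, x.2⟩, Subtype.ext (by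
      change V.ι.base ((V.ι ∣_ V) ⟨⟨x.1, x.2⟩, x.2⟩) = x.1
      rw [← Scheme.Hom.comp_apply, morphismRestrict_ι]; rfl)⟩⟩
    exact (isIso_iff_isOpenImmersion_and_surjective _).2 ⟨inferInstance, inferInstance⟩
  infer_instance

variable {A : Type u} [CommRing A] [IsNoetherianRing A] [IsLocalRing A]

/-- The dimension of `A/q` is one when all primes strictly between `q` and `m` avoid an `f ∈ m`. -/
theorem ringKrullDim_quotient_eq_one {f : A} (hf : f ∈ maximalIdeal A) (q : Ideal A) [q.IsPrime]
    (hfq : f ∉ q) (h : ∀ P : Ideal A, P.IsPrime → q ≤ P → P ≠ maximalIdeal A → f ∉ P) :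
    ringKrullDim (A ⧸ q) = 1 := by
  have hqm : q ≤ maximalIdeal A := IsLocalRing.le_maximalIdeal Ideal.IsPrime.ne_top'
  haveI : IsLocalRing (A ⧸ q) := IsLocalRing.of_surjective' (Ideal.Quotient.mk q) Ideal.Quotient.mk_surjective
  let M := maximalIdeal (A ⧸ q)
  have hMc : M.comap (Ideal.Quotient.mk q) = maximalIdeal A :=
    IsLocalRing.eq_maximalIdeal (Ideal.comap_isMaximal_of_surjective _ Ideal.Quotient.mk_surjective)
  have hfM : Ideal.Quotient.mk q f ∈ M := by
    change f ∈ M.comap (Ideal.Quotient.mk q)
    rw [hMc]; exact hf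
  have hmin : M ∈ (Ideal.span {Ideal.Quotient.mk q f}).minimalPrimes := by
    refine ⟨⟨inferInstance, Ideal.span_le.2 (Set.singleton_subset_iff.2 hfM)⟩, fun P hP hPM => ?_⟩
    haveI := hP.1
    by_contra hle
    refine h (P.comap (Ideal.Quotient.mk q)) inferInstance
      (fun a ha => by simp [Ideal.Quotient.eq_zero_iff_mem.2 ha]) (fun e => hle ?_)
      (hP.2 (Ideal.subset_span rfl))
    rw [← Ideal.map_comap_of_surjective _ Ideal.Quotient.mk_surjective M,
      ← Ideal.map_comap_of_surjective _ Ideal.Quotient.mk_surjective P, e, hMc]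
  have h1 : M.height ≤ 1 := Ideal.height_le_one_of_isPrincipal_of_mem_minimalPrimes _ M hmin
  rw [← IsLocalRing.maximalIdeal_height_eq_ringKrullDim]
  refine le_antisymm (WithBot.coe_le_coe.2 h1) ?_
  have hne : (⊥ : Ideal (A ⧸ q)) < M := bot_lt_iff_ne_bot.2 fun e => hfq (by
    rw [← Ideal.Quotient.eq_zero_iff_mem]
    have := hfM; rw [e] at this; exact this)
  have := Ideal.height_add_one_le_of_lt_of_isPrime hne
  rw [Ideal.height_bot, zero_add] at this
  exact WithBot.coe_le_coe.2 this

variable [IsAdicComplete (maximalIdeal A) A]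

/-- The connectedness on an irreducible component. -/
theorem isConnected_component {f : A} (hf : f ∈ maximalIdeal A) {C : Scheme.{u}} [IsIntegral C]
    (w : C ⟶ (FEt.puncturedSpec A : Scheme.{u})) [IsFinite w]
    (hdim : f ∉ ((FEt.puncturedSpec A).ι (w (genericPoint C))).asIdeal →
      (3 : WithBot ℕ∞) ≤ ringKrullDim (A ⧸ ((FEt.puncturedSpec A).ι (w (genericPoint C))).asIdeal)) :
    _root_.IsConnected ((w ≫ (FEt.puncturedSpec A).ι).base ⁻¹' PrimeSpectrum.zeroLocus {f}) := by
  let U := FEt.puncturedSpec A
  let g : C ⟶ Spec (CommRingCat.of A) := w ≫ U.ι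
  let ξ : PrimeSpectrum A := g (genericPoint C)
  by_cases hξ : f ∈ ξ.asIdeal
  · have huniv : g.base ⁻¹' PrimeSpectrum.zeroLocus {f} = Set.univ := Set.eq_univ_of_forall fun c => by
      have hs : ξ ⤳ (g c : PrimeSpectrum A) := (genericPoint_specializes c).map g.continuous
      exact Set.singleton_subset_iff.2 (((PrimeSpectrum.le_iff_specializes _ _).2 hs) hξ)
    rw [show (w ≫ U.ι).base ⁻¹' PrimeSpectrum.zeroLocus {f} = Set.univ from huniv]
    exact isConnected_univ
  haveI : IsFinite (g ∣_ U) := isFinite_comp_ι_restrict U w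
  haveI : CompactSpace U := isCompact_iff_compactSpace.1 (NoetherianSpace.isCompact _)
  haveI : QuasiCompact g := inferInstance
  haveI : LocallyQuasiFinite g := inferInstance
  let π := g.fromNormalization
  let t := g.toNormalization
  have htπ : t ≫ π = g := g.toNormalization_fromNormalization
  haveI : IsFinite π := Groth.Agent.S9675.result g fun W =>
    Groth.ResolveSurf.Normalization.isNagata_spec (Groth.Calg2.CompleteNagata.isNagata_of_isAdicComplete A) W
  haveI : IsOpenImmersion t := inferInstance
  haveI : IsIntegral g.normalization := inferInstance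
  haveI : IsAffine g.normalization := isAffine_of_isAffineHom π
  let e := g.normalization.isoSpec
  let φ := Spec.preimage (e.inv ≫ π)
  have hφ : Spec.map φ = e.inv ≫ π := Spec.map_preimage _
  let D := Γ(g.normalization, ⊤)
  letI : Algebra A D := φ.hom.toAlgebra
  haveI : Module.Finite A D := by
    have : IsFinite (Spec.map φ) := hφ ▸ inferInstance
    exact (IsFinite.SpecMap_iff φ).1 this
  haveI : Nontrivial D := inferInstance
  haveI : IsDomain D := inferInstance
  haveI : Algebra.IsIntegral A D := Algebra.IsIntegral.of_finite A D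
  haveI : IsNoetherianRing D := Algebra.FiniteType.isNoetherianRing A D
  haveI : HenselianLocalRing A := Hensel1.henselianLocalRing_of_henselianRing
  haveI : IsLocalRing D := by
    obtain ⟨ι, _, ee, he, hloc⟩ := Hensel1.exists_completeOrthogonalIdempotents_local A D
    obtain ⟨i, hi⟩ : ∃ i, ee i = 1 := by
      by_contra hno
      simp only [not_exists] at hno
      have h0 : ∀ i, ee i = 0 := fun i =>
        ((IsIdempotentElem.iff_eq_zero_or_one.1 (he.idem i)).resolve_right (hno i))
      exact one_ne_zero (he.complete.symm.trans (Finset.sum_eq_zero fun i _ => h0 i))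
    haveI := hloc i
    have hbot : Ideal.span {1 - ee i} = ⊥ := by rw [hi, sub_self]; exact Ideal.span_singleton_eq_bot.2 rfl
    exact ((Ideal.quotEquivOfEq hbot).trans (RingEquiv.quotientBot _)).isLocalRing
  have hcl : (maximalIdeal D).comap (algebraMap A D) = maximalIdeal A :=
    IsLocalRing.eq_maximalIdeal (Ideal.isMaximal_comap_of_isIntegral_of_isMaximal (maximalIdeal D))
  haveI : IsLocalHom (algebraMap A D) := ⟨fun a ha => by
    by_contra hna
    have : a ∈ (maximalIdeal D).comap (algebraMap A D) := by rw [hcl]; exact hna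
    exact this ha⟩
  haveI : IsAdicComplete (maximalIdeal D) D := EtaleAlgebra.FiniteComplete.isAdicComplete_maximal (C := A)
  -- the kernel is the image of the generic point
  have hgen : π (genericPoint g.normalization) = g (genericPoint C) := by
    rw [← genericPoint_eq_of_isOpenImmersion t, ← Scheme.Hom.comp_apply, htπ]
  have hcomp : ∀ n, (π n : PrimeSpectrum A) = PrimeSpectrum.comap (algebraMap A D) (e.hom n) := fun n => by
    change π n = Spec.map φ (e.hom n)
    rw [hφ, ← Scheme.Hom.comp_apply, Iso.hom_inv_id_assoc]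
  have hker : RingHom.ker (algebraMap A D) = ξ.asIdeal := by
    have h1 := congrArg PrimeSpectrum.asIdeal (hgen.symm.trans (hcomp _))
    rw [genericPoint_eq_of_isOpenImmersion e.hom] at h1
    haveI : IsDomain ↑Γ(g.normalization, ⊤) := inferInstance
    rw [genericPoint_eq_bot_of_affine Γ(g.normalization, ⊤)] at h1
    exact h1.symm
  -- the dimension
  letI : Algebra (A ⧸ ξ.asIdeal) D := (Ideal.Quotient.lift ξ.asIdeal (algebraMap A D)
    (fun a ha => RingHom.mem_ker.1 (hker.symm ▸ ha))).toAlgebra
  haveI : IsScalarTower A (A ⧸ ξ.asIdeal) D := IsScalarTower.of_algebraMap_eq fun a => rfl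
  haveI : Algebra.IsIntegral (A ⧸ ξ.asIdeal) D := Algebra.IsIntegral.tower_top (R := A)
  have hinj : Function.Injective (algebraMap (A ⧸ ξ.asIdeal) D) :=
    RingHom.lift_injective_of_ker_le_ideal _ _ hker.le
  have hd3 : (3 : WithBot ℕ∞) ≤ ringKrullDim D := by
    rw [← EGA41Two.ringKrullDim_eq_of_isIntegral_of_injective hinj]
    exact hdim hξ
  obtain ⟨d, hd⟩ : ∃ d : ℕ, ringKrullDim D = d := by
    obtain ⟨x, hx⟩ := WithBot.ne_bot_iff_exists.1 (ringKrullDim_ne_bot (R := D))
    cases x with
    | top => exact absurd hx.symm (ne_of_lt ringKrullDim_lt_top)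
    | coe n => exact ⟨n, hx.symm⟩
  have hd' : 1 + 2 ≤ d := by rw [hd] at hd3; exact_mod_cast hd3
  have hfD : algebraMap A D f ∈ maximalIdeal D := map_nonunit (algebraMap A D) f hf
  have key := Groth.Agent.S17758.result D d hd 1 hd' (fun _ => algebraMap A D f)
    (Ideal.span {algebraMap A D f}) (ne_top_of_le_ne_top Ideal.IsPrime.ne_top'
      (Ideal.span_le.2 (Set.singleton_subset_iff.2 hfD))) (by rw [Set.range_const])
  have himg : (t ≫ e.hom).base '' (g.base ⁻¹' PrimeSpectrum.zeroLocus {f}) =
      {x : PrimeSpectrum D | Ideal.span {algebraMap A D f} ≤ x.asIdeal ∧ x.asIdeal ≠ maximalIdeal D} := by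
    ext x
    constructor
    · rintro ⟨c, hc, rfl⟩
      have hπt : (π (t c) : PrimeSpectrum A) = g c := by rw [← Scheme.Hom.comp_apply, htπ]
      refine ⟨Ideal.span_le.2 (Set.singleton_subset_iff.2 ?_), fun e' => ?_⟩
      · change f ∈ (PrimeSpectrum.comap (algebraMap A D) (e.hom (t c))).asIdeal
        rw [← hcomp, hπt]
        exact Set.singleton_subset_iff.1 hc
      · refine (w c).2 ?_
        change g c = closedPoint A
        rw [← hπt, hcomp]
        refine PrimeSpectrum.ext ?_
        change (e.hom (t c)).asIdeal.comap _ = _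
        rw [show (e.hom (t c)).asIdeal = maximalIdeal D from e', hcl]
        rfl
    · rintro ⟨hx, hx'⟩
      let n := e.inv x
      have hn : e.hom n = x := by rw [← Scheme.Hom.comp_apply, Iso.inv_hom_id]; rfl
      have hπn : (π n : PrimeSpectrum A) = PrimeSpectrum.comap (algebraMap A D) x := by rw [hcomp, hn]
      have hmem : π n ∈ U := fun e' => by
        have hm : x ∉ Groth.Pi1Vdim.punc A D := fun h => h (hπn.symm.trans e')
        rw [Groth.Pi1Vdim.punc_eq_of_isLocalRing, Set.mem_compl_singleton_iff, not_not] at hm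
        exact hx' (congrArg PrimeSpectrum.asIdeal hm)
      obtain ⟨c, hc⟩ := preimage_subset_range_toNormalization g U hmem
      refine ⟨c, ?_, ?_⟩
      · show g c ∈ (PrimeSpectrum.zeroLocus {f} : Set (PrimeSpectrum A))
        rw [show g c = π n by rw [← hc, ← Scheme.Hom.comp_apply, htπ], hπn]
        refine Set.singleton_subset_iff.2 ?_
        change algebraMap A D f ∈ x.asIdeal
        exact hx (Ideal.mem_span_singleton_self _)
      · rw [Scheme.Hom.comp_apply]
        change e.hom (t c) = x
        rw [hc]; exact hn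
  rw [← himg] at key
  exact ⟨Set.image_nonempty.1 key.1, (t ≫ e.hom).isOpenEmbedding.isInducing.isPreconnected_image.1 key.2⟩

/-- Clopens of a finite flat cover of the punctured spectrum correspond to those of its trace on `V(f)`. -/
theorem clopenBij_complete {f : A} (hf : f ∈ maximalIdeal A)
    (hmin : ∀ p ∈ minimalPrimes A, f ∉ p → (3 : WithBot ℕ∞) ≤ ringKrullDim (A ⧸ p))
    (hone : ∀ (p : Ideal A) [p.IsPrime], f ∉ p → ringKrullDim (A ⧸ p) = 1 →
      (2 : ℕ∞) ≤ LocCoh.depth (Localization.AtPrime p) (Localization.AtPrime p))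
    {W : Scheme.{u}} (w : W ⟶ (FEt.puncturedSpec A : Scheme.{u})) [IsFinite w] [Flat w]
    {W' : Type*} [TopologicalSpace W'] (q : W' → W) (hq : Topology.IsEmbedding q)
    (hr : Set.range q = (w ≫ (FEt.puncturedSpec A).ι).base ⁻¹' PrimeSpectrum.zeroLocus {f}) :
    HensPair.ClopenBij q := by
  let U := FEt.puncturedSpec A
  let g : W ⟶ Spec (CommRingCat.of A) := w ≫ U.ι
  haveI : CompactSpace U := isCompact_iff_compactSpace.1 (NoetherianSpace.isCompact _)
  haveI : CompactSpace W := QuasiCompact.compactSpace_of_compactSpace w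
  haveI : IsLocallyNoetherian W := LocallyOfFiniteType.isLocallyNoetherian g
  haveI : IsNoetherian W := {}
  refine clopenBij_of_components q hq (fun Z hZ => ?_) (fun K hK hdis z hz => ?_)
  · obtain ⟨η, hη⟩ : ∃ η, IsGenericPoint η Z :=
      QuasiSober.sober hZ.1 (isClosed_of_mem_irreducibleComponents Z hZ)
    let I := IntMult.ptIdeal η
    let i := I.subschemeι
    haveI : IsIntegral I.subscheme := CohTwo.isIntegral_closure_subscheme rfl
    have hir : Set.range i.base = Z := by
      rw [← hη.def]
      exact PropsBasic2.range_vanishingIdeal_subschemeι ⟨closure {η}, isClosed_closure⟩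
    have hgen : i (genericPoint I.subscheme) = η :=
      CohTwo.apply_genericPoint_eq i (hir.trans hη.def.symm)
    have h := isConnected_component hf (i ≫ w) ?_
    · have h' := h.image i.base i.continuous.continuousOn
      rwa [show i.base '' (((i ≫ w) ≫ U.ι).base ⁻¹' PrimeSpectrum.zeroLocus {f}) = Z ∩ Set.range q by
        rw [Category.assoc, Scheme.Hom.comp_base, TopCat.coe_comp, Set.preimage_comp,
          Set.image_preimage_eq_inter_range, hir, hr, Set.inter_comm]] at h'
    · rw [Scheme.Hom.comp_apply, hgen]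
      intro hfη
      refine hmin _ ⟨⟨inferInstance, bot_le⟩, fun P hP hle => ?_⟩ hfη
      have hsp : (⟨P, hP.1⟩ : PrimeSpectrum A) ⤳ g η := (PrimeSpectrum.le_iff_specializes _ _).1 hle
      obtain ⟨z', hz', hzy⟩ := (Flat.generalizingMap g) hsp
      have hzη : z' = η := by
        have hsub : Z ⊆ closure {z'} := hη.def ▸ hz'.closure_subset
        have := hZ.2 isIrreducible_singleton.closure hsub
        exact (IsGenericPoint.eq (show IsGenericPoint z' Z from
          (le_antisymm this hsub : closure {z'} = Z)) hη)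
      exact (congrArg PrimeSpectrum.asIdeal (hzy.symm.trans (congrArg g.base hzη))).ge
  · -- points of closed sets missing `V(f)`
    let x : PrimeSpectrum A := g z
    have hcl : IsClosed (w.base '' K) := w.isClosedMap K hK
    have hoff : ∀ y : U, y ∈ w.base '' K → f ∉ (U.ι y).asIdeal := by
      rintro _ ⟨k, hk, rfl⟩ hfk
      exact Set.disjoint_left.1 hdis hk (hr.ge (Set.singleton_subset_iff.2 hfk))
    have habove : ∀ y : U, w z ⤳ y → f ∉ (U.ι y).asIdeal := fun y hy =>
      hoff y (hy.mem_closed hcl ⟨z, hz, rfl⟩)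
    have hxf : f ∉ x.asIdeal := habove (w z) specializes_rfl
    have hone1 : ringKrullDim (A ⧸ x.asIdeal) = 1 := by
      refine ringKrullDim_quotient_eq_one hf _ hxf fun P hP hle hPm => ?_
      let y : U := ⟨(⟨P, hP⟩ : PrimeSpectrum A), fun e => hPm (congrArg PrimeSpectrum.asIdeal e)⟩
      exact habove y (U.ι.isEmbedding.isInducing.specializes_iff.1
        ((PrimeSpectrum.le_iff_specializes _ _).1 hle))
    refine ⟨?_, ?_⟩
    · refine isClosed_iff_clusterPt.2 fun z' hz' => ?_
      have hzz : z ⤳ z' := specializes_iff_mem_closure.2 (mem_closure_iff_clusterPt.2 hz')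
      have hle : x.asIdeal ≤ (g z' : PrimeSpectrum A).asIdeal :=
        (PrimeSpectrum.le_iff_specializes _ _).2 (hzz.map g.continuous)
      refine (Groth.Agent.S9683.eq_of_specializes w hzz ?_).symm
      apply U.ι.isEmbedding.injective
      by_contra hne
      have hlt : x.asIdeal < (g z' : PrimeSpectrum A).asIdeal :=
        lt_of_le_of_ne hle fun e => hne (PrimeSpectrum.ext e)
      have hlt2 : (g z' : PrimeSpectrum A).asIdeal < maximalIdeal A :=
        lt_of_le_of_ne (IsLocalRing.le_maximalIdeal Ideal.IsPrime.ne_top')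
          fun e => (w z').2 (PrimeSpectrum.ext e)
      -- a chain of length two in `A ⧸ x`
      let π := Ideal.Quotient.mk x.asIdeal
      haveI : (g z' : PrimeSpectrum A).asIdeal.IsPrime := inferInstance
      have hk : RingHom.ker π ≤ (g z' : PrimeSpectrum A).asIdeal := by rw [Ideal.mk_ker]; exact hle
      have hk' : RingHom.ker π ≤ maximalIdeal A := hk.trans hlt2.le
      haveI : ((g z' : PrimeSpectrum A).asIdeal.map π).IsPrime :=
        Ideal.map_isPrime_of_surjective Ideal.Quotient.mk_surjective hk
      haveI : ((maximalIdeal A).map π).IsPrime :=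
        Ideal.map_isPrime_of_surjective Ideal.Quotient.mk_surjective hk'
      have hc : ∀ I : Ideal A, RingHom.ker π ≤ I → (I.map π).comap π = I := fun I hI => by
        rw [Ideal.comap_map_of_surjective' _ Ideal.Quotient.mk_surjective, sup_eq_left.2 hI]
      have hl1 : (⊥ : Ideal (A ⧸ x.asIdeal)) < (g z' : PrimeSpectrum A).asIdeal.map π := by
        refine bot_lt_iff_ne_bot.2 fun e => hlt.not_ge ?_
        rw [← hc _ hk, e, ← RingHom.ker_eq_comap_bot, Ideal.mk_ker]
      have hl2 : (g z' : PrimeSpectrum A).asIdeal.map π < (maximalIdeal A).map π := by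
        refine lt_of_le_of_ne (Ideal.map_mono hlt2.le) fun e => hlt2.ne ?_
        rw [← hc _ hk, ← hc _ hk', e]
      have h1 := Ideal.height_add_one_le_of_lt_of_isPrime hl1
      have h2 := Ideal.height_add_one_le_of_lt_of_isPrime hl2
      rw [Ideal.height_bot, zero_add] at h1
      have h3 : (2 : WithBot ℕ∞) ≤ ringKrullDim (A ⧸ x.asIdeal) := by
        refine le_trans ?_ (Ideal.height_le_ringKrullDim_of_ne_top
          (I := (maximalIdeal A).map π) Ideal.IsPrime.ne_top')
        exact WithBot.coe_le_coe.2 (((add_le_add h1 le_rfl).trans h2).trans' (le_of_eq one_add_one_eq_two.symm))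
      rw [hone1] at h3
      exact absurd h3 (by decide)
    · haveI : Flat g := inferInstance
      haveI := Flat.stalkMap g z
      letI := (g.stalkMap z).hom.toAlgebra
      haveI : Module.Flat ((Spec (CommRingCat.of A)).presheaf.stalk (g z)) (W.presheaf.stalk z) := Flat.stalkMap g z
      haveI : IsLocalHom (algebraMap ((Spec (CommRingCat.of A)).presheaf.stalk (g z)) (W.presheaf.stalk z)) :=
        inferInstanceAs (IsLocalHom (g.stalkMap z).hom)
      haveI : IsLocallyNoetherian (Spec (CommRingCat.of A)) := inferInstance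
      refine le_trans ?_ (Calg4.le_depth_of_flat (A := (Spec (CommRingCat.of A)).presheaf.stalk (g z)))
      let e : (Spec (CommRingCat.of A)).presheaf.stalk (g z) ≃+* Localization.AtPrime x.asIdeal :=
        (StructureSheaf.stalkIso A x).symm.toRingEquiv
      rw [Groth.Ega4b.depth_eq_of_ringEquiv e]
      exact hone x.asIdeal hxf hone1

end Groth.Pi1Lef
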