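import Groth.Agent.Pi1Lef.Descent
import Groth.Agent.Pi1Lef.Complete
import Groth.Agent.Pi1Lef.ClopenOfFF
import Groth.Agent.Pi1PBC.Basic
import Groth.Agent.Calg6.LimitFlatComplete

/-!
# Restriction of covers to a punctured hypersurface, via the completion
-/

universe u

set_option autoImplicit false
set_option backward.isDefEq.respectTransparency false
set_option backward.defeqAttrib.useBackward true
set_option linter.style.haveILetI false

open CategoryTheory CategoryTheory.Limits AlgebraicGeometry TopologicalSpace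
open IsLocalRing (maximalIdeal closedPoint)

namespace Groth.Pi1Lef

variable (A : Type u) [CommRing A] [IsNoetherianRing A] [IsLocalRing A]

theorem completion_map_maximalIdeal :
    (maximalIdeal A).map (algebraMap A (AdicCompletion (maximalIdeal A) A)) =
      maximalIdeal (AdicCompletion (maximalIdeal A) A) :=
  (AdicCompletion.maximalIdeal_eq_map (R := A)).symm

theorem completion_exists_sub_mem (y : AdicCompletion (maximalIdeal A) A) :
    ∃ a : A, y - algebraMap A _ a ∈ maximalIdeal (AdicCompletion (maximalIdeal A) A) := by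
  obtain ⟨a, ha⟩ := Ideal.Quotient.mk_surjective (AdicCompletion.evalOneₐ (maximalIdeal A) y)
  refine ⟨a, ?_⟩
  rw [← completion_map_maximalIdeal, ← AdicCompletion.ker_evalOneₐ_eq_map _ (maximalIdeal A).fg_of_isNoetherianRing,
    RingHom.mem_ker, map_sub, sub_eq_zero]
  exact ha.symm.trans ((AdicCompletion.evalOneₐ (maximalIdeal A)).commutes a).symm

variable {A}

theorem completion_isNoetherianRing (A : Type u) [CommRing A] [IsNoetherianRing A] [IsLocalRing A] :
    IsNoetherianRing (AdicCompletion (maximalIdeal A) A) :=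
  Groth.Calg1.isNoetherianRing_adicCompletion _ (maximalIdeal A).fg_of_isNoetherianRing

theorem range_mk_base (f : A) :
    Set.range (Spec.map (CommRingCat.ofHom (Ideal.Quotient.mk (Ideal.span {f})))).base =
      PrimeSpectrum.zeroLocus {f} := by
  refine (range_comap_of_surjective _ _ (Ideal.Quotient.mk_surjective (I := Ideal.span {f}))).trans ?_
  rw [Ideal.mk_ker, PrimeSpectrum.zeroLocus_span]

theorem range_fst_hypersurface (f : A) {W : Scheme.{u}} (w : W ⟶ (FEt.puncturedSpec A : Scheme.{u})) :
    Set.range (pullback.fst w (pullback.fst (FEt.puncturedSpec A).ι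
        (Spec.map (CommRingCat.ofHom (Ideal.Quotient.mk (Ideal.span {f})))))).base =
      (w ≫ (FEt.puncturedSpec A).ι).base ⁻¹' PrimeSpectrum.zeroLocus {f} := by
  rw [Scheme.Pullback.range_fst, Scheme.Pullback.range_fst, range_mk_base]
  rfl

/-- Full faithfulness descends from the completion. -/
theorem fullyFaithful_of_completion {f : A} [HenselianRing A (Ideal.span {f})]
    (h : ∀ {W : Scheme.{u}} (w : W ⟶ (FEt.puncturedSpec A : Scheme.{u})) [IsFinite w] [Etale w],
      ∃ (W₁ : Type u) (_ : TopologicalSpace W₁) (q₁ : W₁ → (pullback (w ≫ (FEt.puncturedSpec A).ι)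
          (Spec.map (CommRingCat.ofHom (algebraMap A (AdicCompletion (maximalIdeal A) A)))) : Scheme.{u})),
        Topology.IsEmbedding q₁ ∧
        Set.range q₁ = (pullback.fst (w ≫ (FEt.puncturedSpec A).ι)
          (Spec.map (CommRingCat.ofHom (algebraMap A (AdicCompletion (maximalIdeal A) A))))).base ⁻¹'
            ((w ≫ (FEt.puncturedSpec A).ι).base ⁻¹' PrimeSpectrum.zeroLocus {f}) ∧
        HensPair.ClopenBij q₁) :
    (FEt.restrict (pullback.fst (FEt.puncturedSpec A).ι
      (Spec.map (CommRingCat.ofHom (Ideal.Quotient.mk (Ideal.span {f})))))).Full ∧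
    (FEt.restrict (pullback.fst (FEt.puncturedSpec A).ι
      (Spec.map (CommRingCat.ofHom (Ideal.Quotient.mk (Ideal.span {f})))))).Faithful := by
  haveI := Groth.Calg6.LimitFlat.faithfullyFlat_completion A
  haveI := completion_isNoetherianRing A
  haveI : IsClosedImmersion (Spec.map (CommRingCat.ofHom (Ideal.Quotient.mk (Ideal.span {f})))) :=
    IsClosedImmersion.spec_of_surjective _ Ideal.Quotient.mk_surjective
  haveI : IsClosedImmersion (pullback.fst (FEt.puncturedSpec A).ι
      (Spec.map (CommRingCat.ofHom (Ideal.Quotient.mk (Ideal.span {f}))))) :=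
    MorphismProperty.pullback_fst _ _ inferInstance
  refine Pi1PBC.fullyFaithful_of_clopenBij _ fun W => ?_
  let w : W.left ⟶ (FEt.puncturedSpec A : Scheme.{u}) := W.hom
  haveI : IsFinite w := W.prop.1
  haveI : Etale w := W.prop.2
  haveI : IsClosedImmersion (pullback.fst w (pullback.fst (FEt.puncturedSpec A).ι
      (Spec.map (CommRingCat.ofHom (Ideal.Quotient.mk (Ideal.span {f})))))) :=
    MorphismProperty.pullback_fst _ _ inferInstance
  obtain ⟨W₁, _, q₁, hq₁, hr₁, hb⟩ := h w
  exact clopenBij_descend (completion_map_maximalIdeal A) (completion_exists_sub_mem A) w _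
    (pullback.fst w _).isClosedEmbedding.isEmbedding (range_fst_hypersurface f w) q₁ hq₁
    (by rw [range_fst_hypersurface]; exact hr₁) hb

/-- Conditions on the completion suffice. -/
theorem fullyFaithful_of_completion_conditions {f : A} (hf : f ∈ maximalIdeal A)
    [HenselianRing A (Ideal.span {f})]
    (hmin : ∀ p ∈ minimalPrimes (AdicCompletion (maximalIdeal A) A),
      algebraMap A (AdicCompletion (maximalIdeal A) A) f ∉ p →
        (3 : WithBot ℕ∞) ≤ ringKrullDim (AdicCompletion (maximalIdeal A) A ⧸ p))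
    (hone : ∀ (p : Ideal (AdicCompletion (maximalIdeal A) A)) [p.IsPrime],
      algebraMap A (AdicCompletion (maximalIdeal A) A) f ∉ p →
      ringKrullDim (AdicCompletion (maximalIdeal A) A ⧸ p) = 1 →
      (2 : ℕ∞) ≤ LocCoh.depth (Localization.AtPrime p) (Localization.AtPrime p)) :
    (FEt.restrict (pullback.fst (FEt.puncturedSpec A).ι
      (Spec.map (CommRingCat.ofHom (Ideal.Quotient.mk (Ideal.span {f})))))).Full ∧
    (FEt.restrict (pullback.fst (FEt.puncturedSpec A).ι
      (Spec.map (CommRingCat.ofHom (Ideal.Quotient.mk (Ideal.span {f})))))).Faithful := by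
  refine fullyFaithful_of_completion fun {W} w _ _ => ?_
  haveI := completion_isNoetherianRing A
  haveI := Groth.Calg6.LimitFlat.faithfullyFlat_completion A
  let C := AdicCompletion (maximalIdeal A) A
  let σ := Spec.map (CommRingCat.ofHom (algebraMap A C))
  let U := FEt.puncturedSpec A
  have hU : σ ⁻¹ᵁ U = FEt.puncturedSpec C := by
    refine Opens.ext (Set.ext fun x => ?_)
    show PrimeSpectrum.comap (algebraMap A C) x ∈ ({closedPoint A}ᶜ : Set (PrimeSpectrum A)) ↔
      x ∈ ({closedPoint C}ᶜ : Set (PrimeSpectrum C))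
    rw [Set.mem_compl_singleton_iff, Set.mem_compl_singleton_iff, ne_eq, ne_eq, not_iff_not]
    constructor
    · intro h
      refine PrimeSpectrum.ext (le_antisymm (IsLocalRing.le_maximalIdeal x.isPrime.ne_top) ?_)
      rw [show (closedPoint C).asIdeal = maximalIdeal C from rfl, ← completion_map_maximalIdeal,
        Ideal.map_le_iff_le_comap]
      exact (congrArg PrimeSpectrum.asIdeal h).ge
    · rintro rfl
      refine PrimeSpectrum.ext (le_antisymm (IsLocalRing.le_maximalIdeal Ideal.IsPrime.ne_top') ?_)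
      rw [show (closedPoint A).asIdeal = maximalIdeal A from rfl]
      exact Ideal.map_le_iff_le_comap.1 (completion_map_maximalIdeal A).le
  let ι' : ((σ ⁻¹ᵁ U) : Scheme.{u}) ≅ (FEt.puncturedSpec C : Scheme.{u}) := (Spec (CommRingCat.of C)).isoOfEq hU
  let T := pullback w (σ ∣_ U)
  let w' : T ⟶ (FEt.puncturedSpec C : Scheme.{u}) := pullback.snd w (σ ∣_ U) ≫ ι'.hom
  haveI : IsFinite (pullback.snd w (σ ∣_ U)) := MorphismProperty.pullback_snd _ _ inferInstance
  haveI : Flat (pullback.snd w (σ ∣_ U)) := MorphismProperty.pullback_snd _ _ inferInstance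
  have hT : IsPullback (pullback.fst w (σ ∣_ U)) (pullback.snd w (σ ∣_ U) ≫ (σ ⁻¹ᵁ U).ι) (w ≫ U.ι) σ :=
    (IsPullback.of_hasPullback w (σ ∣_ U)).paste_vert (isPullback_morphismRestrict σ U)
  let h := Scheme.homeoOfIso hT.isoPullback
  let Z : Set T := (w' ≫ (FEt.puncturedSpec C).ι).base ⁻¹' PrimeSpectrum.zeroLocus {algebraMap A C f}
  have hfC : algebraMap A C f ∈ maximalIdeal C := by
    rw [← completion_map_maximalIdeal]; exact Ideal.mem_map_of_mem _ hf
  have hb : HensPair.ClopenBij (Subtype.val : Z → T) :=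
    clopenBij_complete hfC hmin hone w' _ Topology.IsEmbedding.subtypeVal Subtype.range_val
  refine ⟨Z, inferInstance, h ∘ Subtype.val, h.isEmbedding.comp Topology.IsEmbedding.subtypeVal, ?_,
    (HensPair.ClopenBij.comp_homeomorph h).2 hb⟩
  rw [Set.range_comp, Subtype.range_val]
  ext y
  obtain ⟨x, rfl⟩ := h.surjective y
  rw [h.injective.mem_set_image]
  have h1 : (pullback.fst (w ≫ U.ι) σ) (h x) = pullback.fst w (σ ∣_ U) x :=
    congr($(hT.isoPullback_hom_fst).base x)
  have h2 : (w ≫ U.ι) (pullback.fst w (σ ∣_ U) x) = σ ((w' ≫ (FEt.puncturedSpec C).ι) x) := by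
    rw [← Scheme.Hom.comp_apply, hT.w, Scheme.Hom.comp_apply]
    congr 1
    simp only [w', ι', Category.assoc, Scheme.isoOfEq_hom_ι]
    rfl
  rw [Set.mem_preimage, Set.mem_preimage, Set.mem_preimage, h1, h2]
  generalize (w' ≫ (FEt.puncturedSpec C).ι) x = z
  constructor
  · intro hz
    have h' : algebraMap A C f ∈ z.asIdeal := Set.singleton_subset_iff.1 hz
    exact Set.singleton_subset_iff.2 h'
  · intro hz
    have h' : algebraMap A C f ∈ z.asIdeal :=
      (Set.singleton_subset_iff.1 ((PrimeSpectrum.mem_zeroLocus (σ z) {f}).1 hz) :)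
    exact Set.singleton_subset_iff.2 h'

end Groth.Pi1Lef
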