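import Groth.Agent.Pi1Lef.Integral
import Groth.Agent.PropsBasic2.Reduced
import Groth.Agent.HensPair.Couple
import Groth.Agent.HensPair.IdemClopen
import Groth.Agent.HensPair.SectionsBaseChange
import Groth.Agent.Hensel1.Pairs
import Groth.Agent.Pi1Vdim.Connected

/-!
# Descent of the clopen correspondence from the completion

`(A, (f))` henselian, `W` finite over the punctured spectrum of `A`, `C` faithfully flat over `A`,
complete, with `m C = m_C` and trivial residue extension. If clopens of `W_C` correspond to those of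
its trace on `V(f)`, the same holds for `W`.
-/

universe u

set_option autoImplicit false
set_option backward.isDefEq.respectTransparency false
set_option backward.defeqAttrib.useBackward true
set_option linter.style.haveILetI false

open CategoryTheory CategoryTheory.Limits AlgebraicGeometry TopologicalSpace
open IsLocalRing (maximalIdeal closedPoint)
open scoped TensorProduct

namespace Groth.Pi1Lef

/-- A point in the closure of an open set of a Noetherian scheme has a generalization in it. -/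
theorem exists_specializes_of_mem_closure {X : Scheme.{u}} [NoetherianSpace X] {S : Set X} (hS : IsOpen S)
    {x : X} (hx : x ∈ closure S) : ∃ s ∈ S, s ⤳ x := by
  let T : Set (Set X) := {Z | Z ∈ irreducibleComponents X ∧ (Z ∩ S).Nonempty}
  have hfin : T.Finite := NoetherianSpace.finite_irreducibleComponents.subset fun Z hZ => hZ.1
  have hcl : IsClosed (⋃₀ T) := by
    rw [Set.sUnion_eq_biUnion]
    exact hfin.isClosed_biUnion fun Z hZ => isClosed_of_mem_irreducibleComponents Z hZ.1
  have hsub : S ⊆ ⋃₀ T := fun s hs =>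
    ⟨_, ⟨irreducibleComponent_mem_irreducibleComponents s, s, mem_irreducibleComponent, hs⟩,
      mem_irreducibleComponent⟩
  obtain ⟨Z, ⟨hZ, hZS⟩, hxZ⟩ := hcl.closure_subset_iff.2 hsub hx
  obtain ⟨η, hη⟩ : ∃ η, IsGenericPoint η Z :=
    QuasiSober.sober hZ.1 (isClosed_of_mem_irreducibleComponents Z hZ)
  exact ⟨η, (hη.mem_open_set_iff hS).2 hZS, hη.specializes hxZ⟩

/-- The affine basic opens of global sections lie in the range of `toSpecΓ`. -/
theorem basicOpen_subset_range_toSpecΓ (X : Scheme.{u}) [CompactSpace X] [QuasiSeparatedSpace X]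
    {r : Γ(X, ⊤)} (hr : IsAffineOpen (X.basicOpen r)) :
    (PrimeSpectrum.basicOpen r : Set (PrimeSpectrum Γ(X, ⊤))) ⊆ Set.range X.toSpecΓ.base := by
  intro x hx
  haveI := isLocalization_basicOpen_of_qcqs isCompact_univ isQuasiSeparated_univ r
  letI : Algebra Γ(X, ⊤) Γ(X, X.basicOpen r) :=
    (X.presheaf.map (homOfLE le_top : X.basicOpen r ⟶ ⊤).op).hom.toAlgebra
  obtain ⟨y, rfl⟩ : x ∈ Set.range (PrimeSpectrum.comap (algebraMap Γ(X, ⊤) Γ(X, X.basicOpen r))) := by
    rw [PrimeSpectrum.localization_away_comap_range (S := Γ(X, X.basicOpen r)) r]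
    exact hx
  obtain ⟨z, rfl⟩ := hr.isoSpec.hom.surjective y
  refine ⟨(X.basicOpen r).ι z, ?_⟩
  have h := Scheme.Opens.toSpecΓ_SpecMap_presheaf_map_top (X.basicOpen r)
  rw [show (X.basicOpen r).toSpecΓ = hr.isoSpec.hom from rfl] at h
  exact (congr($(h).base z)).symm

variable {A : Type u} [CommRing A] [IsNoetherianRing A] [IsLocalRing A]
  {C : Type u} [CommRing C] [IsNoetherianRing C] [IsLocalRing C] [IsAdicComplete (maximalIdeal C) C]
  [Algebra A C] [Module.FaithfullyFlat A C]

/-- Descent of the clopen correspondence along `A → C`. -/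
theorem clopenBij_descend {f : A} [HenselianRing A (Ideal.span {f})]
    (hmap : (maximalIdeal A).map (algebraMap A C) = maximalIdeal C)
    (hsur : ∀ y : C, ∃ a : A, y - algebraMap A C a ∈ maximalIdeal C)
    {W : Scheme.{u}} (w : W ⟶ (FEt.puncturedSpec A : Scheme.{u})) [IsFinite w]
    {W₀ : Type*} [TopologicalSpace W₀] (q : W₀ → W) (hq : Topology.IsEmbedding q)
    (hr : Set.range q = (w ≫ (FEt.puncturedSpec A).ι).base ⁻¹' PrimeSpectrum.zeroLocus {f})
    {W₁ : Type*} [TopologicalSpace W₁]
    (q₁ : W₁ → (pullback (w ≫ (FEt.puncturedSpec A).ι) (Spec.map (CommRingCat.ofHom (algebraMap A C))) : Scheme.{u}))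
    (hq₁ : Topology.IsEmbedding q₁)
    (hr₁ : Set.range q₁ = (pullback.fst (w ≫ (FEt.puncturedSpec A).ι)
      (Spec.map (CommRingCat.ofHom (algebraMap A C)))).base ⁻¹' Set.range q)
    (h : HensPair.ClopenBij q₁) : HensPair.ClopenBij q := by
  classical
  let U := FEt.puncturedSpec A
  let g : W ⟶ Spec (CommRingCat.of A) := w ≫ U.ι
  let σ := Spec.map (CommRingCat.ofHom (algebraMap A C))
  let p₁ : pullback g σ ⟶ W := pullback.fst g σ
  haveI : Flat σ := HasRingHomProperty.Spec_iff.2 (RingHom.flat_algebraMap_iff.2 inferInstance)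
  haveI : Surjective σ :=
    ⟨PrimeSpectrum.comap_surjective_of_faithfullyFlat (A := A) (B := C)⟩
  haveI : Surjective p₁ := MorphismProperty.pullback_fst _ _ (inferInstance : Surjective σ)
  haveI : Flat p₁ := MorphismProperty.pullback_fst _ _ (inferInstance : Flat σ)
  haveI : CompactSpace U := isCompact_iff_compactSpace.1 (NoetherianSpace.isCompact _)
  haveI : CompactSpace W := QuasiCompact.compactSpace_of_compactSpace w
  haveI : IsLocallyNoetherian W := LocallyOfFiniteType.isLocallyNoetherian g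
  haveI : IsNoetherian W := {}
  haveI : CompactSpace ↥(pullback g σ) := QuasiCompact.compactSpace_of_compactSpace (pullback.snd g σ)
  haveI : IsLocallyNoetherian (pullback g σ) := LocallyOfFiniteType.isLocallyNoetherian (pullback.snd g σ)
  haveI : IsNoetherian (pullback g σ) := {}
  have hqcl : IsClosed (Set.range q) := by
    rw [hr]; exact (PrimeSpectrum.isClosed_zeroLocus _).preimage g.continuous
  let r₁ : W₁ → W₀ := fun v => hq.toHomeomorph.symm ⟨p₁ (q₁ v), hr₁.le ⟨v, rfl⟩⟩
  have hr₁q : ∀ v, q (r₁ v) = p₁ (q₁ v) := fun v =>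
    congrArg Subtype.val (hq.toHomeomorph.apply_symm_apply ⟨p₁ (q₁ v), hr₁.le ⟨v, rfl⟩⟩)
  have hr₁c : Continuous r₁ :=
    hq.toHomeomorph.symm.continuous.comp ((p₁.continuous.comp hq₁.continuous).subtype_mk _)
  intro V hV
  obtain ⟨Ĉ, ⟨hĈ, hĈV⟩, hĈu⟩ := h (r₁ ⁻¹' V) (hV.preimage hr₁c)
  -- uniqueness
  suffices hex : ∃ C₀ : Set W, IsClopen C₀ ∧ q ⁻¹' C₀ = V by
    obtain ⟨C₀, hC₀⟩ := hex
    refine ⟨C₀, hC₀, fun C₁ hC₁ => ?_⟩
    have key : ∀ C' : Set W, IsClopen C' → q ⁻¹' C' = V → p₁.base ⁻¹' C' = Ĉ := fun C' hC' hC'V =>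
      hĈu _ ⟨hC'.preimage p₁.continuous, by
        ext v
        rw [Set.mem_preimage, Set.mem_preimage, ← hr₁q, ← Set.mem_preimage, hC'V]
        rfl⟩
    exact p₁.surjective.preimage_injective ((key C₁ hC₁.1 hC₁.2).trans (key C₀ hC₀.1 hC₀.2).symm)
  -- the closure of the part off `V(f)`
  let S : Set W := g.base ⁻¹' (PrimeSpectrum.basicOpen f : Set (PrimeSpectrum A))
  have hSopen : IsOpen S := (PrimeSpectrum.basicOpen f).2.preimage g.continuous
  have hSq : ∀ x, x ∈ S ↔ x ∉ Set.range q := fun x => by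
    rw [hr]
    exact ⟨fun hx hx' => hx (hx' (Set.mem_singleton f)),
      fun hx hx' => hx (Set.singleton_subset_iff.2 hx')⟩
  let I := Scheme.IdealSheafData.vanishingIdeal (⟨closure S, isClosed_closure⟩ : Closeds W)
  let i : I.subscheme ⟶ W := I.subschemeι
  have hir : Set.range i.base = closure S :=
    PropsBasic2.range_vanishingIdeal_subschemeι ⟨closure S, isClosed_closure⟩
  let v : I.subscheme ⟶ (U : Scheme.{u}) := i ≫ w
  let π : pullback i p₁ ⟶ I.subscheme := pullback.fst i p₁
  let k : pullback i p₁ ⟶ pullback g σ := pullback.snd i p₁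
  let c : pullback i p₁ ⟶ Spec (CommRingCat.of C) := k ≫ pullback.snd g σ
  have H : IsPullback π c (v ≫ U.ι) σ := by
    have := (IsPullback.of_hasPullback i p₁).paste_vert (IsPullback.of_hasPullback g σ)
    rwa [Category.assoc]
  haveI : IsClosedImmersion k := MorphismProperty.pullback_snd _ _ (inferInstance : IsClosedImmersion i)
  haveI : IsLocallyNoetherian (pullback i p₁) := LocallyOfFiniteType.isLocallyNoetherian k
  have hkr : Set.range k.base = p₁.base ⁻¹' closure S := by
    rw [← hir]; exact Scheme.Pullback.range_snd i p₁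
  have hmax : ∀ η : ↥(pullback i p₁), (∀ y, y ⤳ η → y = η) → ¬ IsClosed ({η} : Set ↥(pullback i p₁)) := by
    intro η hη hcl
    obtain ⟨s, hs, hsx⟩ := exists_specializes_of_mem_closure hSopen (hkr.le ⟨η, rfl⟩)
    obtain ⟨η', hη', hη's⟩ := Flat.generalizingMap p₁ hsx
    obtain ⟨y, hy⟩ : η' ∈ Set.range k.base := hkr.ge (by
      show p₁ η' ∈ closure S
      rw [hη's]; exact subset_closure hs)
    have hyη : y = η := hη y (k.isEmbedding.isInducing.specializes_iff.1 (by rw [hy]; exact hη'))
    have hηS : p₁ (k η) ∈ S := by rw [← hyη, hy, hη's]; exact hs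
    have hgen : ∀ z, z ⤳ k η → z = k η := fun z hz => by
      obtain ⟨z', hz'⟩ : z ∈ Set.range k.base :=
        hkr.ge (subset_closure ((hz.map p₁.continuous).mem_open hSopen hηS))
      rw [← hz', hη z' (k.isEmbedding.isInducing.specializes_iff.1 (by rw [hz']; exact hz))]
    have hcl' : IsClosed ({k η} : Set ↥(pullback g σ)) := by
      rw [← Set.image_singleton]; exact k.isClosedEmbedding.isClosedMap _ hcl
    have hop : IsOpen ({k η} : Set ↥(pullback g σ)) := by
      refine isClosed_compl_iff.1 ?_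
      have e : ({k η} : Set ↥(pullback g σ))ᶜ =
          ⋃₀ {Z | Z ∈ irreducibleComponents ↥(pullback g σ) ∧ k η ∉ Z} := by
        ext z
        refine ⟨fun hz => ?_, fun ⟨Z, hZ, hzZ⟩ hz => hZ.2 (Set.mem_singleton_iff.1 hz ▸ hzZ)⟩
        refine ⟨_, ⟨irreducibleComponent_mem_irreducibleComponents z, fun hmem => hz ?_⟩,
          mem_irreducibleComponent⟩
        obtain ⟨θ, hθ⟩ : ∃ θ, IsGenericPoint θ (irreducibleComponent z) :=
          QuasiSober.sober isIrreducible_irreducibleComponent isClosed_irreducibleComponent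
        have hθe := hgen θ (hθ.specializes hmem)
        have hzc : z ∈ closure ({k η} : Set ↥(pullback g σ)) := by
          rw [← hθe, hθ.def]; exact mem_irreducibleComponent
        rwa [hcl'.closure_eq] at hzc
      rw [e, Set.sUnion_eq_biUnion]
      exact (NoetherianSpace.finite_irreducibleComponents.subset fun Z hZ => hZ.1).isClosed_biUnion
        fun Z hZ => isClosed_of_mem_irreducibleComponents Z hZ.1
    have hempty : q₁ ⁻¹' ({k η} : Set ↥(pullback g σ)) = ∅ :=
      Set.eq_empty_iff_forall_notMem.2 fun x hx => (hSq _).1 hηS (by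
        rw [← show q₁ x = k η from hx]; exact hr₁.le ⟨x, rfl⟩)
    have := (h ∅ isClopen_empty).unique ⟨⟨hcl', hop⟩, hempty⟩ ⟨isClopen_empty, Set.preimage_empty⟩
    exact Set.singleton_ne_empty _ this
  let B := Γ(I.subscheme, ⊤)
  let φ : A →+* B := ((Scheme.ΓSpecIso (CommRingCat.of A)).inv ≫ (v ≫ U.ι).appTop).hom
  letI : Algebra A B := φ.toAlgebra
  haveI : Algebra.IsIntegral A B := ⟨isIntegral_sections hmap v π c H hmax⟩
  have hbasA : ∀ a : A, I.subscheme.basicOpen (φ a) = (v ≫ U.ι) ⁻¹ᵁ PrimeSpectrum.basicOpen a := fun a => by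
    rw [show φ a = (v ≫ U.ι).appTop ((Scheme.ΓSpecIso (CommRingCat.of A)).inv a) from rfl,
      ← Scheme.preimage_basicOpen_top, basicOpen_eq_of_affine]
  have haff : ∀ a ∈ maximalIdeal A, IsAffineOpen (I.subscheme.basicOpen (φ a)) := fun a ha => by
    rw [hbasA, Scheme.Hom.comp_preimage]
    refine IsAffineOpen.preimage ?_ v
    rw [← Scheme.Hom.isAffineOpen_iff_of_isOpenImmersion U.ι]
    convert IsAffineOpen.Spec_basicOpen (R := CommRingCat.of A) a
    exact Opens.ext (Set.image_preimage_eq_of_subset fun x hx =>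
      (Scheme.Opens.range_ι U).ge (basicOpen_le_punctured ha hx))
  haveI : CompactSpace I.subscheme := QuasiCompact.compactSpace_of_compactSpace i
  haveI : (U : Scheme.{u}).IsQuasiAffine := Scheme.IsQuasiAffine.of_isImmersion U.ι
  haveI : I.subscheme.IsQuasiAffine := Scheme.IsQuasiAffine.of_isAffineHom v
  haveI : CompactSpace ↥(pullback i p₁) := QuasiCompact.compactSpace_of_compactSpace k
  haveI : IsAffineHom σ := inferInstance
  haveI : IsAffineHom π := MorphismProperty.of_isPullback H.flip (inferInstance : IsAffineHom σ)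
  haveI : Surjective π := MorphismProperty.pullback_fst _ _ (inferInstance : Surjective p₁)
  haveI : IsNoetherian (pullback i p₁) := {}
  haveI : IsNoetherian I.subscheme := by
    haveI : IsLocallyNoetherian I.subscheme := LocallyOfFiniteType.isLocallyNoetherian i
    exact {}
  -- the ring of sections upstairs
  let R := C ⊗[A] B
  let f' : B →+* R := Algebra.TensorProduct.includeRight.toRingHom
  let ψ : C →+* Γ(pullback i p₁, ⊤) := ((Scheme.ΓSpecIso (CommRingCat.of C)).inv ≫ c.appTop).hom
  let ρ : B →+* Γ(pullback i p₁, ⊤) := π.appTop.hom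
  have hiso := HensPair.isPushout_appTop (B := A) (C := C) H
  have hcompat : ∀ x : A, ρ (φ x) = ψ (algebraMap A C x) := fun x => by
    have h1 : σ.appTop ((Scheme.ΓSpecIso (CommRingCat.of A)).inv x) =
        (Scheme.ΓSpecIso (CommRingCat.of C)).inv (algebraMap A C x) :=
      (congr($(Scheme.ΓSpecIso_inv_naturality (CommRingCat.ofHom (algebraMap A C))).hom x)).symm
    change π.appTop ((v ≫ U.ι).appTop ((Scheme.ΓSpecIso (CommRingCat.of A)).inv x)) =
      c.appTop ((Scheme.ΓSpecIso (CommRingCat.of C)).inv (algebraMap A C x))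
    rw [← h1, ← CommRingCat.comp_apply, ← CommRingCat.comp_apply (f := σ.appTop),
      ← Scheme.Hom.comp_appTop, ← Scheme.Hom.comp_appTop, H.w]
  letI : Algebra A Γ(pullback i p₁, ⊤) := (ψ.comp (algebraMap A C)).toAlgebra
  let ψA : C →ₐ[A] Γ(pullback i p₁, ⊤) := { ψ with commutes' := fun _ => rfl }
  let ρA : B →ₐ[A] Γ(pullback i p₁, ⊤) := { ρ with commutes' := fun x => hcompat x }
  let j : R →+* Γ(pullback i p₁, ⊤) := (Algebra.TensorProduct.productMap ψA ρA).toRingHom
  have hjρ : ∀ b, j (f' b) = ρ b := fun b =>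
    Algebra.TensorProduct.productMap_right_apply ψA ρA b
  have hjψ : ∀ x, j (x ⊗ₜ[A] (1 : B)) = ψ x := fun x =>
    Algebra.TensorProduct.productMap_left_apply ψA ρA x
  have hjbij : Function.Surjective j := by
    -- the sections upstairs are generated by the two images
    let j₁ : B →+* j.range := j.rangeRestrict.comp f'
    let j₂ : C →+* j.range := j.rangeRestrict.comp (algebraMap C R)
    have hw : (v ≫ U.ι).appTop ≫ CommRingCat.ofHom j₁ =
        σ.appTop ≫ (Scheme.ΓSpecIso (CommRingCat.of C)).hom ≫ CommRingCat.ofHom j₂ := by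
      rw [← cancel_epi (Scheme.ΓSpecIso (CommRingCat.of A)).inv, ← Category.assoc, ← Category.assoc,
        ← Scheme.ΓSpecIso_inv_naturality]
      refine CommRingCat.hom_ext (RingHom.ext fun x => Subtype.ext ?_)
      simp only [Category.assoc, Iso.inv_hom_id_assoc]
      change j (f' (φ x)) = j (algebraMap A C x ⊗ₜ[A] (1 : B))
      rw [hjρ, hjψ, hcompat]
    let d : Γ(pullback i p₁, ⊤) ⟶ CommRingCat.of j.range := hiso.desc _ _ hw
    have hd : d ≫ CommRingCat.ofHom j.range.subtype = 𝟙 _ := by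
      refine hiso.hom_ext ?_ ?_
      · rw [← Category.assoc, hiso.inl_desc, Category.comp_id]
        exact CommRingCat.hom_ext (RingHom.ext fun b => hjρ b)
      · rw [← Category.assoc, hiso.inr_desc, Category.comp_id,
          ← cancel_epi (Scheme.ΓSpecIso (CommRingCat.of C)).inv]
        simp only [Category.assoc, Iso.inv_hom_id_assoc]
        exact CommRingCat.hom_ext (RingHom.ext fun x => hjψ x)
    intro x
    obtain ⟨y, hy⟩ := (d x).2
    exact ⟨y, hy.trans congr($(hd).hom x)⟩
  have hjinj : Function.Injective j := by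
    -- `j` is injective
    let j₁ : B →+* R := f'
    let j₂ : C →+* R := algebraMap C R
    have hw : (v ≫ U.ι).appTop ≫ CommRingCat.ofHom j₁ =
        σ.appTop ≫ (Scheme.ΓSpecIso (CommRingCat.of C)).hom ≫ CommRingCat.ofHom j₂ := by
      rw [← cancel_epi (Scheme.ΓSpecIso (CommRingCat.of A)).inv, ← Category.assoc, ← Category.assoc,
        ← Scheme.ΓSpecIso_inv_naturality]
      refine CommRingCat.hom_ext (RingHom.ext fun t => ?_)
      simp only [Category.assoc, Iso.inv_hom_id_assoc]
      exact ((Algebra.TensorProduct.includeRight : B →ₐ[A] R).commutes t).trans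
        (IsScalarTower.algebraMap_apply A C R t)
    let d : Γ(pullback i p₁, ⊤) ⟶ CommRingCat.of R := hiso.desc _ _ hw
    have hd : CommRingCat.ofHom j ≫ d = 𝟙 _ := by
      refine CommRingCat.hom_ext (Algebra.TensorProduct.ringHom_ext ?_ ?_)
      · refine RingHom.ext fun t => ?_
        change d (j (t ⊗ₜ[A] (1 : B))) = t ⊗ₜ[A] (1 : B)
        rw [hjψ, show ψ t = c.appTop ((Scheme.ΓSpecIso (CommRingCat.of C)).inv t) from rfl,
          ← CommRingCat.comp_apply, hiso.inr_desc, ← CommRingCat.comp_apply, Iso.inv_hom_id_assoc]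
        rfl
      · refine RingHom.ext fun t => ?_
        change d (j (f' t)) = f' t
        rw [hjρ, show ρ t = π.appTop t from rfl, ← CommRingCat.comp_apply, hiso.inl_desc]
        rfl
    intro x y hxy
    have hx := congr($(hd).hom x)
    have hy := congr($(hd).hom y)
    rw [CommRingCat.comp_apply] at hx hy
    exact hx.symm.trans ((congrArg d hxy).trans hy)
  let jP : pullback i p₁ ⟶ Spec (CommRingCat.of R) :=
    (pullback i p₁).toSpecΓ ≫ Spec.map (CommRingCat.ofHom j)
  have hjPbas : ∀ (r : R) p, r ∉ (jP p).asIdeal ↔ p ∈ (pullback i p₁).basicOpen (j r) := fun r p => by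
    rw [← Scheme.toSpecΓ_preimage_basicOpen]
    exact Iff.rfl
  have hjPπ : ∀ p, PrimeSpectrum.comap f' (jP p) = I.subscheme.toSpecΓ (π p) := fun p => by
    rw [← Scheme.Hom.comp_apply, Scheme.toSpecΓ_naturality, Scheme.Hom.comp_apply]
    refine (PrimeSpectrum.comap_comp_apply f' j _).symm.trans ?_
    rw [show j.comp f' = ρ from RingHom.ext hjρ]
    rfl
  -- points over the punctured spectrum come from the scheme
  have hrange : ∀ x : PrimeSpectrum R, ∀ a ∈ maximalIdeal A, f' (φ a) ∉ x.asIdeal →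
      x ∈ Set.range jP.base := by
    intro x a ha hx
    obtain ⟨y, rfl⟩ := (PrimeSpectrum.comapEquiv (RingEquiv.ofBijective j ⟨hjinj, hjbij⟩)).symm.surjective x
    have hy : y ∈ (PrimeSpectrum.basicOpen (ρ (φ a)) : Set (PrimeSpectrum Γ(pullback i p₁, ⊤))) := by
      rw [← hjρ]; exact hx
    obtain ⟨p, hp⟩ := basicOpen_subset_range_toSpecΓ _ (r := ρ (φ a)) (by
      rw [show (pullback i p₁).basicOpen (ρ (φ a)) = π ⁻¹ᵁ I.subscheme.basicOpen (φ a) from
        (Scheme.preimage_basicOpen_top π (φ a)).symm]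
      exact (haff a ha).preimage π) hy
    exact ⟨p, by rw [← hp]; rfl⟩
  -- the idempotent
  obtain ⟨e, hidem, he⟩ := HensPair.exists_idem_of_isClopen (X := pullback i p₁)
    (hĈ.preimage k.continuous)
  obtain ⟨eR, heR⟩ := hjbij e
  have heRclop : IsClopen (PrimeSpectrum.basicOpen eR : Set (PrimeSpectrum R)) :=
    PrimeSpectrum.isClopen_iff.2 ⟨eR, hjinj (by rw [map_mul, heR]; exact hidem), rfl⟩
  let ZR : Set (PrimeSpectrum R) := PrimeSpectrum.zeroLocus {f' (φ f)}
  let ZB : Set (PrimeSpectrum B) := PrimeSpectrum.zeroLocus {φ f}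
  have hover : ∀ p, jP p ∈ ZR → i (π p) ∈ Set.range q := fun p hp => by
    by_contra hno
    have h1 : π p ∈ I.subscheme.basicOpen (φ f) := by
      rw [hbasA]; exact (hSq _).2 hno
    refine (hjPbas _ p).2 ?_ (Set.singleton_subset_iff.1 hp)
    rw [hjρ, show ρ (φ f) = π.appTop (φ f) from rfl, ← Scheme.preimage_basicOpen_top]
    exact h1
  have hmem : ∀ p, jP p ∈ ZR → (eR ∉ (jP p).asIdeal ↔ i (π p) ∈ q '' V) := fun p hp => by
    rw [hjPbas, heR]
    have hw : i (π p) = p₁ (k p) := congr($(pullback.condition (f := i) (g := p₁)).base p)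
    obtain ⟨x, hx⟩ : k p ∈ Set.range q₁ := hr₁.ge (by
      show p₁ (k p) ∈ Set.range q
      rw [← hw]; exact hover p hp)
    refine (Set.ext_iff.1 he p).trans ?_
    show k p ∈ Ĉ ↔ _
    rw [hw, ← hx, ← hr₁q, hq.injective.mem_set_image]
    exact Set.ext_iff.1 hĈV x
  let π' : PrimeSpectrum R → PrimeSpectrum B := PrimeSpectrum.comap f'
  have hff : f'.FaithfullyFlat := by
    have : Module.FaithfullyFlat B (B ⊗[A] C) := inferInstance
    have h1 : (algebraMap B (B ⊗[A] C)).FaithfullyFlat := RingHom.faithfullyFlat_algebraMap_iff.2 this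
    have h2 : f' = (Algebra.TensorProduct.comm A B C).toRingEquiv.toRingHom.comp (algebraMap B (B ⊗[A] C)) := by
      exact RingHom.ext fun b => (Algebra.TensorProduct.comm_tmul A (A := B) (B := C) b 1).symm
    rw [h2]
    exact RingHom.FaithfullyFlat.stableUnderComposition _ _ h1
      (RingHom.FaithfullyFlat.of_bijective (Algebra.TensorProduct.comm A B C).bijective)
  have hπs : Function.Surjective π' := (RingHom.FaithfullyFlat.iff_flat_and_comap_surjective.1 hff).2
  have hπq : Topology.IsQuotientMap π' :=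
    PrimeSpectrum.isQuotientMap_of_generalizingMap hπs hff.flat.generalizingMap_comap
  have hsat : ∀ x y, x ∈ ZR → y ∈ ZR → π' x = π' y → (eR ∉ x.asIdeal ↔ eR ∉ y.asIdeal) := by
    intro x y hx hy e
    have e' : ∀ b, f' b ∈ x.asIdeal ↔ f' b ∈ y.asIdeal := fun b =>
      SetLike.ext_iff.1 (congrArg PrimeSpectrum.asIdeal e) b
    by_cases hm : ∀ a ∈ maximalIdeal A, f' (φ a) ∈ x.asIdeal
    · have hxy : x = y := by
        have hle : ∀ z : PrimeSpectrum R, (∀ a ∈ maximalIdeal A, f' (φ a) ∈ z.asIdeal) →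
            (maximalIdeal C).map (algebraMap C R) ≤ z.asIdeal := fun z hz => by
          rw [← hmap, Ideal.map_map, Ideal.map_le_iff_le_comap]
          intro a ha
          show algebraMap C R (algebraMap A C a) ∈ z.asIdeal
          rw [← IsScalarTower.algebraMap_apply, ← (Algebra.TensorProduct.includeRight : B →ₐ[A] R).commutes]
          exact hz a ha
        have hxm := hle x hm
        have hym := hle y fun a ha => (e' _).1 (hm a ha)
        have hmod : ∀ z : R, ∃ b : B, z - f' b ∈ (maximalIdeal C).map (algebraMap C R) := by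
          intro z
          induction z using TensorProduct.induction_on with
          | zero => exact ⟨0, by simp⟩
          | tmul t b =>
            obtain ⟨a, ha⟩ := hsur t
            refine ⟨a • b, ?_⟩
            have : t ⊗ₜ[A] b - f' (a • b) = algebraMap C R (t - algebraMap A C a) * f' b := by
              simp only [f', AlgHom.toRingHom_eq_coe, RingHom.coe_coe, Algebra.TensorProduct.includeRight_apply,
                Algebra.TensorProduct.algebraMap_apply, Algebra.algebraMap_self_apply,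
                TensorProduct.sub_tmul, R]
              rw [sub_mul, Algebra.TensorProduct.tmul_mul_tmul, Algebra.TensorProduct.tmul_mul_tmul]
              simp only [mul_one, one_mul]
              rw [TensorProduct.tmul_smul, TensorProduct.smul_tmul', Algebra.smul_def, mul_one]
            rw [this]
            exact Ideal.mul_mem_right _ _ (Ideal.mem_map_of_mem _ ha)
          | add z z' hz hz' =>
            obtain ⟨a, ha⟩ := hz
            obtain ⟨b, hb⟩ := hz'
            exact ⟨a + b, by rw [map_add, add_sub_add_comm]; exact add_mem ha hb⟩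
        refine PrimeSpectrum.ext (Ideal.ext fun z => ?_)
        obtain ⟨b, hb⟩ := hmod z
        rw [show z = f' b + (z - f' b) by ring, Ideal.add_mem_iff_left _ (hxm hb),
          Ideal.add_mem_iff_left _ (hym hb)]
        exact e' b
      rw [hxy]
    · push Not at hm
      obtain ⟨a, ha, hax⟩ := hm
      obtain ⟨p, rfl⟩ := hrange x a ha hax
      obtain ⟨p', rfl⟩ := hrange y a ha fun hh => hax ((e' _).2 hh)
      have hpp : π p = π p' := I.subscheme.toSpecΓ.isEmbedding.injective (by
        rw [← hjPπ, ← hjPπ]; exact e)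
      rw [hmem p hx, hmem p' hy, hpp]
  have hZ : ∀ x, π' x ∈ ZB ↔ x ∈ ZR := fun x => by
    simp only [ZB, ZR, π', PrimeSpectrum.mem_zeroLocus, Set.singleton_subset_iff]
    exact Iff.rfl
  let E : Set (PrimeSpectrum B) := π' '' (ZR ∩ (PrimeSpectrum.basicOpen eR : Set (PrimeSpectrum R)))
  let E' : Set (PrimeSpectrum B) := π' '' (ZR \ (PrimeSpectrum.basicOpen eR : Set (PrimeSpectrum R)))
  have hEpre : π' ⁻¹' E = ZR ∩ (PrimeSpectrum.basicOpen eR : Set (PrimeSpectrum R)) := by
    refine Set.Subset.antisymm ?_ (Set.subset_preimage_image _ _)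
    rintro x ⟨y, ⟨hy, hye⟩, e⟩
    have hx : x ∈ ZR := (hZ x).1 (e ▸ (hZ y).2 hy)
    exact ⟨hx, (hsat y x hy hx e).1 hye⟩
  have hE'pre : π' ⁻¹' E' = ZR \ (PrimeSpectrum.basicOpen eR : Set (PrimeSpectrum R)) := by
    refine Set.Subset.antisymm ?_ (Set.subset_preimage_image _ _)
    rintro x ⟨y, ⟨hy, hye⟩, e⟩
    have hx : x ∈ ZR := (hZ x).1 (e ▸ (hZ y).2 hy)
    exact ⟨hx, fun hh => hye ((hsat y x hy hx e).2 hh)⟩
  have hEcl : IsClosed E := by
    rw [← hπq.isClosed_preimage, hEpre]
    exact (PrimeSpectrum.isClosed_zeroLocus _).inter heRclop.1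
  have hE'cl : IsClosed E' := by
    rw [← hπq.isClosed_preimage, hE'pre]
    exact (PrimeSpectrum.isClosed_zeroLocus _).sdiff heRclop.2
  let J := (Ideal.span {f}).map (algebraMap A B)
  have hJ : Set.range (PrimeSpectrum.comap (Ideal.Quotient.mk J)) = ZB := by
    rw [range_comap_of_surjective _ _ Ideal.Quotient.mk_surjective, Ideal.mk_ker]
    simp only [J, Ideal.map_span, Set.image_singleton, PrimeSpectrum.zeroLocus_span]
    rfl
  have hclop : IsClopen (PrimeSpectrum.comap (Ideal.Quotient.mk J) ⁻¹' E) := by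
    refine ⟨hEcl.preimage (PrimeSpectrum.continuous_comap _), isClosed_compl_iff.1 ?_⟩
    have : (PrimeSpectrum.comap (Ideal.Quotient.mk J) ⁻¹' E)ᶜ =
        PrimeSpectrum.comap (Ideal.Quotient.mk J) ⁻¹' E' := by
      ext z
      obtain ⟨x, hx⟩ := hπs (PrimeSpectrum.comap (Ideal.Quotient.mk J) z)
      have hxZ : x ∈ ZR := (hZ x).1 (by rw [hx, ← hJ]; exact ⟨z, rfl⟩)
      simp only [Set.mem_compl_iff, Set.mem_preimage]
      rw [← hx, ← Set.mem_preimage, ← Set.mem_preimage (f := π'), hEpre, hE'pre]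
      exact ⟨fun hh => ⟨hxZ, fun h' => hh ⟨hxZ, h'⟩⟩, fun hh h' => hh.2 h'.2⟩
    rw [this]
    exact hE'cl.preimage (PrimeSpectrum.continuous_comap _)
  obtain ⟨Cb, ⟨hCb, hCbE⟩, -⟩ :=
    (HensPair.clopenBij_comap_mk_iff J).2 (Hensel1.bijOn_idempotents (I := Ideal.span {f}) B) _ hclop
  have hkey : ∀ y, i y ∈ Set.range q → (I.subscheme.toSpecΓ y ∈ Cb ↔ i y ∈ q '' V) := by
    intro y hy
    obtain ⟨p, rfl⟩ := π.surjective y
    have hp : jP p ∈ ZR := by
      refine Set.singleton_subset_iff.2 ?_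
      by_contra hno
      have h1 := (hjPbas _ p).1 hno
      rw [hjρ, show ρ (φ f) = π.appTop (φ f) from rfl, ← Scheme.preimage_basicOpen_top] at h1
      have h2 : π p ∈ I.subscheme.basicOpen (φ f) := h1
      rw [hbasA] at h2
      exact (hSq _).1 h2 hy
    obtain ⟨z, hz⟩ : π' (jP p) ∈ Set.range (PrimeSpectrum.comap (Ideal.Quotient.mk J)) := by
      rw [hJ]; exact (hZ _).2 hp
    rw [← hjPπ]
    change π' (jP p) ∈ Cb ↔ _
    rw [← hz, ← Set.mem_preimage, hCbE, Set.mem_preimage, hz, ← Set.mem_preimage, hEpre,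
      ← hmem p hp]
    exact ⟨fun hh => hh.2, fun hh => ⟨hp, hh⟩⟩
  -- glue
  have hqc : Topology.IsClosedEmbedding q := ⟨hq, hqcl⟩
  have hT : ∀ K : Set (PrimeSpectrum B), IsClosed K → IsClosed (i.base '' (I.subscheme.toSpecΓ.base ⁻¹' K)) :=
    fun K hK => i.isClosedEmbedding.isClosedMap _ (hK.preimage I.subscheme.toSpecΓ.continuous)
  refine ⟨i.base '' (I.subscheme.toSpecΓ.base ⁻¹' Cb) ∪ q '' V,
    ⟨(hT _ hCb.1).union (hqc.isClosedMap _ hV.1), isClosed_compl_iff.1 ?_⟩, ?_⟩
  · have : (i.base '' (I.subscheme.toSpecΓ.base ⁻¹' Cb) ∪ q '' V)ᶜ =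
        i.base '' (I.subscheme.toSpecΓ.base ⁻¹' Cbᶜ) ∪ q '' Vᶜ := by
      ext x
      constructor
      · intro hx
        simp only [Set.mem_compl_iff, Set.mem_union, not_or] at hx
        by_cases hxS : x ∈ S
        · obtain ⟨y, rfl⟩ := hir.ge (subset_closure hxS)
          exact .inl ⟨y, fun hy => hx.1 ⟨y, hy, rfl⟩, rfl⟩
        · obtain ⟨z, rfl⟩ := not_not.1 fun hh => hxS ((hSq x).2 hh)
          exact .inr ⟨z, fun hz => hx.2 ⟨z, hz, rfl⟩, rfl⟩
      · rintro (⟨y, hy, rfl⟩ | ⟨z, hz, rfl⟩) (⟨y', hy', e'⟩ | ⟨z', hz', e'⟩)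
        · exact hy (by rw [i.isEmbedding.injective e'] at hy'; exact hy')
        · exact hy ((hkey y ⟨z', e'⟩).2 ⟨z', hz', e'⟩)
        · have := (hkey y' ⟨z, e'.symm⟩).1 hy'
          rw [e', hq.injective.mem_set_image] at this
          exact hz this
        · exact hz (hq.injective e' ▸ hz')
    rw [this]
    exact (hT _ hCb.2.isClosed_compl).union (hqc.isClosedMap _ hV.2.isClosed_compl)
  · ext x
    rw [Set.mem_preimage, Set.mem_union, hq.injective.mem_set_image]
    refine ⟨?_, Or.inr⟩
    rintro (⟨y, hy, e⟩ | hx)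
    · have := (hkey y ⟨x, e.symm⟩).1 hy
      rwa [e, hq.injective.mem_set_image] at this
    · exact hx

end Groth.Pi1Lef
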