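import Groth.Agent.Pi1Lef.GlueCompletion
import Groth.Agent.Pi1Lef.LocalCoh
import Groth.Agent.Pi1Inv.Henselian

/-!
# Extending covers of the punctured spectrum
-/

universe u

set_option autoImplicit false
set_option backward.isDefEq.respectTransparency false
set_option backward.defeqAttrib.useBackward true
set_option linter.style.haveILetI false
set_option linter.unusedSectionVars false

open CategoryTheory CategoryTheory.Limits AlgebraicGeometry TopologicalSpace
open IsLocalRing (maximalIdeal closedPoint)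

namespace Groth.Pi1Lef

/-- Restriction along a composite. -/
noncomputable def restrictComp {X Y Z : Scheme.{u}} (a : X ⟶ Y) (b : Y ⟶ Z) (c : X ⟶ Z) (h : a ≫ b = c)
    (V : FEt.Cat Z) : (FEt.restrict a).obj ((FEt.restrict b).obj V) ≅ (FEt.restrict c).obj V :=
  ((MorphismProperty.Over.pullbackComp a b c h.symm).app V).symm

/-- Restriction along the two ways around a commutative square. -/
noncomputable def restrictSquare {X Y Y' Z : Scheme.{u}} {a : X ⟶ Y} {b : Y ⟶ Z} {a' : X ⟶ Y'} {b' : Y' ⟶ Z}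
    (h : a ≫ b = a' ≫ b') (V : FEt.Cat Z) :
    (FEt.restrict a).obj ((FEt.restrict b).obj V) ≅ (FEt.restrict a').obj ((FEt.restrict b').obj V) :=
  restrictComp a b _ h V ≪≫ (restrictComp a' b' _ rfl V).symm

variable {A : Type u} [CommRing A] [IsNoetherianRing A] [IsLocalRing A]

/-- Over a henselian pair, full faithfulness gives extension. -/
theorem extends_of_fullyFaithful {f : A} [HenselianRing A (Ideal.span {f})]
    (hff : (FEt.restrict (pullback.fst (FEt.puncturedSpec A).ι
        (Spec.map (CommRingCat.ofHom (Ideal.Quotient.mk (Ideal.span {f})))))).Full ∧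
      (FEt.restrict (pullback.fst (FEt.puncturedSpec A).ι
        (Spec.map (CommRingCat.ofHom (Ideal.Quotient.mk (Ideal.span {f})))))).Faithful)
    (V : FEt.Cat (FEt.puncturedSpec A : Scheme.{u})) (Y₀ : FEt.Cat (Spec (CommRingCat.of (A ⧸ Ideal.span {f}))))
    (e : (FEt.restrict (pullback.snd (FEt.puncturedSpec A).ι
        (Spec.map (CommRingCat.ofHom (Ideal.Quotient.mk (Ideal.span {f})))))).obj Y₀ ≅
        (FEt.restrict (pullback.fst (FEt.puncturedSpec A).ι
        (Spec.map (CommRingCat.ofHom (Ideal.Quotient.mk (Ideal.span {f})))))).obj V) :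
    ∃ Y : FEt.Cat (Spec (CommRingCat.of A)),
      Nonempty ((FEt.restrict (FEt.puncturedSpec A).ι).obj Y ≅ V) := by
  obtain ⟨hfull, hfaith⟩ := hff
  haveI := Pi1Inv.restrict_isEquivalence A (Ideal.span {f})
  let E := FEt.restrict (Spec.map (CommRingCat.ofHom (algebraMap A (A ⧸ Ideal.span {f}))))
  exact ⟨E.objPreimage Y₀, ⟨(FEt.restrict (pullback.fst (FEt.puncturedSpec A).ι
    (Spec.map (CommRingCat.ofHom (Ideal.Quotient.mk (Ideal.span {f})))))).preimageIso
      (restrictSquare (pullback.condition) (E.objPreimage Y₀) ≪≫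
        (FEt.restrict _).mapIso (E.objObjPreimageIso Y₀) ≪≫ e)⟩⟩

/-- Covers of the punctured spectrum extending over `C` extend over `A`. -/
theorem extends_of_extends_base {C : Type u} [CommRing C] [IsLocalRing C] [Algebra A C]
    [Module.FaithfullyFlat A C] (hmap : (maximalIdeal A).map (algebraMap A C) = maximalIdeal C)
    (hsur : ∀ y : C, ∃ a : A, y - algebraMap A C a ∈ maximalIdeal C)
    (V : FEt.Cat (FEt.puncturedSpec A : Scheme.{u})) (Y' : FEt.Cat (Spec (CommRingCat.of C)))
    (e : (FEt.restrict (pullback.snd (FEt.puncturedSpec A).ι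
        (Spec.map (CommRingCat.ofHom (algebraMap A C))))).obj Y' ≅
      (FEt.restrict (pullback.fst (FEt.puncturedSpec A).ι
        (Spec.map (CommRingCat.ofHom (algebraMap A C))))).obj V) :
    ∃ Y : FEt.Cat (Spec (CommRingCat.of A)),
      Nonempty ((FEt.restrict (FEt.puncturedSpec A).ι).obj Y ≅ V) := by
  let v : V.left ⟶ (FEt.puncturedSpec A : Scheme.{u}) := V.hom
  let y : Y'.left ⟶ Spec (CommRingCat.of C) := Y'.hom
  haveI : IsFinite v := V.prop.1
  haveI : IsFinite y := Y'.prop.1
  let eL := (MorphismProperty.Over.forget FEt.prop.{u} ⊤ _ ⋙ Over.forget _).mapIso e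
  obtain ⟨Y, q, hq, het, ⟨τ, hτ⟩, -⟩ := exists_glue hmap hsur v y eL.symm
    (MorphismProperty.Over.w e.inv)
  exact ⟨MorphismProperty.Over.mk ⊤ q ⟨hq, het Y'.prop.2⟩,
    ⟨MorphismProperty.Over.isoMk hτ.isoPullback.symm hτ.isoPullback_inv_snd⟩⟩

/-- A cover extending from a punctured hypersurface extends, if powers of `f` kill `H¹` and `H²`. -/
theorem extends_of_killed {f : A} (hf : f ∈ maximalIdeal A)
    (h : ∀ i : ℕ, i = 1 ∨ i = 2 → f ∈ (Module.annihilator A (LocCoh.H (maximalIdeal A) i A)).radical)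
    (V : FEt.Cat (FEt.puncturedSpec A : Scheme.{u})) (Y₀ : FEt.Cat (Spec (CommRingCat.of (A ⧸ Ideal.span {f}))))
    (e : (FEt.restrict (pullback.snd (FEt.puncturedSpec A).ι
        (Spec.map (CommRingCat.ofHom (Ideal.Quotient.mk (Ideal.span {f})))))).obj Y₀ ≅
        (FEt.restrict (pullback.fst (FEt.puncturedSpec A).ι
        (Spec.map (CommRingCat.ofHom (Ideal.Quotient.mk (Ideal.span {f})))))).obj V) :
    ∃ Y : FEt.Cat (Spec (CommRingCat.of A)),
      Nonempty ((FEt.restrict (FEt.puncturedSpec A).ι).obj Y ≅ V) := by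
  haveI := completion_isNoetherianRing A
  haveI := Groth.Calg6.LimitFlat.faithfullyFlat_completion A
  let C := AdicCompletion (maximalIdeal A) A
  let fC : C := algebraMap A C f
  have hfC : fC ∈ maximalIdeal C := by
    rw [← completion_map_maximalIdeal]; exact Ideal.mem_map_of_mem _ hf
  haveI : HenselianRing C (Ideal.span {fC}) := Groth.Hensel1.henselianRing_of_le_radical (I := maximalIdeal C)
    (((Ideal.span_singleton_le_iff_mem _).2 hfC).trans Ideal.le_radical)
  have hC : ∀ i : ℕ, i = 1 ∨ i = 2 →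
      fC ∈ (Module.annihilator C (LocCoh.H (maximalIdeal C) i C)).radical := by
    intro i hi
    obtain ⟨n, hn⟩ := h i hi
    exact ⟨n, by rw [← map_pow]; exact Groth.LocDual.algebraMap_mem_annihilator_H_cpl A hn⟩
  let U := FEt.puncturedSpec A
  let U' := FEt.puncturedSpec C
  let σ := Spec.map (CommRingCat.ofHom (algebraMap A C))
  have hU : ∀ x, σ x ∈ U ↔ x ∈ U' := fun x => by
    show PrimeSpectrum.comap (algebraMap A C) x ∈ ({closedPoint A}ᶜ : Set (PrimeSpectrum A)) ↔
      x ∈ ({closedPoint C}ᶜ : Set (PrimeSpectrum C))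
    rw [Set.mem_compl_singleton_iff, Set.mem_compl_singleton_iff, ne_eq, ne_eq, not_iff_not]
    constructor
    · intro h
      refine PrimeSpectrum.ext (le_antisymm (IsLocalRing.le_maximalIdeal x.isPrime.ne_top) ?_)
      rw [show (closedPoint C).asIdeal = maximalIdeal C from rfl, ← completion_map_maximalIdeal,
        Ideal.map_le_iff_le_comap]
      exact (congrArg PrimeSpectrum.asIdeal h).ge
    · rintro rfl
      refine PrimeSpectrum.ext (le_antisymm (IsLocalRing.le_maximalIdeal Ideal.IsPrime.ne_top') ?_)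
      rw [show (closedPoint A).asIdeal = maximalIdeal A from rfl]
      exact Ideal.map_le_iff_le_comap.1 (completion_map_maximalIdeal A).le
  let ρ : (U' : Scheme.{u}) ⟶ (U : Scheme.{u}) := IsOpenImmersion.lift U.ι (U'.ι ≫ σ) (by
    rw [Scheme.Opens.range_ι]
    rintro _ ⟨x, rfl⟩
    exact (hU _).2 x.2)
  let k : pullback U.ι σ ⟶ (U' : Scheme.{u}) := IsOpenImmersion.lift U'.ι (pullback.snd U.ι σ) (by
    rw [Scheme.Opens.range_ι, Scheme.Pullback.range_snd, Scheme.Opens.range_ι]
    exact fun x hx => (hU x).1 hx)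
  have hρ : ρ ≫ U.ι = U'.ι ≫ σ := IsOpenImmersion.lift_fac ..
  have hk₂ : k ≫ U'.ι = pullback.snd U.ι σ := IsOpenImmersion.lift_fac ..
  have hk₁ : k ≫ ρ = pullback.fst U.ι σ := by
    rw [← cancel_mono U.ι, Category.assoc, hρ, reassoc_of% hk₂, pullback.condition]
  let t : Spec (CommRingCat.of (C ⧸ Ideal.span {fC})) ⟶ Spec (CommRingCat.of (A ⧸ Ideal.span {f})) :=
    Spec.map (CommRingCat.ofHom (Ideal.quotientMap (Ideal.span {fC}) (algebraMap A C)
      ((Ideal.span_singleton_le_iff_mem _).2 (Ideal.mem_span_singleton_self fC))))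
  let mA := Spec.map (CommRingCat.ofHom (Ideal.Quotient.mk (Ideal.span {f})))
  let mC := Spec.map (CommRingCat.ofHom (Ideal.Quotient.mk (Ideal.span {fC})))
  have ht : t ≫ mA = mC ≫ σ := by
    simp only [t, mA, mC, σ, ← Spec.map_comp, ← CommRingCat.ofHom_comp]
    congr 2
  let w : pullback U'.ι mC ⟶ pullback U.ι mA :=
    pullback.lift (pullback.fst _ _ ≫ ρ) (pullback.snd _ _ ≫ t) (by
      rw [Category.assoc, hρ, pullback.condition_assoc, Category.assoc, ht])
  obtain ⟨Y', ⟨e'⟩⟩ := extends_of_fullyFaithful (fullyFaithful_of_killed hfC hC) ((FEt.restrict ρ).obj V)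
    ((FEt.restrict t).obj Y₀)
    (restrictSquare (pullback.lift_snd _ _ _).symm Y₀ ≪≫ (FEt.restrict w).mapIso e ≪≫
      restrictSquare (pullback.lift_fst _ _ _) V)
  exact extends_of_extends_base (completion_map_maximalIdeal A) (completion_exists_sub_mem A) V Y'
    ((restrictComp k U'.ι _ hk₂ Y').symm ≪≫ (FEt.restrict k).mapIso e' ≪≫ restrictComp k ρ _ hk₁ V)

end Groth.Pi1Lef
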