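import Groth.Agent.Pi1Lef.GermScheme
import Groth.Agent.LocCohTransform.FormalSectionsApply
import Groth.Agent.LocCohBase.Cd
import Mathlib.RingTheory.Flat.EquationalCriterion
import Mathlib.RingTheory.Flat.TorsionFree
import Mathlib.RingTheory.Finiteness.Projective

/-!
# Germ full faithfulness: the two sources of bijectivity on formal sections
-/

universe u

set_option autoImplicit false
set_option backward.isDefEq.respectTransparency false
set_option backward.defeqAttrib.useBackward true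
set_option linter.style.haveILetI false

open CategoryTheory CategoryTheory.Limits AlgebraicGeometry TopologicalSpace
open IsLocalRing (maximalIdeal)
open Formal2 (quotPow quotPowπ)
open Groth.CohDev.TS

namespace Groth.Pi1Lef

variable {A : Type u} [CommRing A] [IsNoetherianRing A]

section Regular

variable {ι : Type u} [Finite ι] (a : ι → A) {X : Scheme.{u}} (v : X ⟶ (unionD a : Scheme.{u}))
  [IsFinite v] [Flat v]

/-- Over each basic open the sections are finite projective. -/
theorem exists_piece (i : ι) :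
    letI := (sectHom a v).toAlgebra
    ∃ (L : Type u) (_ : CommRing L) (_ : Algebra Γ(X, ⊤) L) (_ : Algebra A L)
      (_ : IsScalarTower A Γ(X, ⊤) L) (_ : Algebra (Localization.Away (a i)) L)
      (_ : IsScalarTower A (Localization.Away (a i)) L),
      IsLocalization.Away (sectHom a v (a i)) L ∧ Module.Finite (Localization.Away (a i)) L ∧
        Module.Flat (Localization.Away (a i)) L := by
  letI := (sectHom a v).toAlgebra
  haveI := isNoetherian_source a v
  let h := v ≫ (unionD a).ι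
  let Da : (Spec (CommRingCat.of A)).Opens := PrimeSpectrum.basicOpen (a i)
  let T := Γ(Spec (CommRingCat.of A), Da)
  letI : Algebra A T := StructureSheaf.openAlgebra A (Opposite.op (PrimeSpectrum.basicOpen (a i)))
  haveI : IsLocalization.Away (a i) T := StructureSheaf.IsLocalization.to_basicOpen A (a i)
  have hDa : IsAffineOpen Da := IsAffineOpen.Spec_basicOpen (R := CommRingCat.of A) (a i)
  have hVa : IsAffineOpen ((unionD a).ι ⁻¹ᵁ Da) := by
    rw [← Scheme.Hom.isAffineOpen_iff_of_isOpenImmersion (unionD a).ι]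
    convert IsAffineOpen.Spec_basicOpen (R := CommRingCat.of A) (a i)
    exact Opens.ext (Set.image_preimage_eq_of_subset fun x hx =>
      (Scheme.Opens.range_ι (unionD a)).ge (basicOpen_le_unionD a i hx))
  have hfin : (h.app Da).hom.Finite := by
    have hv := IsFinite.finite_app v _ hVa
    have hι : Function.Surjective ((unionD a).ι.app Da).hom := by
      haveI : IsIso ((unionD a).ι.app Da) := (unionD a).ι.isIso_app Da fun x hx =>
        (Scheme.Opens.range_ι (unionD a)).ge (basicOpen_le_unionD a i hx)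
      exact (ConcreteCategory.bijective_of_isIso ((unionD a).ι.app Da)).2
    rw [Scheme.Hom.comp_app, CommRingCat.hom_comp]
    exact hv.comp (RingHom.Finite.of_surjective _ hι)
  have hflat : (h.app Da).hom.Flat := by
    haveI : Flat h := inferInstance
    have hpre : IsAffineOpen (h ⁻¹ᵁ Da) := by
      rw [Scheme.Hom.comp_preimage]; exact hVa.preimage v
    have := Scheme.Hom.flat_appLE h hDa hpre le_rfl
    rwa [Scheme.Hom.app_eq_appLE]
  let α := sectHom a v (a i)
  have hopen : X.basicOpen α = h ⁻¹ᵁ Da := basicOpen_sectHom a v (a i)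
  letI : Algebra Γ(X, ⊤) Γ(X, h ⁻¹ᵁ Da) := (X.presheaf.map (homOfLE le_top).op).hom.toAlgebra
  have hloc : IsLocalization.Away α Γ(X, h ⁻¹ᵁ Da) := by
    have hg : ∀ (V' : X.Opens) (_ : V' = X.basicOpen α),
        letI : Algebra Γ(X, ⊤) Γ(X, V') := (X.presheaf.map (homOfLE le_top).op).hom.toAlgebra
        IsLocalization.Away α Γ(X, V') := by
      rintro V' rfl
      exact isLocalization_basicOpen_of_qcqs isCompact_univ isQuasiSeparated_univ α
    exact hg _ hopen.symm
  letI : Algebra A Γ(X, h ⁻¹ᵁ Da) :=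
    ((algebraMap Γ(X, ⊤) Γ(X, h ⁻¹ᵁ Da)).comp (algebraMap A Γ(X, ⊤))).toAlgebra
  have hst : IsScalarTower A Γ(X, ⊤) Γ(X, h ⁻¹ᵁ Da) := IsScalarTower.of_algebraMap_eq fun _ => rfl
  letI : Algebra T Γ(X, h ⁻¹ᵁ Da) := (h.app Da).hom.toAlgebra
  let e : Localization.Away (a i) ≃ₐ[A] T := IsLocalization.algEquiv (Submonoid.powers (a i)) _ _
  letI : Algebra (Localization.Away (a i)) Γ(X, h ⁻¹ᵁ Da) := ((h.app Da).hom.comp e.toRingHom).toAlgebra
  have hst' : IsScalarTower A (Localization.Away (a i)) Γ(X, h ⁻¹ᵁ Da) :=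
    IsScalarTower.of_algebraMap_eq fun x => by
      change X.presheaf.map (homOfLE le_top).op (h.appTop ((Scheme.ΓSpecIso (CommRingCat.of A)).inv x)) =
        h.app Da (e (algebraMap A _ x))
      rw [e.commutes, show algebraMap A T x = (Spec (CommRingCat.of A)).presheaf.map (homOfLE le_top).op
          ((Scheme.ΓSpecIso (CommRingCat.of A)).inv x) from rfl,
        ← CommRingCat.comp_apply, ← CommRingCat.comp_apply (g := h.app Da), Scheme.Hom.naturality]
      rfl
  refine ⟨_, inferInstance, inferInstance, inferInstance, hst, inferInstance, hst', hloc,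
    hfin.comp (RingHom.Finite.of_surjective _ e.surjective), ?_⟩
  exact (RingHom.flat_algebraMap_iff (R := Localization.Away (a i)) (S := Γ(X, h ⁻¹ᵁ Da))).1
    ((RingHom.Flat.of_bijective (f := e.toRingHom) e.bijective).comp hflat)

variable {f : A}

omit [IsFinite v] [Flat v] in
theorem eq_zero_of_local [IsFinite v] {b : Γ(X, ⊤)}
    (hb : ∀ i, ∃ k : ℕ, sectHom a v (a i) ^ k * b = 0) : b = 0 := by
  refine TopCat.Presheaf.section_ext X.sheaf ⊤ b 0 fun x hx => ?_
  obtain ⟨i, hi⟩ := exists_mem_basicOpen_sectHom a v x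
  obtain ⟨k, hk⟩ := hb i
  have hu : IsUnit (X.presheaf.germ ⊤ x hx (sectHom a v (a i))) := (X.mem_basicOpen _ x hx).1 hi
  rw [map_zero]
  refine (hu.pow k).mul_left_cancel ?_
  change X.presheaf.germ ⊤ x hx _ ^ k * X.presheaf.germ ⊤ x hx b = X.presheaf.germ ⊤ x hx _ ^ k * 0
  rw [← map_pow, ← map_mul, hk, map_zero, mul_zero]

variable (𝔞 : Ideal A)

/-- `f` is regular on modules of sections, the cover being flat. -/
theorem isSMulRegular_sections (hnz : f ∈ nonZeroDivisors A) :
    letI := (sectHom a v).toAlgebra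
    ∀ M : Submodule A Γ(X, ⊤), IsSMulRegular M f := by
  letI := (sectHom a v).toAlgebra
  intro M
  choose L instR instB instA instSB instT instST hloc hLfin hLflat using fun i => exists_piece a v i
  letI := instR
  letI := instB
  letI := instA
  letI := instT
  haveI := instSB
  haveI := instST
  haveI := hloc
  haveI := hLfin
  haveI := hLflat
  have hflatA : ∀ i, Module.Flat A (L i) := fun i => Module.Flat.trans A (Localization.Away (a i)) (L i)
  haveI := hflatA
  refine (isSMulRegular_iff_right_eq_zero_of_smul (M := M) (r := f)).2 fun m hm => Subtype.ext (eq_zero_of_local a v fun i => ?_)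
  have h1 : f • (algebraMap Γ(X, ⊤) (L i) (m : Γ(X, ⊤))) = 0 := by
    rw [← IsScalarTower.toAlgHom_apply A, ← map_smul, show f • (m : Γ(X, ⊤)) = 0 from congrArg Subtype.val hm,
      map_zero]
  have h2 : algebraMap Γ(X, ⊤) (L i) (m : Γ(X, ⊤)) = 0 :=
    (Module.Flat.isSMulRegular_of_nonZeroDivisors (M := L i) hnz) (by simpa using h1)
  obtain ⟨⟨_, k, rfl⟩, hk⟩ := (IsLocalization.map_eq_zero_iff
    (Submonoid.powers (sectHom a v (a i))) (L i) _).1 h2
  exact ⟨k, hk⟩

/-- Linear forms detecting divisibility by `f`. -/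
theorem exists_forms :
    letI := (sectHom a v).toAlgebra
    ∀ M : Submodule A Γ(X, ⊤), Module.Finite A M → (∀ i, ∀ b : Γ(X, ⊤), ∃ k : ℕ, a i ^ k • b ∈ M) →
      ∀ i, ∃ (n : ℕ) (φ : Fin n → (M →ₗ[A] A)), ∀ m : M,
        (∀ l, ∃ N : ℕ, a i ^ N * φ l m ∈ Ideal.span {f}) → ∃ (N : ℕ) (m' : M), a i ^ N • m = f • m' := by
  letI := (sectHom a v).toAlgebra
  intro M hMfin hMa
  haveI := hMfin
  haveI : Module.FinitePresentation A M := Module.finitePresentation_of_finite A M
  choose L instR instB instA instSB instT instST hloc hLfin hLflat using fun i => exists_piece a v i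
  letI := instR
  letI := instB
  letI := instA
  letI := instT
  haveI := instSB
  haveI := instST
  haveI := hloc
  haveI := hLfin
  haveI := hLflat
  have hflatA : ∀ i, Module.Flat A (L i) := fun i => Module.Flat.trans A (Localization.Away (a i)) (L i)
  haveI := hflatA
  intro i
  let T := Localization.Away (a i)
  haveI : IsNoetherianRing T := IsLocalization.isNoetherianRing (Submonoid.powers (a i)) T inferInstance
  haveI : Module.FinitePresentation T (L i) := Module.finitePresentation_of_finite T (L i)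
  haveI : Module.Projective T (L i) := Module.Flat.projective_of_finitePresentation
  obtain ⟨n, F, G, -, -, hFG⟩ := Module.Finite.exists_comp_eq_id_of_projective T (L i)
  let ρ : M →ₗ[A] L i := (IsScalarTower.toAlgHom A Γ(X, ⊤) (L i)).toLinearMap.comp M.subtype
  choose φ s hφ using fun l : Fin n => Module.FinitePresentation.exists_lift_of_isLocalizedModule
    (S := Submonoid.powers (a i)) (f := Algebra.linearMap A T)
    (((LinearMap.proj l).comp G).restrictScalars A ∘ₗ ρ)
  refine ⟨n, φ, fun m hm => ?_⟩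
  have hG : ∀ l, G (ρ m) l ∈ Ideal.span {algebraMap A T f} := by
    intro l
    obtain ⟨N, hN⟩ := hm l
    obtain ⟨c, hc⟩ := Ideal.mem_span_singleton.1 hN
    obtain ⟨j, hj⟩ := (s l).2
    have h1 : algebraMap A T (φ l m) = ((s l : A)) • (G (ρ m) l) := LinearMap.congr_fun (hφ l) m
    have h2 : algebraMap A T (φ l m) = algebraMap A T (a i) ^ j * G (ρ m) l := by
      rw [h1, ← hj, Algebra.smul_def, map_pow]
    have hu : IsUnit (algebraMap A T (a i)) := IsLocalization.Away.algebraMap_isUnit (a i)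
    rw [← Ideal.unit_mul_mem_iff_mem _ ((hu.pow N).mul (hu.pow j)), mul_assoc, ← h2, ← map_pow, ← map_mul, hc,
      map_mul]
    exact Ideal.mul_mem_right _ _ (Ideal.mem_span_singleton_self _)
  choose z hz using fun l => Ideal.mem_span_singleton.1 (hG l)
  have hρm : ρ m = algebraMap A (L i) f * F z := by
    have h3 : G (ρ m) = algebraMap A T f • z := funext fun l => hz l
    have h4 := LinearMap.congr_fun hFG (ρ m)
    rw [LinearMap.comp_apply, h3, map_smul, Algebra.smul_def, ← IsScalarTower.algebraMap_apply] at h4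
    exact h4.symm
  obtain ⟨N, b, hb⟩ := IsLocalization.Away.surj (sectHom a v (a i)) (F z)
  have h5 : algebraMap Γ(X, ⊤) (L i) (a i ^ N • (m : Γ(X, ⊤))) = algebraMap Γ(X, ⊤) (L i) (f • b) := by
    rw [Algebra.smul_def, Algebra.smul_def, map_mul, map_mul, ← hb, ← IsScalarTower.algebraMap_apply,
      ← IsScalarTower.algebraMap_apply, map_pow]
    change algebraMap A (L i) (a i) ^ N * ρ m = _ * (F z * algebraMap Γ(X, ⊤) (L i) (algebraMap A _ (a i)) ^ N)
    rw [← IsScalarTower.algebraMap_apply, hρm]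
    ring
  obtain ⟨⟨_, r, rfl⟩, hr⟩ := (IsLocalization.eq_iff_exists
    (Submonoid.powers (sectHom a v (a i))) (L i)).1 h5
  obtain ⟨K, hK⟩ := hMa i (a i ^ r • b)
  refine ⟨K + (r + N), ⟨_, hK⟩, Subtype.ext ?_⟩
  change a i ^ (K + (r + N)) • (m : Γ(X, ⊤)) = f • a i ^ K • a i ^ r • b
  have hr' : a i ^ r • (a i ^ N • (m : Γ(X, ⊤))) = a i ^ r • (f • b) := by
    rw [Algebra.smul_def (a i ^ r), Algebra.smul_def (a i ^ r), map_pow]
    exact hr
  rw [pow_add, mul_smul, pow_add, mul_smul, hr', smul_comm (a i ^ r) f, smul_comm (a i ^ K) f]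

omit [IsFinite v] [Flat v] in
/-- Sections modulo `f` are finite when linear forms detect divisibility by `f`. -/
theorem finite_sec_of_forms (M : Type u) [AddCommGroup M] [Module A M]
    (hcov : ∀ p : PrimeSpectrum A, ¬ 𝔞 ≤ p.asIdeal → f ∈ p.asIdeal → ∃ i, a i ∉ p.asIdeal)
    (hfin : Module.Finite A (LocCoh.H 𝔞 1 (A ⧸ Ideal.span {f})))
    (n : ι → ℕ) (φ : ∀ i, Fin (n i) → (M →ₗ[A] A))
    (hφ : ∀ i, ∀ m : M, (∀ l, ∃ N : ℕ, a i ^ N * φ i l m ∈ Ideal.span {f}) →
      ∃ (N : ℕ) (m' : M), a i ^ N • m = f • m') :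
    Module.Finite A (Sec (A := A) (quotPow A (Ideal.span {f}) M 0) (LocCoh.puncturedOpen A 𝔞)) := by
  classical
  haveI := Fintype.ofFinite ι
  let I := Ideal.span {f}
  let κ := Σ i, Fin (n i)
  let N₀ := quotPow A I A 0
  have hψ : ∀ x : κ, (I ^ (0 + 1) • (⊤ : Submodule A M)) ≤
      Submodule.comap (φ x.1 x.2) (I ^ (0 + 1) • (⊤ : Submodule A A)) := by
    intro x
    rw [← Submodule.map_le_iff_le_comap, Submodule.map_smul'']
    exact Submodule.smul_mono le_rfl le_top
  let ψ : κ → (quotPow A I M 0 →ₗ[A] N₀) := fun x => Submodule.mapQ _ _ (φ x.1 x.2) (hψ x)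
  let U := LocCoh.puncturedOpen A 𝔞
  haveI hN₀ : Module.Finite A (Sec (A := A) N₀ U) := by
    refine LocCohTransform.ColimPrincipal.finite_sec 𝔞 N₀ ?_
    let e : (A ⧸ Ideal.span {f}) ≃ₗ[A] N₀ := Submodule.quotEquivOfEq _ _ (by
      rw [zero_add, pow_one, Ideal.smul_eq_mul, Ideal.mul_top])
    haveI := hfin
    exact Module.Finite.equiv ((localCohomology 𝔞 1).mapIso e.toModuleIso).toLinearEquiv
  haveI : Module.Finite A (Sec (A := A) (quotPow A I M 0) U) := by
    let Φ : Sec (A := A) (quotPow A I M 0) U →ₗ[A] (κ → Sec (A := A) N₀ U) :=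
      LinearMap.pi fun x => CohDev.TS.map (ψ x) U
    refine Module.Finite.of_injective Φ ((injective_iff_map_eq_zero Φ).2 fun s hs => ?_)
    refine sep (ι := Option ι) (fun o => o.elim (U ⊓ D f) fun i => U ⊓ D (a i))
      (fun o => by cases o <;> exact inf_le_left) (fun p hp => ?_) fun o => ?_
    · by_cases hfp : f ∈ p.asIdeal
      · obtain ⟨i, hi⟩ := hcov p hp hfp
        exact Opens.mem_iSup.2 ⟨some i, hp, hi⟩
      · exact Opens.mem_iSup.2 ⟨none, hp, hfp⟩
    rw [map_zero]
    rcases o with _ | i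
    · exact sec_eq_zero_of_le f (n := 0 + 1) (fun x => killed_quot M _ (0 + 1) le_rfl _ (Ideal.pow_mem_pow (Ideal.mem_span_singleton_self f) _) x) inf_le_right _
    · refine sep_D fun g hg => ?_
      rw [map_zero]
      have hgU : D g ≤ U := hg.trans inf_le_left
      have hga : D g ≤ D (a i) := hg.trans inf_le_right
      refine (res_res (inf_le_left : U ⊓ D (a i) ≤ U) hg s).trans ?_
      obtain ⟨k, q, hq⟩ := exists_of_eq (res hgU s)
      obtain ⟨m, rfl⟩ := Submodule.mkQ_surjective _ q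
      have hl : ∀ l, ∃ N : ℕ, g ^ N * φ i l m ∈ Ideal.span {f} := by
        intro l
        have h0 : of (A := A) (D g) (ψ ⟨i, l⟩ (Submodule.mkQ _ m)) = 0 := by
          rw [← map_of, ← hq, map_smul, map_res, show CohDev.TS.map (ψ ⟨i, l⟩) U s = 0 from congrFun hs ⟨i, l⟩,
            map_zero, smul_zero]
        obtain ⟨N, hN⟩ := of_eq_zero_iff.1 h0
        refine ⟨N, ?_⟩
        rw [show ψ ⟨i, l⟩ (Submodule.mkQ _ m) = Submodule.Quotient.mk (φ i l m) from rfl,
          ← Submodule.Quotient.mk_smul, Submodule.Quotient.mk_eq_zero, zero_add, pow_one, Ideal.smul_eq_mul,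
          Ideal.mul_top, smul_eq_mul] at hN
        exact hN
      obtain ⟨G₀, hG₀⟩ : ∃ G₀ : ℕ, ∀ l, g ^ G₀ * φ i l m ∈ Ideal.span {f} := by
        choose N hN using hl
        refine ⟨Finset.univ.sup N, fun l => ?_⟩
        obtain ⟨j, hj⟩ := Nat.exists_eq_add_of_le (Finset.le_sup (f := N) (Finset.mem_univ l))
        rw [hj, pow_add, mul_comm (g ^ N l), mul_assoc]
        exact Ideal.mul_mem_left _ _ (hN l)
      obtain ⟨N, m', hm'⟩ := hφ i (g ^ G₀ • m) fun l => ⟨0, by
        rw [pow_zero, one_mul, map_smul, smul_eq_mul]; exact hG₀ l⟩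
      have h0 : a i ^ N • g ^ G₀ • of (D g) (Submodule.mkQ (I ^ (0 + 1) • ⊤ : Submodule A M) m) = 0 := by
        rw [← map_smul, ← map_smul, ← map_smul, ← map_smul, hm', Submodule.mkQ_apply,
          (Submodule.Quotient.mk_eq_zero _).2 (by
            rw [zero_add, pow_one]; exact Submodule.smul_mem_smul (Ideal.mem_span_singleton_self f) trivial),
          map_zero]
      rw [← hq] at h0
      exact (pow_smul_bijective le_rfl k).1 ((pow_smul_bijective le_rfl G₀).1 ((pow_smul_bijective hga N).1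
        (h0.trans (by simp only [smul_zero]))))
  exact ‹Module.Finite A (Sec (A := A) (quotPow A (Ideal.span {f}) M 0) (LocCoh.puncturedOpen A 𝔞))›

/-- The regular case. -/
theorem colimBij_of_flat [IsAdicComplete (Ideal.span {f}) A] (hnz : f ∈ nonZeroDivisors A)
    (hcov : ∀ p : PrimeSpectrum A, ¬ 𝔞 ≤ p.asIdeal → f ∈ p.asIdeal → ∃ i, a i ∉ p.asIdeal)
    (hfin : Module.Finite A (LocCoh.H 𝔞 1 (A ⧸ Ideal.span {f}))) :
    letI := (sectHom a v).toAlgebra
    ∀ M : Submodule A Γ(X, ⊤), Module.Finite A M → (∀ i, ∀ b : Γ(X, ⊤), ∃ k : ℕ, a i ^ k • b ∈ M) →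
      ColimBij (Ideal.span {f}) M (LocCoh.puncturedOpen A 𝔞) := by
  letI := (sectHom a v).toAlgebra
  intro M hMfin hMa
  haveI := hMfin
  choose n φ hφ using exists_forms a v (f := f) M hMfin hMa
  haveI := finite_sec_of_forms a 𝔞 M hcov hfin n φ hφ
  exact LocCohTransform.ColimPrincipal.colimBij 𝔞 f (isSMulRegular_sections a v hnz M)

end Regular

section Dualizing

variable [IsLocalRing A] {ι : Type u} [Finite ι] (a : ι → A) {X : Scheme.{u}} (v : X ⟶ (unionD a : Scheme.{u}))
  [IsFinite v] [IsIntegral X]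

/-- The dualizing case, for an integral scheme. -/
theorem colimBij_of_integral {f : A} [IsAdicComplete (Ideal.span {f}) A]
    (hd : ∃ ω : Dual.D A, Dual.IsDualizing A ω) {p₀ : PrimeSpectrum A}
    (hp₀ : (v ≫ (unionD a).ι) (genericPoint X) = p₀)
    (hdim : (3 : WithBot ℕ∞) ≤ ringKrullDim (A ⧸ p₀.asIdeal)) :
    letI := (sectHom a v).toAlgebra
    ∀ M : Submodule A Γ(X, ⊤), Module.Finite A M → (∀ i, ∀ b : Γ(X, ⊤), ∃ k : ℕ, a i ^ k • b ∈ M) →
      ColimBij (Ideal.span {f}) M (LocCoh.puncturedOpen A (maximalIdeal A)) := by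
  letI := (sectHom a v).toAlgebra
  intro M hMfin _
  haveI := hMfin
  have hker : ∀ x : A, sectHom a v x = 0 ↔ x ∈ p₀.asIdeal := by
    intro x
    rw [← AlgebraicGeometry.basicOpen_eq_bot_iff, basicOpen_sectHom]
    constructor
    · intro h0
      by_contra hx
      have : genericPoint X ∈ (⊥ : X.Opens) := by
        rw [← h0]
        show (v ≫ (unionD a).ι) (genericPoint X) ∈ PrimeSpectrum.basicOpen x
        rw [hp₀]
        exact hx
      exact this
    · intro hx
      refine Opens.ext (Set.eq_empty_iff_forall_notMem.2 fun y hy => ?_)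
      have := ((genericPoint_specializes y).map (v ≫ (unionD a).ι).continuous).mem_open
        (PrimeSpectrum.basicOpen x).2 hy
      rw [hp₀] at this
      exact this hx
  refine LocCohTransform.FormalSectionsApply.colimBij hd 1 (LocCohBase.cdLE_span_singleton f)
    fun p _ _ q hpq hq hass => ?_
  obtain ⟨hpr, m, hm⟩ := isAssociatedPrime_iff.1 hass
  have hm0 : (m : Γ(X, ⊤)) ≠ 0 := fun h0 => hpr.ne_top (by
    rw [hm, show m = 0 from Subtype.ext h0]
    exact eq_top_iff.2 fun x _ => by rw [Submodule.mem_colon_singleton, smul_zero]; exact zero_mem _)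
  have hp : p.asIdeal = p₀.asIdeal := by
    ext x
    rw [hm, Submodule.mem_colon_singleton, Submodule.mem_bot, ← hker]
    constructor
    · intro h0
      have h1 : sectHom a v x * (m : Γ(X, ⊤)) = 0 := congrArg Subtype.val h0
      haveI : Nonempty (⊤ : X.Opens) := ⟨⟨genericPoint X, trivial⟩⟩
      exact (mul_eq_zero.1 h1).resolve_right hm0
    · exact fun h0 => Subtype.ext (show sectHom a v x * (m : Γ(X, ⊤)) = 0 by rw [h0, zero_mul])
  have hq' : q = IsLocalRing.closedPoint A :=
    PrimeSpectrum.ext (le_antisymm (IsLocalRing.le_maximalIdeal q.isPrime.ne_top) hq)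
  subst hq'
  let m₀ : Ideal A := (IsLocalRing.closedPoint A).asIdeal
  have hunits : ∀ x ∈ m₀.primeCompl, IsUnit x :=
    fun x hx => by_contra fun hu => hx ((IsLocalRing.mem_maximalIdeal x).2 hu)
  let e : A ≃+* Localization.AtPrime m₀ := (IsLocalization.atUnits A m₀.primeCompl hunits).toRingEquiv
  have he : (e : A →+* Localization.AtPrime m₀) = algebraMap A (Localization.AtPrime m₀) :=
    RingHom.ext fun x => (IsLocalization.atUnits A m₀.primeCompl (S := Localization.AtPrime m₀) hunits).commutes x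
  have hdb : Formal2.dimBetween A p.asIdeal (IsLocalRing.closedPoint A).asIdeal = ringKrullDim (A ⧸ p.asIdeal) :=
    (ringKrullDim_eq_of_ringEquiv (Ideal.quotientEquiv p.asIdeal
      (p.asIdeal.map (algebraMap A (Localization.AtPrime m₀))) e (by rw [← he]))).symm
  rw [hdb, hp]
  refine lt_of_lt_of_le ?_ hdim
  exact_mod_cast (by norm_num : (1 + 1 : ℕ) < 3)

end Dualizing

section Cover

variable [IsLocalRing A]

theorem mem_punctured_iff {p : PrimeSpectrum A} :
    p ∈ FEt.puncturedSpec A ↔ ¬ maximalIdeal A ≤ p.asIdeal := by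
  change p ≠ IsLocalRing.closedPoint A ↔ _
  exact ⟨fun h h' => h (PrimeSpectrum.ext (le_antisymm (IsLocalRing.le_maximalIdeal p.isPrime.ne_top) h')),
    fun h e => h (e ▸ le_rfl)⟩

variable {U' : (Spec (CommRingCat.of A)).Opens}

/-- Finitely many basic opens inside `U'` covering `U ∩ V(f)`. -/
theorem exists_cover {f : A} (hU : U' ≤ FEt.puncturedSpec A)
    (hsub : ∀ p : PrimeSpectrum A, ¬ maximalIdeal A ≤ p.asIdeal → f ∈ p.asIdeal → p ∈ U') :
    ∃ (ι : Type u) (_ : Finite ι) (a : ι → A), (∀ i, a i ∈ maximalIdeal A) ∧ unionD a ≤ U' ∧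
      ∀ p : PrimeSpectrum A, ¬ maximalIdeal A ≤ p.asIdeal → f ∈ p.asIdeal → ∃ i, a i ∉ p.asIdeal := by
  let K : Set (PrimeSpectrum A) := {p | ¬ maximalIdeal A ≤ p.asIdeal ∧ f ∈ p.asIdeal}
  obtain ⟨F, hF⟩ := (NoetherianSpace.isCompact K).elim_finite_subcover
    (fun c : {c : A // (PrimeSpectrum.basicOpen c : (Spec (CommRingCat.of A)).Opens) ≤ U'} =>
      (PrimeSpectrum.basicOpen c.1 : Set (PrimeSpectrum A))) (fun c => (PrimeSpectrum.basicOpen c.1).2)
    (fun p hp => by
      obtain ⟨c, hpc, hc⟩ := exists_D_le (hsub p hp.1 hp.2)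
      exact Set.mem_iUnion.2 ⟨⟨c, hc⟩, hpc⟩)
  refine ⟨{c // c ∈ F}, inferInstance, fun c => c.1.1, fun c => ?_, iSup_le fun c => c.1.2, fun p h1 h2 => ?_⟩
  · by_contra hc
    exact (mem_punctured_iff (p := IsLocalRing.closedPoint A)).1 (hU (c.1.2 hc)) le_rfl
  · obtain ⟨c, hc, hpc⟩ := Set.mem_iUnion₂.1 (hF ⟨h1, h2⟩)
    exact ⟨⟨c, hc⟩, hpc⟩

/-- No common generization on a finite scheme over `U'`. -/
theorem false_of_cover {f : A} (hU : U' ≤ FEt.puncturedSpec A)
    (hsub : ∀ p : PrimeSpectrum A, ¬ maximalIdeal A ≤ p.asIdeal → f ∈ p.asIdeal → p ∈ U')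
    {W : Scheme.{u}} (w : W ⟶ (U' : Scheme.{u})) [IsFinite w]
    (hcol : ∀ (ι : Type u) (_ : Finite ι) (a : ι → A),
      (∀ p : PrimeSpectrum A, ¬ maximalIdeal A ≤ p.asIdeal → f ∈ p.asIdeal → ∃ i, a i ∉ p.asIdeal) →
      ∀ (hle : unionD a ≤ U'), Nonempty ↥(pullback w ((Spec (CommRingCat.of A)).homOfLE hle)) →
        letI := (sectHom a (pullback.snd w ((Spec (CommRingCat.of A)).homOfLE hle))).toAlgebra
        ∀ M : Submodule A Γ(pullback w ((Spec (CommRingCat.of A)).homOfLE hle), ⊤), Module.Finite A M →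
          (∀ i, ∀ b : Γ(pullback w ((Spec (CommRingCat.of A)).homOfLE hle), ⊤), ∃ k : ℕ, a i ^ k • b ∈ M) →
            ColimBij (Ideal.span {f}) M (LocCoh.puncturedOpen A (maximalIdeal A)))
    {E₁ E₂ : Set W} (hE₁ : IsClosed E₁) (hE₂ : IsClosed E₂) (hdisj : Disjoint E₁ E₂)
    (hunion : E₁ ∪ E₂ = (w ≫ U'.ι).base ⁻¹' PrimeSpectrum.zeroLocus {f})
    {η y₁ y₂ : W} (hy₁ : y₁ ∈ E₁) (hy₂ : y₂ ∈ E₂) (h₁ : η ⤳ y₁) (h₂ : η ⤳ y₂) : False := by
  obtain ⟨ι, hι, a, ha, hle, hcov⟩ := exists_cover hU hsub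
  let j := (Spec (CommRingCat.of A)).homOfLE hle
  let π := pullback.fst w j
  have hπr : ∀ y ∈ (w ≫ U'.ι).base ⁻¹' PrimeSpectrum.zeroLocus {f}, y ∈ Set.range π.base := by
    intro y hy
    rw [Scheme.Pullback.range_fst]
    have hp : (w ≫ U'.ι) y ∈ U' := (Scheme.Opens.range_ι U').le ⟨w y, rfl⟩
    obtain ⟨i, hi⟩ := hcov _ (mem_punctured_iff.1 (hU hp)) (hy (Set.mem_singleton f))
    obtain ⟨x, hx⟩ := (Scheme.Opens.range_ι (unionD a)).ge (basicOpen_le_unionD a i hi)
    refine ⟨x, U'.ι.isOpenEmbedding.injective ?_⟩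
    rw [← Scheme.Hom.comp_apply, Scheme.homOfLE_ι]
    exact hx
  obtain ⟨z₁, rfl⟩ := hπr y₁ (hunion.le (.inl hy₁))
  obtain ⟨z₂, rfl⟩ := hπr y₂ (hunion.le (.inr hy₂))
  obtain ⟨θ, rfl⟩ : η ∈ Set.range π.base := h₁.mem_open π.isOpenEmbedding.isOpen_range ⟨z₁, rfl⟩
  refine false_of_common_generization a (pullback.snd w j) (f := f) (maximalIdeal A) ha hcov
    (hcol ι hι a hcov hle ⟨θ⟩) (hE₁.preimage π.continuous) (hE₂.preimage π.continuous)
    (hdisj.preimage π.base) ?_ hy₁ hy₂ (π.isEmbedding.isInducing.specializes_iff.1 h₁)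
    (π.isEmbedding.isInducing.specializes_iff.1 h₂)
  have e : π ≫ (w ≫ U'.ι) = pullback.snd w j ≫ (unionD a).ι := by
    rw [← Category.assoc, pullback.condition, Category.assoc, Scheme.homOfLE_ι]
  rw [← Set.preimage_union, hunion, ← e]
  rfl

/-- The lift to `U'` of the punctured hypersurface has range the part over `V(f)`. -/
theorem range_lift {f : A} (hU : U' ≤ FEt.puncturedSpec A)
    (u' : pullback (FEt.puncturedSpec A).ι (Spec.map (CommRingCat.ofHom (Ideal.Quotient.mk (Ideal.span {f})))) ⟶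
      (U' : Scheme.{u}))
    (hu' : u' ≫ U'.ι = pullback.fst (FEt.puncturedSpec A).ι
      (Spec.map (CommRingCat.ofHom (Ideal.Quotient.mk (Ideal.span {f})))) ≫ (FEt.puncturedSpec A).ι) :
    IsClosedImmersion u' ∧ Set.range u'.base = U'.ι.base ⁻¹' PrimeSpectrum.zeroLocus {f} ∧
      ∀ p : PrimeSpectrum A, ¬ maximalIdeal A ≤ p.asIdeal → f ∈ p.asIdeal → p ∈ U' := by
  let im := Spec.map (CommRingCat.ofHom (Ideal.Quotient.mk (Ideal.span {f})))
  haveI : IsClosedImmersion im := IsClosedImmersion.spec_of_surjective _ Ideal.Quotient.mk_surjective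
  let g := pullback.fst (FEt.puncturedSpec A).ι im
  have him : Set.range im.base = PrimeSpectrum.zeroLocus {f} := by
    refine (range_comap_of_surjective _ _ (Ideal.Quotient.mk_surjective (I := Ideal.span {f}))).trans ?_
    rw [Ideal.mk_ker, PrimeSpectrum.zeroLocus_span]
  have hg : Set.range (g ≫ (FEt.puncturedSpec A).ι).base =
      {p : PrimeSpectrum A | p ∈ FEt.puncturedSpec A} ∩ PrimeSpectrum.zeroLocus {f} := by
    rw [show ((g ≫ (FEt.puncturedSpec A).ι).base : _ → _) = (FEt.puncturedSpec A).ι.base ∘ g.base from rfl,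
      Set.range_comp, Scheme.Pullback.range_fst, him, Set.image_preimage_eq_inter_range, Scheme.Opens.range_ι,
      Set.inter_comm]
    rfl
  have hsub : ∀ p : PrimeSpectrum A, ¬ maximalIdeal A ≤ p.asIdeal → f ∈ p.asIdeal → p ∈ U' := by
    intro p hp hf
    obtain ⟨x, hx⟩ := hg.ge ⟨mem_punctured_iff.2 hp, Set.singleton_subset_iff.2 hf⟩
    rw [← hx, ← hu', Scheme.Hom.comp_apply]
    exact (Scheme.Opens.range_ι U').le ⟨u' x, rfl⟩
  have hr : Set.range u'.base = U'.ι.base ⁻¹' PrimeSpectrum.zeroLocus {f} := by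
    refine Set.Subset.antisymm ?_ fun y hy => ?_
    · rintro _ ⟨x, rfl⟩
      change U'.ι (u' x) ∈ PrimeSpectrum.zeroLocus ({f} : Set A)
      rw [← Scheme.Hom.comp_apply, hu']
      exact (hg.le ⟨x, rfl⟩).2
    · obtain ⟨x, hx⟩ := hg.ge (show U'.ι y ∈ _ from ⟨hU ((Scheme.Opens.range_ι U').le ⟨y, rfl⟩), hy⟩)
      refine ⟨x, U'.ι.isOpenEmbedding.injective ?_⟩
      rw [← Scheme.Hom.comp_apply, hu']
      exact hx
  refine ⟨?_, hr, hsub⟩
  haveI : IsImmersion (u' ≫ U'.ι) := by rw [hu']; infer_instance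
  haveI : IsImmersion u' := IsImmersion.of_comp u' U'.ι
  exact IsClosedImmersion.of_isPreimmersion u'
    (hr.symm ▸ (PrimeSpectrum.isClosed_zeroLocus _).preimage U'.ι.continuous)

end Cover

end Groth.Pi1Lef
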