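import Groth.Agent.Pi1FEt.FullClopen
import Groth.Agent.Pi1FEt.Colimits
import Groth.Agent.Pi1Etale.FEtFaithful

/-!
# Full faithfulness on germs of neighbourhoods

Let `u : X₀ ⟶ U` be a closed immersion into a Noetherian scheme. If no irreducible component of a
finite étale cover meets both halves of a partition of its trace on `X₀`, then restriction to `X₀`
from the system of open neighbourhoods is fully faithful.
-/

universe u

set_option autoImplicit false
set_option backward.isDefEq.respectTransparency false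
set_option backward.defeqAttrib.useBackward true
set_option linter.style.haveILetI false

open CategoryTheory CategoryTheory.Limits AlgebraicGeometry TopologicalSpace

namespace Groth.Pi1Lef

section Topology

variable {W Y : Type u} [TopologicalSpace W] [TopologicalSpace Y]

/-- Two components having a common point over `V` have one over `Y₀`. -/
def SepOn (g : W → Y) (Y₀ V : Set Y) : Prop :=
  ∀ Z ∈ irreducibleComponents W, ∀ Z' ∈ irreducibleComponents W,
    ∀ y ∈ Z ∩ Z', g y ∈ V → (Z ∩ Z' ∩ g ⁻¹' Y₀).Nonempty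

theorem SepOn.mono {g : W → Y} {Y₀ V V' : Set Y} (h : SepOn g Y₀ V) (hV : V' ⊆ V) : SepOn g Y₀ V' :=
  fun Z hZ Z' hZ' y hy hyV => h Z hZ Z' hZ' y hy (hV hyV)

/-- A neighbourhood over which components only meet near the closed set. -/
theorem exists_sepOn [NoetherianSpace W] (g : W → Y) (hgc : IsClosedMap g) (Y₀ : Set Y) :
    ∃ V : Set Y, IsOpen V ∧ Y₀ ⊆ V ∧ SepOn g Y₀ V := by
  let T : Set (Set W × Set W) := {p | p.1 ∈ irreducibleComponents W ∧ p.2 ∈ irreducibleComponents W ∧
    ¬ (p.1 ∩ p.2 ∩ g ⁻¹' Y₀).Nonempty}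
  have hT : T.Finite :=
    (NoetherianSpace.finite_irreducibleComponents.prod NoetherianSpace.finite_irreducibleComponents).subset
      fun p hp => ⟨hp.1, hp.2.1⟩
  let K : Set W := ⋃ p ∈ T, p.1 ∩ p.2
  have hK : IsClosed K := hT.isClosed_biUnion fun p hp =>
    (isClosed_of_mem_irreducibleComponents _ hp.1).inter (isClosed_of_mem_irreducibleComponents _ hp.2.1)
  refine ⟨(g '' K)ᶜ, (hgc K hK).isOpen_compl, fun y hy => ?_, fun Z hZ Z' hZ' y hy hyV => ?_⟩
  · rintro ⟨x, hx, rfl⟩
    simp only [K, Set.mem_iUnion] at hx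
    obtain ⟨p, hp, hxp⟩ := hx
    exact hp.2.2 ⟨x, hxp, hy⟩
  · by_contra hne
    refine hyV ⟨y, ?_, rfl⟩
    simp only [K, Set.mem_iUnion]
    exact ⟨(Z, Z'), ⟨hZ, hZ', hne⟩, hy⟩

/-- Over such a neighbourhood clopens containing the trace are everything. -/
theorem SepOn.eq_univ {g : W → Y} {Y₀ V : Set Y} (h : SepOn g Y₀ V) (hY : Y₀ ⊆ V)
    {W' : Type u} [TopologicalSpace W'] (π : W' → W) (hπ : Topology.IsOpenEmbedding π)
    (hr : Set.range π = g ⁻¹' V) {C : Set W'} (hC : IsClopen C)
    (hsub : π ⁻¹' (g ⁻¹' Y₀) ⊆ C) : C = Set.univ := by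
  refine Set.eq_univ_of_forall fun y => ?_
  have hZ := irreducibleComponent_mem_irreducibleComponents (π y)
  obtain ⟨z, ⟨hz, -⟩, hzY⟩ := h _ hZ _ hZ (π y) ⟨mem_irreducibleComponent, mem_irreducibleComponent⟩
    (hr.le ⟨y, rfl⟩)
  obtain ⟨z', rfl⟩ : z ∈ Set.range π := hr.ge (hY hzY)
  have hirr : IsPreirreducible (π ⁻¹' irreducibleComponent (π y)) :=
    hZ.1.isPreirreducible.preimage hπ
  exact hirr.isPreconnected.subset_isClopen hC ⟨z', hz, hsub hzY⟩ mem_irreducibleComponent

/-- Over such a neighbourhood partitions of the trace extend. -/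
theorem SepOn.exists_clopen [NoetherianSpace W] {g : W → Y} {Y₀ V : Set Y} (h : SepOn g Y₀ V)
    {W' : Type u} [TopologicalSpace W'] (π : W' → W) (hπ : Continuous π)
    (hr : Set.range π ⊆ g ⁻¹' V) {D₁ D₂ : Set W} (hunion : D₁ ∪ D₂ = g ⁻¹' Y₀) (hdisj : Disjoint D₁ D₂)
    (hsep : ∀ Z ∈ irreducibleComponents W, (Z ∩ D₁).Nonempty → ¬ (Z ∩ D₂).Nonempty) :
    ∃ C : Set W', IsClopen C ∧ ∀ y, g (π y) ∈ Y₀ → (y ∈ C ↔ π y ∈ D₁) := by
  let P : Set W := ⋃ Z ∈ {Z | Z ∈ irreducibleComponents W ∧ (Z ∩ D₁).Nonempty}, Z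
  let N : Set W := ⋃ Z ∈ {Z | Z ∈ irreducibleComponents W ∧ ¬ (Z ∩ D₁).Nonempty}, Z
  have hP : IsClosed P := (NoetherianSpace.finite_irreducibleComponents.subset fun Z hZ => hZ.1).isClosed_biUnion
    fun Z hZ => isClosed_of_mem_irreducibleComponents Z hZ.1
  have hN : IsClosed N := (NoetherianSpace.finite_irreducibleComponents.subset fun Z hZ => hZ.1).isClosed_biUnion
    fun Z hZ => isClosed_of_mem_irreducibleComponents Z hZ.1
  have hPN : ∀ x, x ∈ P ∨ x ∈ N := fun x => by
    by_cases hx : (irreducibleComponent x ∩ D₁).Nonempty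
    · exact .inl (Set.mem_biUnion ⟨irreducibleComponent_mem_irreducibleComponents x, hx⟩ mem_irreducibleComponent)
    · exact .inr (Set.mem_biUnion ⟨irreducibleComponent_mem_irreducibleComponents x, hx⟩ mem_irreducibleComponent)
  have hnot : ∀ y, π y ∈ P → π y ∉ N := by
    intro y hy hy'
    simp only [P, N, Set.mem_iUnion] at hy hy'
    obtain ⟨Z, hZ, hyZ⟩ := hy
    obtain ⟨Z', hZ', hyZ'⟩ := hy'
    obtain ⟨z, ⟨hzZ, hzZ'⟩, hzY⟩ := h Z hZ.1 Z' hZ'.1 (π y) ⟨hyZ, hyZ'⟩ (hr ⟨y, rfl⟩)
    rcases hunion.ge hzY with hz | hz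
    · exact hZ'.2 ⟨z, hzZ', hz⟩
    · exact hsep Z hZ.1 hZ.2 ⟨z, hzZ, hz⟩
  refine ⟨π ⁻¹' P, ⟨hP.preimage hπ, isClosed_compl_iff.1 ?_⟩, fun y hy => ?_⟩
  · rw [show (π ⁻¹' P)ᶜ = π ⁻¹' N from Set.ext fun y =>
      ⟨fun hy => (hPN _).resolve_left hy, fun hy hy' => hnot y hy' hy⟩]
    exact hN.preimage hπ
  · refine ⟨fun hyP => ?_, fun hyD => ?_⟩
    · simp only [P, Set.mem_preimage, Set.mem_iUnion] at hyP
      obtain ⟨Z, hZ, hyZ⟩ := hyP
      exact (hunion.ge hy).resolve_right fun h2 => hsep Z hZ.1 hZ.2 ⟨_, hyZ, h2⟩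
    · exact Set.mem_biUnion ⟨irreducibleComponent_mem_irreducibleComponents (π y),
        π y, mem_irreducibleComponent, hyD⟩ mem_irreducibleComponent

end Topology

variable {X Y : Scheme.{u}}

/-- A morphism between restrictions comes from below, given the clopen properties for the source and
for the product. -/
theorem exists_map_eq_of_clopen (f : X ⟶ Y) {A B : FEt.Cat Y}
    (hinj : ∀ C : Set ↥A.left, IsClopen C → Set.range (pullback.fst A.hom f).base ⊆ C → C = Set.univ)
    (hsurj : ∀ C₀ : Set ↥(pullback (pullback.fst A.hom B.hom ≫ A.hom) f), IsClopen C₀ →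
      ∃ C : Set ↥(pullback A.hom B.hom), IsClopen C ∧
        (pullback.fst (pullback.fst A.hom B.hom ≫ A.hom) f).base ⁻¹' C = C₀)
    (φ : (FEt.restrict f).obj A ⟶ (FEt.restrict f).obj B) :
    ∃ ψ : A ⟶ B, (FEt.restrict f).map ψ = φ := by
  have : IsFinite A.hom := A.prop.1
  have : Etale A.hom := A.prop.2
  have : IsFinite B.hom := B.prop.1
  have : Etale B.hom := B.prop.2
  let W : FEt.Cat Y := MorphismProperty.Over.mk ⊤ (pullback.fst A.hom B.hom ≫ A.hom)
    ⟨inferInstance, inferInstance⟩
  let W₀ := pullback W.hom f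
  let wA : W₀ ⟶ pullback A.hom f := pullback.lift (pullback.fst W.hom f ≫ pullback.fst A.hom B.hom)
    (pullback.snd W.hom f) (by rw [Category.assoc]; exact pullback.condition)
  have hw₁ : wA ≫ pullback.fst A.hom f = pullback.fst W.hom f ≫ pullback.fst A.hom B.hom := pullback.lift_fst _ _ _
  have sq : IsPullback wA (pullback.fst W.hom f) (pullback.fst A.hom f) (pullback.fst A.hom B.hom) := by
    refine (IsPullback.of_bot ?_ hw₁.symm (IsPullback.of_hasPullback A.hom f)).flip
    rw [pullback.lift_snd]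
    exact IsPullback.of_hasPullback W.hom f
  haveI : IsFinite wA := MorphismProperty.of_isPullback sq.flip (inferInstance : IsFinite (pullback.fst A.hom B.hom))
  haveI : Etale wA := MorphismProperty.of_isPullback sq.flip (inferInstance : Etale (pullback.fst A.hom B.hom))
  let φ₀ : pullback A.hom f ⟶ pullback B.hom f := φ.left
  have hφ : φ₀ ≫ pullback.snd B.hom f = pullback.snd A.hom f := MorphismProperty.Over.w φ
  let t : pullback A.hom f ⟶ W₀ := pullback.lift
    (pullback.lift (pullback.fst A.hom f) (φ₀ ≫ pullback.fst B.hom f)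
      (by rw [Category.assoc, pullback.condition, pullback.condition, reassoc_of% hφ]))
    (pullback.snd A.hom f)
    (by simp only [W, MorphismProperty.Over.mk_hom]; rw [pullback.lift_fst_assoc]; exact pullback.condition)
  have ht : t ≫ wA = 𝟙 _ := by
    apply pullback.hom_ext
    · simp only [t, wA, Category.assoc, pullback.lift_fst, pullback.lift_fst_assoc, Category.id_comp]
    · simp only [t, wA, Category.assoc, pullback.lift_snd, Category.id_comp]
  haveI : IsFinite (t ≫ wA) := by rw [ht]; infer_instance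
  haveI : Etale (t ≫ wA) := by rw [ht]; infer_instance
  haveI : IsFinite t := IsFinite.of_comp t wA
  haveI : Etale t := Etale.of_comp t wA
  haveI : Mono (t ≫ wA) := by rw [ht]; infer_instance
  haveI : Mono t := mono_of_mono t wA
  haveI : IsOpenImmersion t := IsOpenImmersion.of_flat_of_mono t
  obtain ⟨C, hC, hC₀⟩ := hsurj (Set.range t) ⟨t.isClosedMap.isClosed_range, t.isOpenMap.isOpen_range⟩
  let Γ : (pullback A.hom B.hom).Opens := ⟨C, hC.2⟩
  haveI : IsClosedImmersion Γ.ι := IsClosedImmersion.of_isPreimmersion _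
    (by rw [Scheme.Opens.range_ι]; exact hC.1)
  let r := Γ.ι ≫ pullback.fst A.hom B.hom
  let t' : pullback A.hom f ⟶ Γ.toScheme := IsOpenImmersion.lift Γ.ι (t ≫ pullback.fst W.hom f) (by
    rw [Scheme.Opens.range_ι]
    rintro _ ⟨a, rfl⟩
    have ha : t a ∈ (pullback.fst W.hom f).base ⁻¹' C := hC₀.symm ▸ ⟨a, rfl⟩
    exact ha)
  have ht' : t' ≫ Γ.ι = t ≫ pullback.fst W.hom f := IsOpenImmersion.lift_fac _ _ _
  have sqt : IsPullback t' t Γ.ι (pullback.fst W.hom f) :=
    IsOpenImmersion.isPullback _ _ _ _ ht'.symm (by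
      apply Opens.ext
      rw [Scheme.Opens.opensRange_ι]
      exact hC₀)
  have sqr : IsPullback t' (𝟙 _) r (pullback.fst A.hom f) := by
    have := sqt.paste_vert sq.flip
    rwa [ht] at this
  have hdeg : ∀ a, r.finrank a = 1 := by
    have hloc : IsClopen {a | r.finrank a = 1} :=
      ((Scheme.Hom.isLocallyConstant_finrank r).isClopen_fiber 1)
    intro a
    have := hinj _ hloc (by
      rintro _ ⟨a₀, rfl⟩
      change r.finrank _ = 1
      rw [← Scheme.Hom.finrank_of_isPullback _ _ _ _ sqr a₀]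
      exact congrFun ((Scheme.Hom.isIso_iff_finrank_eq _).1 inferInstance) a₀)
    exact Set.eq_univ_iff_forall.1 this a
  haveI : IsIso r := (Scheme.Hom.isIso_iff_finrank_eq r).2 (funext hdeg)
  let u : A.left ⟶ B.left := inv r ≫ Γ.ι ≫ pullback.snd A.hom B.hom
  have hu : u ≫ B.hom = A.hom := by
    simp only [u, Category.assoc, ← pullback.condition, IsIso.inv_comp_eq, r]
  refine ⟨MorphismProperty.Over.homMk u hu, MorphismProperty.Over.Hom.ext ?_⟩
  have key : pullback.fst A.hom f ≫ u = φ₀ ≫ pullback.fst B.hom f := by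
    have h1 : pullback.fst A.hom f = t' ≫ r := ((Category.id_comp _).symm.trans sqr.w.symm)
    calc pullback.fst A.hom f ≫ u = (t' ≫ r) ≫ u := congrArg (· ≫ u) h1
      _ = t' ≫ Γ.ι ≫ pullback.snd A.hom B.hom := by simp only [u, Category.assoc, IsIso.hom_inv_id_assoc]
      _ = t ≫ pullback.fst W.hom f ≫ pullback.snd A.hom B.hom := by rw [reassoc_of% ht']
      _ = φ₀ ≫ pullback.fst B.hom f := by simp only [t, pullback.lift_fst_assoc, pullback.lift_snd]
  refine pullback.hom_ext ?_ ?_
  · exact (pullback.lift_fst _ _ _).trans key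
  · exact (pullback.lift_snd _ _ _).trans hφ.symm

/-- Pulling back a cover to an open part: an open embedding with the expected range. -/
theorem range_restrict_fst {X' : Scheme.{u}} (j : X' ⟶ Y) (A : FEt.Cat Y) :
    Set.range (pullback.fst A.hom j).base = A.hom.base ⁻¹' Set.range j.base :=
  Scheme.Pullback.range_fst A.hom j

section Germ

variable {S : Scheme.{u}} {U' : S.Opens} [IsNoetherian (U' : Scheme.{u})]
  {T : Scheme.{u}} (u' : T ⟶ (U' : Scheme.{u})) [IsClosedImmersion u']

theorem noetherianSpace_cover (Z : FEt.Cat (U' : Scheme.{u})) : NoetherianSpace ↥Z.left := by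
  let z : Z.left ⟶ (U' : Scheme.{u}) := Z.hom
  haveI : IsFinite z := Z.prop.1
  haveI : IsLocallyNoetherian Z.left := LocallyOfFiniteType.isLocallyNoetherian z
  haveI : CompactSpace ↥Z.left := QuasiCompact.compactSpace_of_compactSpace z
  haveI : IsNoetherian Z.left := {}
  infer_instance

/-- An open neighbourhood of `T` inside `U'`, and the lift of `u'`. -/
theorem exists_nhd {V : Set (U' : Scheme.{u})} (hV : IsOpen V) (hT : Set.range u'.base ⊆ V) :
    ∃ (U'' : S.Opens) (h : U'' ≤ U') (u'' : T ⟶ (U'' : Scheme.{u})),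
      u'' ≫ S.homOfLE h = u' ∧ Set.range (S.homOfLE h).base = V := by
  have h : U'.ι ''ᵁ ⟨V, hV⟩ ≤ U' := by
    intro x hx
    obtain ⟨y, -, rfl⟩ := hx
    exact (Scheme.Opens.range_ι U').le ⟨y, rfl⟩
  have hr : Set.range (S.homOfLE h).base = V := by
    apply U'.ι.isOpenEmbedding.injective.image_injective
    rw [← Set.range_comp, show (U'.ι.base ∘ (S.homOfLE h).base) = (S.homOfLE h ≫ U'.ι).base from rfl,
      Scheme.homOfLE_ι, Scheme.Opens.range_ι]
    rfl
  exact ⟨_, h, IsOpenImmersion.lift (S.homOfLE h) u' (hr.symm ▸ hT), IsOpenImmersion.lift_fac _ _ _, hr⟩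

variable (hconn : ∀ (Z : FEt.Cat (U' : Scheme.{u})) (D₁ D₂ : Set ↥Z.left), IsClosed D₁ → IsClosed D₂ →
  D₁ ∪ D₂ = Z.hom.base ⁻¹' Set.range u'.base → Disjoint D₁ D₂ →
  ∀ C ∈ irreducibleComponents ↥Z.left, (C ∩ D₁).Nonempty → ¬ (C ∩ D₂).Nonempty)

include hconn in
/-- Restriction from the system of neighbourhoods is fully faithful. -/
theorem germ_fullyFaithful (V' W' : FEt.Cat (U' : Scheme.{u})) :
    (∀ φ₀ : (FEt.restrict u').obj V' ⟶ (FEt.restrict u').obj W',
      ∃ (U'' : S.Opens) (h : U'' ≤ U') (u'' : T ⟶ (U'' : Scheme.{u}))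
        (hu : u'' ≫ S.homOfLE h = u')
        (φ : (FEt.restrict (S.homOfLE h)).obj V' ⟶ (FEt.restrict (S.homOfLE h)).obj W'),
        (FEt.restrict u'').map φ =
          (MorphismProperty.Over.pullbackComp u'' (S.homOfLE h) u' hu.symm).inv.app V' ≫ φ₀ ≫
            (MorphismProperty.Over.pullbackComp u'' (S.homOfLE h) u' hu.symm).hom.app W') ∧
    (∀ φ ψ : V' ⟶ W', (FEt.restrict u').map φ = (FEt.restrict u').map ψ →
      ∃ (U'' : S.Opens) (h : U'' ≤ U') (u'' : T ⟶ (U'' : Scheme.{u})),
        u'' ≫ S.homOfLE h = u' ∧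
        (FEt.restrict (S.homOfLE h)).map φ = (FEt.restrict (S.homOfLE h)).map ψ) := by
  let a : V'.left ⟶ (U' : Scheme.{u}) := V'.hom
  let b : W'.left ⟶ (U' : Scheme.{u}) := W'.hom
  haveI : IsFinite a := V'.prop.1
  haveI : Etale a := V'.prop.2
  haveI : IsFinite b := W'.prop.1
  haveI : Etale b := W'.prop.2
  haveI := noetherianSpace_cover V'
  have hT : IsClosed (Set.range u'.base) := u'.isClosedEmbedding.isClosed_range
  obtain ⟨V₁, hV₁, hTV₁, hsep₁⟩ := exists_sepOn a.base a.isClosedMap (Set.range u'.base)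
  -- clopens of a cover restricted to a small neighbourhood
  have hinj : ∀ (V : Set (U' : Scheme.{u})), Set.range u'.base ⊆ V → V ⊆ V₁ →
      ∀ (U'' : S.Opens) (h : U'' ≤ U') (u'' : T ⟶ (U'' : Scheme.{u})), u'' ≫ S.homOfLE h = u' →
      Set.range (S.homOfLE h).base = V → ∀ C : Set ↥(pullback a (S.homOfLE h)), IsClopen C →
      Set.range (pullback.fst (pullback.snd a (S.homOfLE h)) u'').base ⊆ C → C = Set.univ := by
    intro V hTV hVV U'' h u'' hu hr C hC hsub
    refine (hsep₁.mono hVV).eq_univ hTV (pullback.fst a (S.homOfLE h)).base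
      (pullback.fst a (S.homOfLE h)).isOpenEmbedding
      ((Scheme.Pullback.range_fst a (S.homOfLE h)).trans (by rw [hr])) hC ?_
    intro y hy
    refine hsub ?_
    rw [Scheme.Pullback.range_fst]
    obtain ⟨x, hx⟩ := hy
    refine ⟨x, (S.homOfLE h).isOpenEmbedding.injective ?_⟩
    change S.homOfLE h (u'' x) = S.homOfLE h (pullback.snd a (S.homOfLE h) y)
    rw [← Scheme.Hom.comp_apply, hu, hx]
    exact congr($(pullback.condition (f := a) (g := S.homOfLE h)).base y)
  refine ⟨fun φ₀ => ?_, fun φ ψ hφψ => ?_⟩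
  · let Z : FEt.Cat (U' : Scheme.{u}) := MorphismProperty.Over.mk ⊤ (pullback.fst a b ≫ a)
      ⟨inferInstance, inferInstance⟩
    haveI : NoetherianSpace ↥(pullback a b) := noetherianSpace_cover Z
    let c := pullback.fst a b ≫ a
    obtain ⟨V₂, hV₂, hTV₂, hsep₂⟩ := exists_sepOn c.base c.isClosedMap (Set.range u'.base)
    obtain ⟨U'', h, u'', hu, hr⟩ := exists_nhd u' (hV₁.inter hV₂) (Set.subset_inter hTV₁ hTV₂)
    let j := S.homOfLE h
    let A'' := (FEt.restrict j).obj V'
    let B'' := (FEt.restrict j).obj W'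
    let sA : pullback a j ⟶ (U'' : Scheme.{u}) := pullback.snd a j
    let sB : pullback b j ⟶ (U'' : Scheme.{u}) := pullback.snd b j
    suffices hs : ∀ C₀ : Set ↥(pullback (pullback.fst sA sB ≫ sA) u''), IsClopen C₀ →
        ∃ C : Set ↥(pullback sA sB), IsClopen C ∧
          (pullback.fst (pullback.fst sA sB ≫ sA) u'').base ⁻¹' C = C₀ by
      obtain ⟨ψ, hψ⟩ := exists_map_eq_of_clopen u'' (A := A'') (B := B'')
        (hinj _ (Set.subset_inter hTV₁ hTV₂) Set.inter_subset_left U'' h u'' hu hr) hs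
        ((MorphismProperty.Over.pullbackComp u'' j u' hu.symm).inv.app V' ≫ φ₀ ≫
          (MorphismProperty.Over.pullbackComp u'' j u' hu.symm).hom.app W')
      exact ⟨U'', h, u'', hu, ψ, hψ⟩
    intro C₀ hC₀
    let π : pullback sA sB ⟶ pullback a b := pullback.lift
      (pullback.fst sA sB ≫ pullback.fst a j) (pullback.snd sA sB ≫ pullback.fst b j) (by
        rw [Category.assoc, Category.assoc, pullback.condition, pullback.condition, pullback.condition_assoc])
    let c'' := pullback.fst sA sB ≫ sA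
    have hπc : π ≫ c = c'' ≫ j := by
      simp only [π, c, c'', pullback.lift_fst_assoc, Category.assoc]
      rw [pullback.condition]
    let qA : pullback c u' ⟶ pullback a j := pullback.lift (pullback.fst c u' ≫ pullback.fst a b)
      (pullback.snd c u' ≫ u'') (by rw [Category.assoc, Category.assoc, hu]; exact pullback.condition)
    let qB : pullback c u' ⟶ pullback b j := pullback.lift (pullback.fst c u' ≫ pullback.snd a b)
      (pullback.snd c u' ≫ u'') (by
        rw [Category.assoc, Category.assoc, hu, ← pullback.condition]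
        exact pullback.condition)
    let q : pullback c u' ⟶ pullback c'' u'' := pullback.lift
      (pullback.lift qA qB (by simp only [qA, qB, sA, sB, pullback.lift_snd]))
      (pullback.snd c u') (by simp only [c'', qA, sA, pullback.lift_fst_assoc, pullback.lift_snd])
    let π₀ : pullback c'' u'' ⟶ pullback c u' := pullback.lift (pullback.fst c'' u'' ≫ π)
      (pullback.snd c'' u'') (by rw [Category.assoc, hπc, ← hu, pullback.condition_assoc])
    have hπ₀ : π₀ ≫ q = 𝟙 _ := by
      refine pullback.hom_ext (pullback.hom_ext (pullback.hom_ext ?_ ?_) (pullback.hom_ext ?_ ?_)) ?_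
      · simp [π₀, q, qA, π]
      · simp only [π₀, q, qA, Category.assoc, pullback.lift_fst, pullback.lift_snd, pullback.lift_snd_assoc,
          Category.id_comp]
        exact (pullback.condition (f := c'') (g := u'')).symm
      · simp [π₀, q, qB, π]
      · simp only [π₀, q, qB, Category.assoc, pullback.lift_fst, pullback.lift_snd, pullback.lift_snd_assoc,
          Category.id_comp]
        exact (pullback.condition (f := c'') (g := u'')).symm.trans
          (congrArg (pullback.fst c'' u'' ≫ ·) (pullback.condition (f := sA) (g := sB)))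
      · simp [π₀, q]
    haveI : IsClosedImmersion (pullback.fst c u') := MorphismProperty.pullback_fst _ _ inferInstance
    let e := (pullback.fst c u').base
    have he : Topology.IsClosedEmbedding e := (pullback.fst c u').isClosedEmbedding
    have hD : e '' (q.base ⁻¹' C₀) ∪ e '' (q.base ⁻¹' C₀)ᶜ = c.base ⁻¹' Set.range u'.base := by
      rw [← Set.image_union, Set.union_compl_self, Set.image_univ]
      exact Scheme.Pullback.range_fst c u'
    obtain ⟨C, hC, hCD⟩ := hsep₂.exists_clopen π.base π.continuous (by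
        rintro _ ⟨y, rfl⟩
        refine (show c (π y) ∈ V₁ ∩ V₂ from ?_).2
        rw [← Scheme.Hom.comp_apply, hπc, ← hr]
        exact ⟨c'' y, rfl⟩) hD
      ((Set.disjoint_image_iff he.injective).2 disjoint_compl_right)
      (hconn Z _ _ (he.isClosedMap _ (hC₀.1.preimage q.continuous))
        (he.isClosedMap _ (hC₀.2.preimage q.continuous).isClosed_compl) hD
        ((Set.disjoint_image_iff he.injective).2 disjoint_compl_right))
    refine ⟨C, hC, Set.ext fun y => ?_⟩
    have hy : π (pullback.fst c'' u'' y) = e (π₀ y) := by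
      rw [← Scheme.Hom.comp_apply]
      exact (congr($(pullback.lift_fst (f := c) (g := u') (pullback.fst c'' u'' ≫ π)
        (pullback.snd c'' u'') _).base y)).symm
    refine (hCD _ ?_).trans ?_
    · rw [show π.base (pullback.fst c'' u'' y) = e (π₀ y) from hy]
      exact (Scheme.Pullback.range_fst c u').le ⟨π₀ y, rfl⟩
    · rw [show π.base (pullback.fst c'' u'' y) = e (π₀ y) from hy, he.injective.mem_set_image,
        Set.mem_preimage, show q.base (π₀ y) = y from congr($(hπ₀).base y)]
  · obtain ⟨U'', h, u'', hu, hr⟩ := exists_nhd u' hV₁ hTV₁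
    refine ⟨U'', h, u'', hu, MorphismProperty.Over.Hom.ext ?_⟩
    let j := S.homOfLE h
    have key : pullback.fst a j ≫ φ.left = pullback.fst a j ≫ ψ.left := by
      refine Pi1Etale.eq_of_comp_eq_of_clopen b _ _ ?_ (pullback.fst (pullback.snd a j) u'') ?_
        (hinj _ hTV₁ subset_rfl U'' h u'' hu hr)
      · rw [Category.assoc, Category.assoc, show φ.left ≫ b = a from MorphismProperty.Over.w φ,
          show ψ.left ≫ b = a from MorphismProperty.Over.w ψ]
      · let l : pullback (pullback.snd a j) u'' ⟶ pullback a u' :=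
          pullback.lift (pullback.fst (pullback.snd a j) u'' ≫ pullback.fst a j)
            (pullback.snd (pullback.snd a j) u'')
            (by rw [Category.assoc, pullback.condition, pullback.condition_assoc, hu])
        have hl : l ≫ pullback.fst a u' = pullback.fst (pullback.snd a j) u'' ≫ pullback.fst a j :=
          pullback.lift_fst _ _ _
        rw [← Category.assoc, ← Category.assoc, ← hl, Category.assoc, Category.assoc]
        exact congrArg (l ≫ ·) (Pi1Etale.fst_comp_eq_of_restrict_map_eq u' hφψ)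
    refine pullback.hom_ext ?_ ?_
    · exact (Pi1FEt.restrict_map_left_fst φ j).trans (key.trans (Pi1FEt.restrict_map_left_fst ψ j).symm)
    · exact (MorphismProperty.Over.w ((FEt.restrict j).map φ)).trans
        (MorphismProperty.Over.w ((FEt.restrict j).map ψ)).symm

end Germ

end Groth.Pi1Lef
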