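import Groth.Agent.Pi1Lef.GermSections
import Groth.Agent.Pi1Lef.GermTopo
import Groth.Agent.Pi1Lef.Descent

/-!
# No common generization, for a scheme finite over a neighbourhood of `U ∩ V(f)`
-/

universe u

set_option autoImplicit false
set_option backward.isDefEq.respectTransparency false
set_option backward.defeqAttrib.useBackward true
set_option linter.style.haveILetI false

open CategoryTheory CategoryTheory.Limits AlgebraicGeometry TopologicalSpace

namespace Groth.Pi1Lef

variable {A : Type u} [CommRing A] [IsNoetherianRing A] {ι : Type u} [Finite ι] (a : ι → A)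

/-- The union of the basic opens. -/
noncomputable def unionD : (Spec (CommRingCat.of A)).Opens := ⨆ i, PrimeSpectrum.basicOpen (a i)

theorem basicOpen_le_unionD (i : ι) :
    (PrimeSpectrum.basicOpen (a i) : (Spec (CommRingCat.of A)).Opens) ≤ unionD a :=
  le_iSup (fun i => (PrimeSpectrum.basicOpen (a i) : (Spec (CommRingCat.of A)).Opens)) i

variable {X : Scheme.{u}} (v : X ⟶ (unionD a : Scheme.{u}))

/-- The `A`-algebra of sections. -/
noncomputable abbrev sectHom : A →+* Γ(X, ⊤) :=
  ((Scheme.ΓSpecIso (CommRingCat.of A)).inv ≫ (v ≫ (unionD a).ι).appTop).hom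

theorem basicOpen_sectHom (x : A) :
    X.basicOpen (sectHom a v x) = (v ≫ (unionD a).ι) ⁻¹ᵁ PrimeSpectrum.basicOpen x := by
  rw [show sectHom a v x = (v ≫ (unionD a).ι).appTop ((Scheme.ΓSpecIso (CommRingCat.of A)).inv x) from rfl,
    ← Scheme.preimage_basicOpen_top, basicOpen_eq_of_affine]

variable [IsFinite v]

theorem isAffineOpen_basicOpen_sectHom (i : ι) : IsAffineOpen (X.basicOpen (sectHom a v (a i))) := by
  rw [basicOpen_sectHom, Scheme.Hom.comp_preimage]
  refine IsAffineOpen.preimage ?_ v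
  rw [← Scheme.Hom.isAffineOpen_iff_of_isOpenImmersion (unionD a).ι]
  convert IsAffineOpen.Spec_basicOpen (R := CommRingCat.of A) (a i)
  exact Opens.ext (Set.image_preimage_eq_of_subset fun x hx =>
    (Scheme.Opens.range_ι (unionD a)).ge (basicOpen_le_unionD a i hx))

omit [IsFinite v] in
theorem exists_mem_basicOpen_sectHom (x : X) : ∃ i, x ∈ X.basicOpen (sectHom a v (a i)) := by
  obtain ⟨i, hi⟩ := Opens.mem_iSup.1 ((Scheme.Opens.range_ι (unionD a)).le ⟨v x, rfl⟩)
  exact ⟨i, by rw [basicOpen_sectHom]; exact hi⟩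

include a v in
theorem isNoetherian_source : IsNoetherian X := by
  haveI : CompactSpace (unionD a) := isCompact_iff_compactSpace.1 (NoetherianSpace.isCompact _)
  haveI : CompactSpace X := QuasiCompact.compactSpace_of_compactSpace v
  haveI : IsLocallyNoetherian X := LocallyOfFiniteType.isLocallyNoetherian v
  exact {}

/-- A finite module giving the sections over each basic open. -/
theorem exists_finite_generating :
    letI := (sectHom a v).toAlgebra
    ∃ M : Submodule A Γ(X, ⊤), Module.Finite A M ∧ ∀ i, ∀ b : Γ(X, ⊤), ∃ k : ℕ, a i ^ k • b ∈ M := by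
  letI := (sectHom a v).toAlgebra
  classical
  haveI := isNoetherian_source a v
  let h := v ≫ (unionD a).ι
  have key : ∀ i, ∃ G : Set Γ(X, ⊤), G.Finite ∧ ∀ b : Γ(X, ⊤), ∃ k : ℕ, a i ^ k • b ∈ Submodule.span A G := by
    intro i
    let Da : (Spec (CommRingCat.of A)).Opens := PrimeSpectrum.basicOpen (a i)
    let T := Γ(Spec (CommRingCat.of A), Da)
    letI : Algebra A T := StructureSheaf.openAlgebra A (Opposite.op (PrimeSpectrum.basicOpen (a i)))
    haveI : IsLocalization.Away (a i) T := StructureSheaf.IsLocalization.to_basicOpen A (a i)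
    have hfin : (h.app Da).hom.Finite := by
      have hVa : IsAffineOpen ((unionD a).ι ⁻¹ᵁ Da) := by
        rw [← Scheme.Hom.isAffineOpen_iff_of_isOpenImmersion (unionD a).ι]
        convert IsAffineOpen.Spec_basicOpen (R := CommRingCat.of A) (a i)
        exact Opens.ext (Set.image_preimage_eq_of_subset fun x hx =>
          (Scheme.Opens.range_ι (unionD a)).ge (basicOpen_le_unionD a i hx))
      have hv := IsFinite.finite_app v _ hVa
      have hι : Function.Surjective ((unionD a).ι.app Da).hom := by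
        haveI : IsIso ((unionD a).ι.app Da) := (unionD a).ι.isIso_app Da fun x hx =>
          (Scheme.Opens.range_ι (unionD a)).ge (basicOpen_le_unionD a i hx)
        exact (ConcreteCategory.bijective_of_isIso ((unionD a).ι.app Da)).2
      rw [Scheme.Hom.comp_app, CommRingCat.hom_comp]
      exact hv.comp (RingHom.Finite.of_surjective _ hι)
    let α := sectHom a v (a i)
    have hopen : X.basicOpen α = h ⁻¹ᵁ Da := basicOpen_sectHom a v (a i)
    letI : Algebra Γ(X, ⊤) Γ(X, h ⁻¹ᵁ Da) := (X.presheaf.map (homOfLE le_top).op).hom.toAlgebra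
    haveI : IsLocalization.Away α Γ(X, h ⁻¹ᵁ Da) := by
      have hg : ∀ (V' : X.Opens) (_ : V' = X.basicOpen α),
          letI : Algebra Γ(X, ⊤) Γ(X, V') := (X.presheaf.map (homOfLE le_top).op).hom.toAlgebra
          IsLocalization.Away α Γ(X, V') := by
        rintro V' rfl
        exact isLocalization_basicOpen_of_qcqs isCompact_univ isQuasiSeparated_univ α
      exact hg _ hopen.symm
    letI : Algebra T Γ(X, h ⁻¹ᵁ Da) := (h.app Da).hom.toAlgebra
    haveI : Module.Finite T Γ(X, h ⁻¹ᵁ Da) := hfin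
    obtain ⟨σ, hσ⟩ := Module.Finite.fg_top (R := T) (M := Γ(X, h ⁻¹ᵁ Da))
    choose N β hβ using fun s : Γ(X, h ⁻¹ᵁ Da) => IsLocalization.Away.surj α s
    refine ⟨β '' (σ : Set _), σ.finite_toSet.image _, fun b => ?_⟩
    let ρ : Γ(X, ⊤) →+* Γ(X, h ⁻¹ᵁ Da) := algebraMap _ _
    have hρA : ∀ x : A, ρ (algebraMap A Γ(X, ⊤) x) = algebraMap T _ (algebraMap A T x) := by
      intro x
      change X.presheaf.map (homOfLE le_top).op (h.appTop ((Scheme.ΓSpecIso (CommRingCat.of A)).inv x)) =
        h.app Da ((Spec (CommRingCat.of A)).presheaf.map (homOfLE le_top).op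
          ((Scheme.ΓSpecIso (CommRingCat.of A)).inv x))
      rw [← CommRingCat.comp_apply, ← CommRingCat.comp_apply (g := h.app Da), Scheme.Hom.naturality]
      rfl
    have hall : ∀ s : Γ(X, h ⁻¹ᵁ Da), ∃ (k : ℕ) (m : Γ(X, ⊤)),
        m ∈ Submodule.span A (β '' (σ : Set _)) ∧ ρ α ^ k * s = ρ m := by
      intro s
      have hs : s ∈ Submodule.span T (σ : Set Γ(X, h ⁻¹ᵁ Da)) := hσ ▸ Submodule.mem_top
      induction hs using Submodule.span_induction with
      | mem s hs => exact ⟨N s, β s, Submodule.subset_span ⟨s, hs, rfl⟩, by rw [mul_comm]; exact hβ s⟩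
      | zero => exact ⟨0, 0, zero_mem _, by rw [map_zero, mul_zero]⟩
      | add s t _ _ hs ht =>
        obtain ⟨k, m, hm, e⟩ := hs
        obtain ⟨l, m', hm', e'⟩ := ht
        refine ⟨k + l, a i ^ l • m + a i ^ k • m', add_mem (Submodule.smul_mem _ _ hm) (Submodule.smul_mem _ _ hm'), ?_⟩
        rw [Algebra.smul_def, Algebra.smul_def, map_add, map_mul, map_mul, map_pow (algebraMap A Γ(X, ⊤)),
          map_pow (algebraMap A Γ(X, ⊤)), map_pow, map_pow, ← e, ← e']
        change _ = ρ α ^ l * _ + ρ α ^ k * _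
        ring
      | smul t s _ hs =>
        obtain ⟨k, m, hm, e⟩ := hs
        obtain ⟨l, x, hx⟩ := IsLocalization.Away.surj (a i) t
        refine ⟨l + k, x • m, Submodule.smul_mem _ _ hm, ?_⟩
        rw [Algebra.smul_def t s, Algebra.smul_def x m, map_mul, hρA, ← hx, map_mul, map_pow, ← hρA, ← e]
        change _ = algebraMap T _ t * ρ α ^ l * _
        ring
    obtain ⟨k, m, hm, e⟩ := hall (ρ b)
    rw [← map_pow, ← map_mul] at e
    obtain ⟨⟨_, r, rfl⟩, hr⟩ := (IsLocalization.eq_iff_exists (Submonoid.powers α) Γ(X, h ⁻¹ᵁ Da)).1 e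
    refine ⟨r + k, ?_⟩
    rw [Algebra.smul_def, map_pow, pow_add, mul_assoc]
    rw [show algebraMap A Γ(X, ⊤) (a i) = α from rfl, hr]
    change α ^ r * m ∈ _
    rw [show α = algebraMap A Γ(X, ⊤) (a i) from rfl, ← map_pow, ← Algebra.smul_def]
    exact Submodule.smul_mem _ _ hm
  choose G hG hGb using key
  refine ⟨Submodule.span A (⋃ i, G i), Module.Finite.span_of_finite A (Set.finite_iUnion hG), fun i b => ?_⟩
  obtain ⟨k, hk⟩ := hGb i b
  exact ⟨k, Submodule.span_mono (Set.subset_iUnion G i) hk⟩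

/-- Two halves of a partition of the part over `V(f)` have no common generization. -/
theorem false_of_common_generization {f : A} (𝔞 : Ideal A) (ha : ∀ i, a i ∈ 𝔞)
    (hcov : ∀ p : PrimeSpectrum A, ¬ 𝔞 ≤ p.asIdeal → f ∈ p.asIdeal → ∃ i, a i ∉ p.asIdeal)
    (hcol : letI := (sectHom a v).toAlgebra
      ∀ M : Submodule A Γ(X, ⊤), Module.Finite A M → (∀ i, ∀ b : Γ(X, ⊤), ∃ k : ℕ, a i ^ k • b ∈ M) →
        Groth.CohDev.TS.ColimBij (Ideal.span {f}) M (LocCoh.puncturedOpen A 𝔞))
    {E₁ E₂ : Set X} (hE₁ : IsClosed E₁) (hE₂ : IsClosed E₂) (hdisj : Disjoint E₁ E₂)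
    (hunion : E₁ ∪ E₂ = (v ≫ (unionD a).ι).base ⁻¹' PrimeSpectrum.zeroLocus {f})
    {η y₁ y₂ : X} (hy₁ : y₁ ∈ E₁) (hy₂ : y₂ ∈ E₂) (h₁ : η ⤳ y₁) (h₂ : η ⤳ y₂) : False := by
  classical
  let h := v ≫ (unionD a).ι
  letI := (sectHom a v).toAlgebra
  haveI := isNoetherian_source a v
  haveI : X.IsQuasiAffine := Scheme.IsQuasiAffine.of_forall_exists_mem_basicOpen X fun x => by
    obtain ⟨i, hi⟩ := exists_mem_basicOpen_sectHom a v x
    exact ⟨_, isAffineOpen_basicOpen_sectHom a v i, hi⟩
  obtain ⟨M, hMfin, hMa⟩ := exists_finite_generating a v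
  haveI := hMfin
  let B := Γ(X, ⊤)
  let sp := X.toSpecΓ.base
  have hsp : Topology.IsOpenEmbedding sp := X.toSpecΓ.isOpenEmbedding
  -- points of the localisations
  have hθ : ∀ i (q : PrimeSpectrum (Loc B (a i))), ∃ x : X,
      sp x = PrimeSpectrum.comap (algebraMap B (Loc B (a i))) q := by
    intro i q
    refine basicOpen_subset_range_toSpecΓ X (isAffineOpen_basicOpen_sectHom a v i) ?_
    intro hq
    exact q.isPrime.ne_top (Ideal.eq_top_of_isUnit_mem _ hq
      (IsLocalization.Away.algebraMap_isUnit (sectHom a v (a i))))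
  choose θ hθ using hθ
  have hθc : ∀ i, Continuous (θ i) := fun i => hsp.isInducing.continuous_iff.2 (by
    rw [show sp ∘ θ i = PrimeSpectrum.comap (algebraMap B (Loc B (a i))) from funext (hθ i)]
    exact PrimeSpectrum.continuous_comap _)
  have hθf : ∀ i (q : PrimeSpectrum (Loc B (a i))),
      θ i q ∈ h.base ⁻¹' PrimeSpectrum.zeroLocus {f} ↔ algebraMap A (Loc B (a i)) f ∈ q.asIdeal := by
    intro i q
    have h1 : θ i q ∈ h.base ⁻¹' PrimeSpectrum.zeroLocus {f} ↔ θ i q ∉ X.basicOpen (sectHom a v f) := by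
      rw [basicOpen_sectHom]
      exact ⟨fun hz hb => hb (hz (Set.mem_singleton f)),
        fun hz => Set.singleton_subset_iff.2 (not_not.1 hz)⟩
    rw [h1, ← X.toSpecΓ_preimage_basicOpen (sectHom a v f)]
    change ¬ sp (θ i q) ∈ PrimeSpectrum.basicOpen (sectHom a v f) ↔ _
    rw [hθ, IsScalarTower.algebraMap_apply A B (Loc B (a i))]
    exact not_not
  -- idempotents
  have he : ∀ i, ∃ e : Loc B (a i), e * e - e ∈ Ideal.span {algebraMap A (Loc B (a i)) f} ∧
      ∀ q : PrimeSpectrum (Loc B (a i)), algebraMap A (Loc B (a i)) f ∈ q.asIdeal →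
        (e ∉ q.asIdeal ↔ θ i q ∈ E₁) := by
    intro i
    let J := Ideal.span {algebraMap A (Loc B (a i)) f}
    let c := PrimeSpectrum.comap (Ideal.Quotient.mk J)
    have hc : Continuous (θ i ∘ c) := (hθc i).comp (PrimeSpectrum.continuous_comap _)
    have hfc : ∀ z, algebraMap A (Loc B (a i)) f ∈ (c z).asIdeal := fun z => by
      change Ideal.Quotient.mk J _ ∈ z.asIdeal
      rw [Ideal.Quotient.eq_zero_iff_mem.2 (Ideal.mem_span_singleton_self _)]
      exact zero_mem _
    have hclop : IsClopen ((θ i ∘ c) ⁻¹' E₁) := by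
      refine ⟨hE₁.preimage hc, isClosed_compl_iff.1 ?_⟩
      have : ((θ i ∘ c) ⁻¹' E₁)ᶜ = (θ i ∘ c) ⁻¹' E₂ := Set.ext fun z =>
        ⟨fun hz => (hunion.ge ((hθf i (c z)).2 (hfc z))).resolve_left hz,
          fun hz hz' => Set.disjoint_left.1 hdisj hz' hz⟩
      rw [this]
      exact hE₂.preimage hc
    obtain ⟨ē, hē, hēE⟩ := PrimeSpectrum.isClopen_iff.1 hclop
    obtain ⟨e, rfl⟩ := Ideal.Quotient.mk_surjective ē
    refine ⟨e, Ideal.Quotient.eq.1 (by rw [map_mul]; exact hē), fun q hq => ?_⟩
    obtain ⟨z, rfl⟩ : q ∈ Set.range c := by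
      rw [range_comap_of_surjective _ _ Ideal.Quotient.mk_surjective, Ideal.mk_ker,
        PrimeSpectrum.mem_zeroLocus, SetLike.coe_subset_coe]
      exact (Ideal.span_singleton_le_iff_mem _).2 hq
    exact (Set.ext_iff.1 hēE z).symm
  choose e hidem hlab using he
  have hcompat : ∀ i j, resL (a i) (a j) (e i) - resR (a i) (a j) (e j) ∈ Ideal.span {algebraMap A _ f} := by
    intro i j
    let L := Localization.Away (algebraMap A B (a i) * algebraMap A B (a j))
    let J := Ideal.span {algebraMap A L f}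
    have hL : resL (a i) (a j) (algebraMap A (Loc B (a i)) f) = algebraMap A L f := by
      rw [IsScalarTower.algebraMap_apply A B (Loc B (a i)), resL_algebraMap, ← IsScalarTower.algebraMap_apply]
    have hR : resR (a i) (a j) (algebraMap A (Loc B (a j)) f) = algebraMap A L f := by
      rw [IsScalarTower.algebraMap_apply A B (Loc B (a j)), resR_algebraMap, ← IsScalarTower.algebraMap_apply]
    refine Ideal.Quotient.eq.1 (PrimeSpectrum.basicOpen_injOn_isIdempotentElem ?_ ?_ (SetLike.ext fun z => ?_))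
    · have := Ideal.mem_map_of_mem (resL (a i) (a j)) (hidem i)
      rw [Ideal.map_span, Set.image_singleton, hL, map_sub, map_mul] at this
      exact (map_mul (Ideal.Quotient.mk J) _ _).symm.trans (Ideal.Quotient.eq.2 this)
    · have := Ideal.mem_map_of_mem (resR (a i) (a j)) (hidem j)
      rw [Ideal.map_span, Set.image_singleton, hR, map_sub, map_mul] at this
      exact (map_mul (Ideal.Quotient.mk J) _ _).symm.trans (Ideal.Quotient.eq.2 this)
    · let q := PrimeSpectrum.comap (Ideal.Quotient.mk J) z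
      have hq : algebraMap A L f ∈ q.asIdeal := by
        change Ideal.Quotient.mk J _ ∈ z.asIdeal
        rw [Ideal.Quotient.eq_zero_iff_mem.2 (Ideal.mem_span_singleton_self _)]
        exact zero_mem _
      have hθθ : θ i (PrimeSpectrum.comap (resL (a i) (a j)) q) = θ j (PrimeSpectrum.comap (resR (a i) (a j)) q) := by
        refine hsp.injective ((hθ _ _).trans (Eq.trans ?_ (hθ _ _).symm))
        have eL : (resL (a i) (a j)).comp (algebraMap B (Loc B (a i))) = algebraMap B L :=
          RingHom.ext fun b => resL_algebraMap (a i) (a j) b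
        have eR : (resR (a i) (a j)).comp (algebraMap B (Loc B (a j))) = algebraMap B L :=
          RingHom.ext fun b => resR_algebraMap (a i) (a j) b
        exact (PrimeSpectrum.comap_comp_apply _ _ q).symm.trans
          ((congrArg (fun φ => PrimeSpectrum.comap φ q) (eL.trans eR.symm)).trans
            (PrimeSpectrum.comap_comp_apply _ _ q))
      have h1 := hlab i (PrimeSpectrum.comap (resL (a i) (a j)) q) (by
        change resL (a i) (a j) _ ∈ q.asIdeal; rw [hL]; exact hq)
      have h2 := hlab j (PrimeSpectrum.comap (resR (a i) (a j)) q) (by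
        change resR (a i) (a j) _ ∈ q.asIdeal; rw [hR]; exact hq)
      rw [← hθθ] at h2
      exact h1.trans h2.symm
  -- the primes
  have hlift : ∀ y ∈ h.base ⁻¹' PrimeSpectrum.zeroLocus {f}, ∃ (i : ι) (q : PrimeSpectrum (Loc B (a i))),
      algebraMap A (Loc B (a i)) f ∈ q.asIdeal ∧ θ i q = y := by
    intro y hy
    obtain ⟨i, hi⟩ := exists_mem_basicOpen_sectHom a v y
    rw [← X.toSpecΓ_preimage_basicOpen] at hi
    obtain ⟨q, hq⟩ : sp y ∈ Set.range (PrimeSpectrum.comap (algebraMap B (Loc B (a i)))) := by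
      rw [PrimeSpectrum.localization_away_comap_range (S := Loc B (a i)) (sectHom a v (a i))]
      exact hi
    have hqy : θ i q = y := hsp.injective ((hθ i q).trans hq)
    exact ⟨i, q, (hθf i q).1 (by rw [hqy]; exact hy), hqy⟩
  obtain ⟨i, P, hfP, rfl⟩ := hlift y₁ (hunion.le (.inl hy₁))
  obtain ⟨j, P', hfP', rfl⟩ := hlift y₂ (hunion.le (.inr hy₂))
  have hnoeth : ∀ i, IsNoetherianRing (Loc B (a i)) := by
    intro i
    let α := sectHom a v (a i)
    haveI := IsLocallyNoetherian.component_noetherian ⟨_, isAffineOpen_basicOpen_sectHom a v i⟩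
    letI : Algebra B Γ(X, X.basicOpen α) := (X.presheaf.map (homOfLE le_top : X.basicOpen α ⟶ ⊤).op).hom.toAlgebra
    haveI : IsLocalization.Away α Γ(X, X.basicOpen α) :=
      isLocalization_basicOpen_of_qcqs isCompact_univ isQuasiSeparated_univ α
    exact isNoetherianRing_of_ringEquiv Γ(X, X.basicOpen α)
      (IsLocalization.algEquiv (Submonoid.powers α) Γ(X, X.basicOpen α) (Localization.Away α)).toRingEquiv
  refine no_common_generization f a 𝔞 ha hcov hMa hnoeth (hcol M hMfin hMa) e hidem hcompat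
    P.asIdeal P'.asIdeal hfP hfP' ((hlab i P hfP).2 hy₁)
    (not_not.1 fun hh => Set.disjoint_left.1 hdisj ((hlab j P' hfP').1 hh) hy₂) (sp η).asIdeal ?_ ?_
  · have := (PrimeSpectrum.le_iff_specializes _ _).2 (h₁.map hsp.continuous)
    rw [hθ] at this
    exact this
  · have := (PrimeSpectrum.le_iff_specializes _ _).2 (h₂.map hsp.continuous)
    rw [hθ] at this
    exact this

end Groth.Pi1Lef
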