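import Groth.Agent.CohDev.TildeHV
import Groth.Agent.LocCohTransform.FormalColimPrincipal
import Groth.Prelude.Def_Formal2
import Mathlib.RingTheory.Filtration
import Mathlib.RingTheory.Localization.Away.Basic

/-!
# Oppositely labelled points of `V(f)` have no common generalization

`B` is an algebra over `A` which is, over each `D(aᵢ)`, given by the finite module `M ⊆ B`. An
idempotent modulo `f` on the `B[1/aᵢ]` lifts to formal sections of `M~`; if these come from sections
near `V(f)`, a point where the idempotent is `1` and one where it is `0` have no common generalization.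
-/

universe u

set_option autoImplicit false
set_option linter.style.haveILetI false

open TopologicalSpace
open Formal2 (quotPow quotPowπ quotPowTrans Admissible)
open Groth.CohDev.TS

namespace Groth.Pi1Lef

section Idem

variable {R R' : Type u} [CommRing R] [CommRing R']

/-- The idempotent improving step. -/
def idemStep (x : R) : R := 3 * x ^ 2 - 2 * x ^ 3

theorem idemStep_iterate_mem (f x : R) (hx : x * x - x ∈ Ideal.span {f}) (n : ℕ) :
    (idemStep^[n] x) * (idemStep^[n] x) - idemStep^[n] x ∈ Ideal.span {f ^ (n + 1)} := by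
  induction n with
  | zero => simpa using hx
  | succ n ih =>
    rw [Function.iterate_succ_apply']
    set y := idemStep^[n] x
    have e : idemStep y * idemStep y - idemStep y = (y * y - y) * (y * y - y) * (4 * y ^ 2 - 4 * y - 3) := by
      unfold idemStep; ring
    rw [e]
    refine Ideal.mul_mem_right _ _ ?_
    obtain ⟨c, hc⟩ := Ideal.mem_span_singleton.1 ih
    refine Ideal.mem_span_singleton.2 ⟨f ^ n * c * c, ?_⟩
    rw [hc]; ring

theorem idemStep_iterate_sub (f x : R) (hx : x * x - x ∈ Ideal.span {f}) (n : ℕ) :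
    idemStep^[n + 1] x - idemStep^[n] x ∈ Ideal.span {f ^ (n + 1)} := by
  rw [Function.iterate_succ_apply']
  set y := idemStep^[n] x
  have e : idemStep y - y = (y * y - y) * (1 - 2 * y) := by unfold idemStep; ring
  rw [e]
  exact Ideal.mul_mem_right _ _ (idemStep_iterate_mem f x hx n)

theorem idemStep_iterate_sub_self (f x : R) (hx : x * x - x ∈ Ideal.span {f}) (n : ℕ) :
    idemStep^[n] x - x ∈ Ideal.span {f} := by
  induction n with
  | zero => simp
  | succ n ih =>
    rw [show idemStep^[n + 1] x - x = (idemStep^[n + 1] x - idemStep^[n] x) + (idemStep^[n] x - x) by ring]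
    refine add_mem ?_ ih
    exact Ideal.mem_span_singleton.2 ((dvd_pow_self f n.succ_ne_zero).trans
      (Ideal.mem_span_singleton.1 (idemStep_iterate_sub f x hx n)))

theorem map_idemStep_iterate (φ : R →+* R') (x : R) (n : ℕ) :
    φ (idemStep^[n] x) = idemStep^[n] (φ x) := by
  induction n with
  | zero => rfl
  | succ n ih =>
    rw [Function.iterate_succ_apply', Function.iterate_succ_apply', ← ih]
    simp only [idemStep, map_sub, map_mul, map_pow, map_ofNat]

/-- Approximate idempotents congruent modulo `f` are congruent modulo higher powers. -/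
theorem idem_congr {f x y : R} {N : ℕ} (hx : x * x - x ∈ Ideal.span {f ^ N})
    (hy : y * y - y ∈ Ideal.span {f ^ N}) (h : x - y ∈ Ideal.span {f}) :
    x - y ∈ Ideal.span {f ^ N} := by
  have key : ∀ k, 1 ≤ k → k ≤ N → x - y ∈ Ideal.span {f ^ k} := by
    intro k hk
    induction k, hk using Nat.le_induction with
    | base => intro _; simpa using h
    | succ k hk ih =>
      intro hkN
      have h3 : (x - y) ^ 3 - (x - y) ∈ Ideal.span {f ^ N} := by
        rw [show (x - y) ^ 3 - (x - y) =
          (x * x - x) * (x + 1 - 3 * y) - (y * y - y) * (y + 1 - 3 * x) by ring]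
        exact sub_mem (Ideal.mul_mem_right _ _ hx) (Ideal.mul_mem_right _ _ hy)
      obtain ⟨c, hc⟩ := Ideal.mem_span_singleton.1 (ih (by omega))
      obtain ⟨d, hd⟩ := Ideal.mem_span_singleton.1 h3
      obtain ⟨m, rfl⟩ := Nat.exists_eq_add_of_le hkN
      refine Ideal.mem_span_singleton.2 ⟨f ^ (k - 1) * f ^ k * c ^ 3 - f ^ m * d, ?_⟩
      obtain ⟨k', rfl⟩ := Nat.exists_eq_add_of_le hk
      rw [show x - y = (x - y) ^ 3 - ((x - y) ^ 3 - (x - y)) by ring, hd, hc, Nat.add_sub_cancel_left]
      ring
  rcases Nat.eq_zero_or_pos N with rfl | hN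
  · simp
  · exact key N hN le_rfl

/-- An approximate idempotent congruent to a unit is congruent to one. -/
theorem idem_sub_one_mem {f x : R} {N : ℕ} (hx : x * x - x ∈ Ideal.span {f ^ N}) (hu : IsUnit x) :
    x - 1 ∈ Ideal.span {f ^ N} := by
  obtain ⟨v, rfl⟩ := hu
  have := Ideal.mul_mem_left _ (↑v⁻¹ : R) hx
  rwa [mul_sub, ← mul_assoc, Units.inv_mul, one_mul] at this

end Idem

variable {A : Type u} [CommRing A] (f : A) {B : Type u} [CommRing B] [Algebra A B] (M : Submodule A B)

/-- Sections of modules killed by a power of `f` vanish on opens where `f` is invertible. -/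
theorem sec_eq_zero_of_le {N : Type u} [AddCommGroup N] [Module A N] {n : ℕ}
    (h : ∀ x : N, f ^ n • x = 0) {W : Op A} (hW : W ≤ D f) (s : Sec (A := A) N W) : s = 0 :=
  (pow_smul_bijective hW n).1 <| by
    change f ^ n • s = f ^ n • (0 : Sec (A := A) N W)
    rw [smul_zero]
    exact LocCohTransform.ColimPrincipal.of_killed h W s

theorem killed_quotPow (n : ℕ) (x : quotPow A (Ideal.span {f}) M n) : f ^ (n + 1) • x = 0 :=
  killed_quot M _ (n + 1) le_rfl _ (Ideal.pow_mem_pow (Ideal.mem_span_singleton_self f) _) x

variable {M}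

variable (B) in
/-- The localization `B[1/a]`. -/
abbrev Loc (a : A) : Type u := Localization.Away (algebraMap A B a)

/-- The comparison of two localisations in the one at the product. -/
noncomputable def resL (a a' : A) :
    Loc B a →+* Localization.Away (algebraMap A B a * algebraMap A B a') :=
  IsLocalization.Away.lift (algebraMap A B a)
    (g := algebraMap B (Localization.Away (algebraMap A B a * algebraMap A B a')))
    (isUnit_of_dvd_unit (map_dvd _ (dvd_mul_right _ _))
      (IsLocalization.Away.algebraMap_isUnit (algebraMap A B a * algebraMap A B a')))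

/-- The comparison of two localisations in the one at the product. -/
noncomputable def resR (a a' : A) :
    Loc B a' →+* Localization.Away (algebraMap A B a * algebraMap A B a') :=
  IsLocalization.Away.lift (algebraMap A B a')
    (g := algebraMap B (Localization.Away (algebraMap A B a * algebraMap A B a')))
    (isUnit_of_dvd_unit (map_dvd _ (dvd_mul_left _ _))
      (IsLocalization.Away.algebraMap_isUnit (algebraMap A B a * algebraMap A B a')))

theorem resL_algebraMap (a a' : A) (b : B) : resL a a' (algebraMap B (Loc B a) b) = algebraMap B _ b :=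
  IsLocalization.Away.lift_eq _ _ b

theorem resR_algebraMap (a a' : A) (b : B) : resR a a' (algebraMap B (Loc B a') b) = algebraMap B _ b :=
  IsLocalization.Away.lift_eq _ _ b

theorem resL_self (a : A) : resL (B := B) a a = resR a a :=
  IsLocalization.ringHom_ext (Submonoid.powers (algebraMap A B a))
    (RingHom.ext fun b => (resL_algebraMap a a b).trans (resR_algebraMap a a b).symm)

/-- Sections given by congruent elements agree. -/
theorem sec_eq_of_congr {a a' : A} (hMa : ∀ b : B, ∃ k : ℕ, a ^ k • b ∈ M) {n k l : ℕ} {m m' : M}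
    {e : Loc B a} {e' : Loc B a'} (hm : algebraMap A (Loc B a) a ^ k * e = algebraMap B _ (m : B))
    (hm' : algebraMap A (Loc B a') a' ^ l * e' = algebraMap B _ (m' : B))
    (hee : resL a a' e - resR a a' e' ∈ Ideal.span {algebraMap A _ f ^ (n + 1)})
    {W : Op A} (hW : W ≤ D a) (hW' : W ≤ D a')
    {s s' : Sec (A := A) (quotPow A (Ideal.span {f}) M n) W}
    (hs : a ^ k • s = of W (quotPowπ A (Ideal.span {f}) M n m))
    (hs' : a' ^ l • s' = of W (quotPowπ A (Ideal.span {f}) M n m')) : s = s' := by
  let L := Localization.Away (algebraMap A B a * algebraMap A B a')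
  let z : M := a' ^ l • m - a ^ k • m'
  have hbij : ∀ j : ℕ, Function.Bijective
      (fun t : Sec (A := A) (quotPow A (Ideal.span {f}) M n) W => a ^ j • t) := fun j => pow_smul_bijective hW j
  have hbij' : ∀ j : ℕ, Function.Bijective
      (fun t : Sec (A := A) (quotPow A (Ideal.span {f}) M n) W => a' ^ j • t) := fun j => pow_smul_bijective hW' j
  refine (hbij k).1 ((hbij' l).1 ?_)
  change a' ^ l • a ^ k • s = a' ^ l • a ^ k • s'
  rw [hs, smul_comm (a' ^ l) (a ^ k) s', hs', ← map_smul, ← map_smul, ← map_smul, ← map_smul, ← sub_eq_zero,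
    ← map_sub, ← map_sub]
  change of W (quotPowπ A (Ideal.span {f}) M n z) = 0
  have hea : resL a a' (algebraMap A (Loc B a) a) = algebraMap A L a := by
    rw [IsScalarTower.algebraMap_apply A B (Loc B a), resL_algebraMap, ← IsScalarTower.algebraMap_apply]
  have hea' : resR a a' (algebraMap A (Loc B a') a') = algebraMap A L a' := by
    rw [IsScalarTower.algebraMap_apply A B (Loc B a'), resR_algebraMap, ← IsScalarTower.algebraMap_apply]
  have hz : algebraMap B L (z : B) ∈ Ideal.span {algebraMap A L f ^ (n + 1)} := by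
    have h1 : algebraMap B L (z : B) =
        algebraMap A L a ^ k * algebraMap A L a' ^ l * (resL a a' e - resR a a' e') := by
      have e1 := congrArg (resL a a') hm
      have e2 := congrArg (resR a a') hm'
      rw [map_mul, map_pow, hea, resL_algebraMap] at e1
      rw [map_mul, map_pow, hea', resR_algebraMap] at e2
      rw [show (z : B) = a' ^ l • (m : B) - a ^ k • (m' : B) from rfl, Algebra.smul_def, Algebra.smul_def,
        map_sub, map_mul, map_mul, ← e1, ← e2, ← IsScalarTower.algebraMap_apply,
        ← IsScalarTower.algebraMap_apply, map_pow, map_pow]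
      ring
    rw [h1]
    exact Ideal.mul_mem_left _ _ hee
  obtain ⟨c, hc⟩ := Ideal.mem_span_singleton.1 hz
  obtain ⟨N, b, hb⟩ := IsLocalization.Away.surj (algebraMap A B a * algebraMap A B a') c
  have hzb : algebraMap B L ((a * a') ^ N • (z : B)) = algebraMap B L (f ^ (n + 1) • b) := by
    rw [Algebra.smul_def, Algebra.smul_def, map_mul, map_mul, hc, ← hb, ← IsScalarTower.algebraMap_apply,
      ← IsScalarTower.algebraMap_apply, map_pow, map_pow, map_mul (algebraMap A L), map_mul (algebraMap B L),
      ← IsScalarTower.algebraMap_apply, ← IsScalarTower.algebraMap_apply]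
    ring
  obtain ⟨⟨_, M₀, rfl⟩, hM₀⟩ :=
    (IsLocalization.eq_iff_exists (Submonoid.powers (algebraMap A B a * algebraMap A B a')) L).1 hzb
  obtain ⟨K, hK⟩ := hMa ((a * a') ^ M₀ • b)
  let b' : M := ⟨a ^ K • (a * a') ^ M₀ • b, hK⟩
  have hkill : a ^ K • (a * a') ^ (M₀ + N) • quotPowπ A (Ideal.span {f}) M n z = 0 := by
    rw [← map_smul, ← map_smul, Submodule.mkQ_apply, Submodule.Quotient.mk_eq_zero,
      Ideal.span_singleton_pow, Submodule.ideal_span_singleton_smul]
    refine ⟨b', trivial, Subtype.ext ?_⟩
    change f ^ (n + 1) • a ^ K • (a * a') ^ M₀ • b = a ^ K • (a * a') ^ (M₀ + N) • (z : B)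
    have h2 : (a * a') ^ M₀ • (a * a') ^ N • (z : B) = (a * a') ^ M₀ • f ^ (n + 1) • b := by
      rw [Algebra.smul_def ((a * a') ^ M₀), Algebra.smul_def ((a * a') ^ M₀), map_pow, map_mul]
      exact hM₀
    rw [pow_add (a * a'), mul_smul, h2, smul_comm ((a * a') ^ M₀) (f ^ (n + 1)), smul_comm (a ^ K) (f ^ (n + 1))]
  refine (pow_smul_bijective hW K).1 ?_
  refine (pow_smul_bijective (a := a * a') (fun p hp h => ?_) (M₀ + N)).1 ?_
  · rcases p.isPrime.mem_or_mem h with h | h
    · exact hW hp h
    · exact hW' hp h
  · change (a * a') ^ (M₀ + N) • a ^ K • of W (quotPowπ A (Ideal.span {f}) M n z) =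
      (a * a') ^ (M₀ + N) • a ^ K • (0 : Sec (A := A) (quotPow A (Ideal.span {f}) M n) W)
    rw [smul_comm, ← map_smul, ← map_smul, hkill, map_zero, smul_zero, smul_zero]

variable {ι : Type u} [Finite ι] (a : ι → A)

/-- The main criterion: no common generalization of oppositely labelled points. -/
theorem no_common_generization [IsNoetherianRing A] [Module.Finite A M] (𝔞 : Ideal A)
    (ha : ∀ i, a i ∈ 𝔞)
    (hcov : ∀ p : PrimeSpectrum A, ¬ 𝔞 ≤ p.asIdeal → f ∈ p.asIdeal → ∃ i, a i ∉ p.asIdeal)
    (hMa : ∀ i, ∀ b : B, ∃ k : ℕ, a i ^ k • b ∈ M) (hnoeth : ∀ i, IsNoetherianRing (Loc B (a i)))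
    (hcol : ColimBij (Ideal.span {f}) M (LocCoh.puncturedOpen A 𝔞))
    (e₀ : ∀ i, Loc B (a i))
    (hidem : ∀ i, e₀ i * e₀ i - e₀ i ∈ Ideal.span {algebraMap A (Loc B (a i)) f})
    (hcompat : ∀ i j, resL (a i) (a j) (e₀ i) - resR (a i) (a j) (e₀ j) ∈ Ideal.span {algebraMap A _ f})
    {i j : ι} (P : Ideal (Loc B (a i))) [P.IsPrime] (P' : Ideal (Loc B (a j))) [P'.IsPrime]
    (hfP : algebraMap A _ f ∈ P) (hfP' : algebraMap A _ f ∈ P') (heP : e₀ i ∉ P) (heP' : e₀ j ∈ P')
    (Q : Ideal B) [Q.IsPrime] (hQ : Q ≤ P.comap (algebraMap B _)) (hQ' : Q ≤ P'.comap (algebraMap B _)) :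
    False := by
  classical
  let U := LocCoh.puncturedOpen A 𝔞
  have hDU : ∀ i, D (a i) ≤ U := fun i p hp h => hp (h (ha i))
  let e : ∀ i, ℕ → Loc B (a i) := fun i n => idemStep^[n] (e₀ i)
  have he : ∀ i n, e i n * e i n - e i n ∈ Ideal.span {algebraMap A (Loc B (a i)) f ^ (n + 1)} :=
    fun i n => idemStep_iterate_mem _ _ (hidem i) n
  have hee : ∀ i j n, resL (a i) (a j) (e i n) - resR (a i) (a j) (e j n) ∈
      Ideal.span {algebraMap A _ f ^ (n + 1)} := fun i j n => by
    have hL : resL (a i) (a j) (algebraMap A (Loc B (a i)) f) = algebraMap A _ f := by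
      rw [IsScalarTower.algebraMap_apply A B (Loc B (a i)), resL_algebraMap, ← IsScalarTower.algebraMap_apply]
    have hR : resR (a i) (a j) (algebraMap A (Loc B (a j)) f) = algebraMap A _ f := by
      rw [IsScalarTower.algebraMap_apply A B (Loc B (a j)), resR_algebraMap, ← IsScalarTower.algebraMap_apply]
    have hxL : resL (a i) (a j) (e₀ i) * resL (a i) (a j) (e₀ i) - resL (a i) (a j) (e₀ i) ∈
        Ideal.span {algebraMap A (Localization.Away (algebraMap A B (a i) * algebraMap A B (a j))) f} := by
      have := Ideal.mem_map_of_mem (resL (a i) (a j)) (hidem i)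
      rwa [Ideal.map_span, Set.image_singleton, map_sub, map_mul, hL] at this
    have hxR : resR (a i) (a j) (e₀ j) * resR (a i) (a j) (e₀ j) - resR (a i) (a j) (e₀ j) ∈
        Ideal.span {algebraMap A (Localization.Away (algebraMap A B (a i) * algebraMap A B (a j))) f} := by
      have := Ideal.mem_map_of_mem (resR (a i) (a j)) (hidem j)
      rwa [Ideal.map_span, Set.image_singleton, map_sub, map_mul, hR] at this
    rw [map_idemStep_iterate, map_idemStep_iterate]
    refine idem_congr (idemStep_iterate_mem _ _ hxL n) (idemStep_iterate_mem _ _ hxR n) ?_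
    have h1 := idemStep_iterate_sub_self _ _ hxL n
    have h2 := idemStep_iterate_sub_self _ _ hxR n
    have := add_mem (sub_mem h1 h2) (hcompat i j)
    convert this using 1
    ring
  have hnum : ∀ i n, ∃ (k : ℕ) (m : M), algebraMap A (Loc B (a i)) (a i) ^ k * e i n = algebraMap B _ (m : B) := by
    intro i n
    obtain ⟨N, b, hb⟩ := IsLocalization.Away.surj (algebraMap A B (a i)) (e i n)
    obtain ⟨K, hK⟩ := hMa i b
    refine ⟨K + N, ⟨_, hK⟩, ?_⟩
    change _ = algebraMap B _ (a i ^ K • b)
    rw [Algebra.smul_def, map_mul, ← hb, ← IsScalarTower.algebraMap_apply, map_pow,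
      ← IsScalarTower.algebraMap_apply]
    ring
  choose k m hm using hnum
  have hs : ∀ i n, ∃ s : Sec (A := A) (quotPow A (Ideal.span {f}) M n) (D (a i)),
      a i ^ k i n • s = of (D (a i)) (quotPowπ A (Ideal.span {f}) M n (m i n)) := fun i n =>
    (pow_smul_bijective le_rfl (k i n)).2 _
  choose s hs using hs
  have hs' : ∀ i n (W : Op A) (hW : W ≤ D (a i)),
      a i ^ k i n • res hW (s i n) = of W (quotPowπ A (Ideal.span {f}) M n (m i n)) := fun i n W hW => by
    rw [← map_smul, hs, res_of]
  -- glue
  have hy : ∀ n, ∃ y : Sec (A := A) (quotPow A (Ideal.span {f}) M n) U, ∀ i, res (hDU i) y = s i n := by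
    intro n
    let W : Option ι → Op A := fun o => o.elim (U ⊓ D f) fun i => D (a i)
    let t : ∀ o, Sec (A := A) (quotPow A (Ideal.span {f}) M n) (W o) := fun o =>
      match o with
      | none => 0
      | some i => s i n
    have hWle : ∀ o, W o ≤ U := fun o => by
      cases o
      · exact inf_le_left
      · exact hDU _
    have hz : ∀ {W' : Op A} (_ : W' ≤ D f) (s : Sec (A := A) (quotPow A (Ideal.span {f}) M n) W'), s = 0 :=
      fun hW' s => sec_eq_zero_of_le f (killed_quotPow f M n) hW' s
    obtain ⟨y, hy⟩ := glue W hWle (fun p hp => by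
        by_cases hf : f ∈ p.asIdeal
        · obtain ⟨i, hi⟩ := hcov p hp hf
          exact Opens.mem_iSup.2 ⟨some i, hi⟩
        · exact Opens.mem_iSup.2 ⟨none, hp, hf⟩) t fun o o' => by
      rcases o with _ | i <;> rcases o' with _ | j
      · exact (map_zero _).trans (map_zero _).symm
      · exact (hz (inf_le_left.trans inf_le_right) _).trans (hz (inf_le_left.trans inf_le_right) _).symm
      · exact (hz (inf_le_right.trans inf_le_right) _).trans (hz (inf_le_right.trans inf_le_right) _).symm
      · exact sec_eq_of_congr f (hMa i) (hm i n) (hm j n) (hee i j n) inf_le_left inf_le_right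
          (hs' i n _ _) (hs' j n _ _)
    exact ⟨y, fun i => hy (some i)⟩
  choose y hy using hy
  have hcompat_y : ∀ n, map (quotPowTrans A (Ideal.span {f}) M n) U (y (n + 1)) = y n := by
    intro n
    refine sep (ι := Option ι) (fun o => o.elim (U ⊓ D f) fun i => D (a i)) (fun o => by
      cases o
      · exact inf_le_left
      · exact hDU _) (fun p hp => ?_) fun o => ?_
    · by_cases hf : f ∈ p.asIdeal
      · obtain ⟨i, hi⟩ := hcov p hp hf
        exact Opens.mem_iSup.2 ⟨some i, hi⟩
      · exact Opens.mem_iSup.2 ⟨none, hp, hf⟩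
    · rcases o with _ | i
      · exact (sec_eq_zero_of_le f (killed_quotPow f M n) inf_le_right _).trans
          (sec_eq_zero_of_le f (killed_quotPow f M n) inf_le_right _).symm
      · change res (hDU i) (map _ U (y (n + 1))) = res (hDU i) (y n)
        rw [← map_res, hy, hy]
        refine sec_eq_of_congr f (hMa i) (hm i (n + 1)) (hm i n) ?_ le_rfl le_rfl
          (k := k i (n + 1)) ?_ (hs i n)
        · rw [resL_self, ← map_sub]
          have := Ideal.mem_map_of_mem (resR (B := B) (a i) (a i))
            (idemStep_iterate_sub _ _ (hidem i) n)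
          rw [Ideal.map_span, Set.image_singleton, map_pow] at this
          rwa [IsScalarTower.algebraMap_apply A B (Loc B (a i)), resR_algebraMap,
            ← IsScalarTower.algebraMap_apply] at this
        · rw [← map_smul, hs, map_of]
          rfl
  obtain ⟨V, hV, x, hx⟩ := hcol.2 y hcompat_y
  -- values at a point of `V(f)`
  have key : ∀ (i : ι) (P : Ideal (Loc B (a i))) [P.IsPrime], algebraMap A _ f ∈ P → ∀ (c : B),
      (∀ n, e i n - algebraMap B _ c ∈ P → e i n * e i n - e i n ∈ Ideal.span {algebraMap A (Loc B (a i)) f ^ (n + 1)} →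
        algebraMap (Loc B (a i)) (Localization.AtPrime P) (e i n - algebraMap B _ c) ∈
          Ideal.span {algebraMap A (Localization.AtPrime P) f ^ (n + 1)}) →
      e₀ i - algebraMap B _ c ∈ P →
      ∀ (Q : Ideal B), Q.IsPrime → Q ≤ P.comap (algebraMap B _) →
      ∃ (g : A) (hg : D g ≤ V) (t : ℕ) (mm : M), algebraMap A B g ∉ Q ∧
        g ^ t • res hg x = of (D g) mm ∧ (mm : B) - g ^ t • c ∈ Q := by
    intro i P _ hfP c hc hec Q hQp hQ
    let p : PrimeSpectrum A := ⟨P.comap (algebraMap A _), inferInstance⟩
    have hap : a i ∉ p.asIdeal := fun h => ‹P.IsPrime›.ne_top (Ideal.eq_top_of_isUnit_mem _ h (by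
      rw [IsScalarTower.algebraMap_apply A B (Loc B (a i))]
      exact IsLocalization.Away.algebraMap_isUnit (algebraMap A B (a i))))
    have hpV : p ∈ V := hV.2 p (hDU i hap) (by
      change (Ideal.span {f} : Set A) ⊆ p.asIdeal
      rw [SetLike.coe_subset_coe, Ideal.span_singleton_le_iff_mem]
      exact hfP)
    obtain ⟨g, hpg, hg⟩ := exists_D_le (show p ∈ V ⊓ D (a i) from ⟨hpV, hap⟩)
    obtain ⟨t, mm, hmm⟩ := exists_of_eq (res (hg.trans inf_le_left) x)
    have hgP : algebraMap A (Loc B (a i)) g ∉ P := hpg
    have hgQ : algebraMap A B g ∉ Q := fun h => hgP (by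
      rw [IsScalarTower.algebraMap_apply A B (Loc B (a i))]; exact hQ h)
    refine ⟨g, hg.trans inf_le_left, t, mm, hgQ, hmm, ?_⟩
    let R := Localization.AtPrime P
    haveI := hnoeth i
    haveI : IsNoetherianRing R := IsLocalization.isNoetherianRing P.primeCompl R inferInstance
    have hval : ∀ n, algebraMap (Loc B (a i)) R (algebraMap B _ ((mm : B) - g ^ t • c)) ∈
        Ideal.span {algebraMap A R f ^ (n + 1)} := by
      intro n
      have hen : e i n - algebraMap B _ c ∈ P := by
        rw [show e i n - algebraMap B _ c = (e i n - e₀ i) + (e₀ i - algebraMap B _ c) by ring]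
        refine add_mem ?_ hec
        exact (Ideal.span_singleton_le_iff_mem P).2 hfP (idemStep_iterate_sub_self _ _ (hidem i) n)
      have h1 : a i ^ k i n • of (D g) (quotPowπ A (Ideal.span {f}) M n mm) =
          g ^ t • of (D g) (quotPowπ A (Ideal.span {f}) M n (m i n)) := by
        rw [← hs' i n (D g) (hg.trans inf_le_right), smul_comm (g ^ t), ← map_of, ← hmm, map_smul, map_res,
          ← hx n, res_res, ← hy n i, res_res]
      rw [← map_smul, ← map_smul, ← map_smul, ← map_smul, ← sub_eq_zero, ← map_sub, ← map_sub,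
        of_eq_zero_iff] at h1
      obtain ⟨N, hN⟩ := h1
      rw [← map_smul, Submodule.mkQ_apply, Submodule.Quotient.mk_eq_zero, Ideal.span_singleton_pow,
        Submodule.ideal_span_singleton_smul] at hN
      obtain ⟨z, -, hz⟩ := hN
      let φ : B →+* R := (algebraMap (Loc B (a i)) R).comp (algebraMap B _)
      have hφA : ∀ r : A, φ (algebraMap A B r) = algebraMap A R r := fun r => by
        change algebraMap (Loc B (a i)) R (algebraMap B _ (algebraMap A B r)) = _
        rw [← IsScalarTower.algebraMap_apply, ← IsScalarTower.algebraMap_apply]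
      have hgu : IsUnit (algebraMap A R g) := by
        rw [IsScalarTower.algebraMap_apply A (Loc B (a i)) R]
        exact IsLocalization.map_units R (⟨_, hgP⟩ : P.primeCompl)
      have hau : IsUnit (algebraMap A R (a i)) := by
        rw [IsScalarTower.algebraMap_apply A (Loc B (a i)) R]
        exact IsLocalization.map_units R (⟨_, hap⟩ : P.primeCompl)
      have hz' : algebraMap A R f ^ (n + 1) * φ (z : B) =
          algebraMap A R g ^ N * (algebraMap A R (a i) ^ k i n * φ mm - algebraMap A R g ^ t * φ (m i n : B)) := by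
        have := congrArg (fun w : M => φ (w : B)) hz
        simpa [Algebra.smul_def, hφA] using this
      have hmn : φ (m i n : B) = algebraMap A R (a i) ^ k i n * algebraMap (Loc B (a i)) R (e i n) := by
        change algebraMap (Loc B (a i)) R (algebraMap B _ (m i n : B)) = _
        rw [← hm, map_mul, map_pow, ← IsScalarTower.algebraMap_apply]
      rw [hmn] at hz'
      have h2 : φ mm - algebraMap A R g ^ t * algebraMap (Loc B (a i)) R (e i n) ∈
          Ideal.span {algebraMap A R f ^ (n + 1)} := by
        rw [← Ideal.unit_mul_mem_iff_mem _ ((hgu.pow N).mul (hau.pow (k i n)))]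
        refine Ideal.mem_span_singleton.2 ⟨φ (z : B), ?_⟩
        rw [hz']; ring
      have h3 := add_mem h2 (Ideal.mul_mem_left _ (algebraMap A R g ^ t) (hc n hen (he i n)))
      convert h3 using 1
      change φ ((mm : B) - g ^ t • c) = φ mm - algebraMap A R g ^ t * algebraMap _ R (e i n) +
        algebraMap A R g ^ t * algebraMap _ R (e i n - algebraMap B _ c)
      rw [map_sub, Algebra.smul_def, map_mul, hφA, map_pow, map_sub,
        show algebraMap _ R (algebraMap B (Loc B (a i)) c) = φ c from rfl]
      ring
    have h0 : algebraMap (Loc B (a i)) R (algebraMap B _ ((mm : B) - g ^ t • c)) = 0 := by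
      have hne : Ideal.span {algebraMap A R f} ≠ ⊤ := by
        rw [Ne, Ideal.span_singleton_eq_top, IsScalarTower.algebraMap_apply A (Loc B (a i)) R,
          IsLocalization.AtPrime.isUnit_to_map_iff R P]
        exact fun h => h hfP
      have := Ideal.iInf_pow_eq_bot_of_isLocalRing (Ideal.span {algebraMap A R f}) hne
      rw [← Ideal.mem_bot, ← this, Submodule.mem_iInf]
      intro n
      rw [Ideal.span_singleton_pow]
      cases n with
      | zero => simp
      | succ n => exact hval n
    obtain ⟨⟨u, hu⟩, hu0⟩ := (IsLocalization.map_eq_zero_iff P.primeCompl R _).1 h0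
    obtain ⟨N, b, hb⟩ := IsLocalization.Away.surj (algebraMap A B (a i)) u
    have hb0 : algebraMap B (Loc B (a i)) (b * ((mm : B) - g ^ t • c)) = 0 := by
      rw [map_mul, ← hb, mul_assoc, mul_comm (_ ^ N), ← mul_assoc]
      change u * _ * _ = 0
      rw [hu0, zero_mul]
    obtain ⟨⟨_, r, rfl⟩, hr0⟩ := (IsLocalization.map_eq_zero_iff
      (Submonoid.powers (algebraMap A B (a i))) (Loc B (a i)) _).1 hb0
    have haQ : algebraMap A B (a i) ∉ Q := fun h => hap (by
      change algebraMap A (Loc B (a i)) (a i) ∈ P
      rw [IsScalarTower.algebraMap_apply A B (Loc B (a i))]; exact hQ h)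
    have hbQ : b ∉ Q := fun h => by
      have h' : algebraMap B (Loc B (a i)) b ∈ P := hQ h
      rw [← hb] at h'
      rcases ‹P.IsPrime›.mem_or_mem h' with h' | h'
      · exact hu h'
      · refine hap (show algebraMap A (Loc B (a i)) (a i) ∈ P from ?_)
        rw [IsScalarTower.algebraMap_apply A B (Loc B (a i))]
        exact ‹P.IsPrime›.mem_of_pow_mem N h'
    have hin : algebraMap A B (a i) ^ r * (b * ((mm : B) - g ^ t • c)) ∈ Q := by
      change _ * _ = _ at hr0
      rw [hr0]; exact zero_mem _
    exact ((hQp.mem_or_mem ((hQp.mem_or_mem hin).resolve_left fun h => haQ (hQp.mem_of_pow_mem r h))).resolve_left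
      hbQ)
  obtain ⟨g, hg, t, mm, hgQ, hmm, hmQ⟩ := key i P hfP 1 (fun n hen he' => by
    have hu : IsUnit (algebraMap (Loc B (a i)) (Localization.AtPrime P) (e i n)) :=
      IsLocalization.map_units _ (⟨e i n, fun h => ‹P.IsPrime›.ne_top ((Ideal.eq_top_iff_one _).2
        (by rw [map_one] at hen; simpa using sub_mem h hen))⟩ : P.primeCompl)
    rw [map_one, map_sub, map_one]
    refine idem_sub_one_mem ?_ hu
    have := Ideal.mem_map_of_mem (algebraMap (Loc B (a i)) (Localization.AtPrime P)) he'
    rwa [Ideal.map_span, Set.image_singleton, map_pow, ← IsScalarTower.algebraMap_apply, map_sub, map_mul] at this)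
    (by
      rw [map_one]
      refine (‹P.IsPrime›.mem_or_mem ?_).resolve_left heP
      rw [mul_sub, mul_one]
      exact (Ideal.span_singleton_le_iff_mem P).2 hfP (hidem i)) Q ‹_› hQ
  obtain ⟨g', hg', t', mm', hgQ', hmm', hmQ'⟩ := key j P' hfP' 0 (fun n hen he' => by
    rw [map_zero, sub_zero] at hen ⊢
    have hu : IsUnit (1 - algebraMap (Loc B (a j)) (Localization.AtPrime P') (e j n)) := by
      rw [← map_one (algebraMap (Loc B (a j)) (Localization.AtPrime P')), ← map_sub]
      exact IsLocalization.map_units _ (⟨1 - e j n, fun h => ‹P'.IsPrime›.ne_top ((Ideal.eq_top_iff_one _).2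
        (by simpa using add_mem h hen))⟩ : P'.primeCompl)
    have h' := idem_sub_one_mem (f := algebraMap A (Localization.AtPrime P') f) (N := n + 1) ?_ hu
    · rw [sub_sub_cancel_left] at h'
      exact neg_mem_iff.1 h'
    · have := Ideal.mem_map_of_mem (algebraMap (Loc B (a j)) (Localization.AtPrime P')) he'
      rw [Ideal.map_span, Set.image_singleton, map_pow, ← IsScalarTower.algebraMap_apply, map_sub, map_mul] at this
      convert this using 1
      ring)
    (by rw [map_zero, sub_zero]; exact heP') Q ‹_› hQ'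
  -- compare on the common open
  rw [smul_zero, sub_zero] at hmQ'
  rw [Algebra.smul_def, mul_one] at hmQ
  have hl : D (g * g') ≤ D g := PrimeSpectrum.basicOpen_mul_le_left (R := A) g g'
  have hr : D (g * g') ≤ D g' := PrimeSpectrum.basicOpen_mul_le_right (R := A) g g'
  have h1 : of (D (g * g')) (g' ^ t' • mm - g ^ t • mm') = 0 := by
    rw [map_sub, map_smul, map_smul, ← res_of hl mm, ← res_of hr mm', ← hmm, ← hmm', map_smul, map_smul,
      res_res, res_res, smul_comm, sub_self]
  obtain ⟨N, hN⟩ := of_eq_zero_iff.1 h1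
  have hN' : algebraMap A B (g * g') ^ N * (algebraMap A B g' ^ t' * (mm : B) - algebraMap A B g ^ t * (mm' : B)) = 0 := by
    have := congrArg (fun w : M => (w : B)) hN
    simpa [Algebra.smul_def] using this
  have h2 := ((inferInstance : Q.IsPrime).mem_or_mem (show _ ∈ Q by rw [hN']; exact zero_mem _)).resolve_left
    fun h => by
      rw [map_mul] at h
      rcases (inferInstance : Q.IsPrime).mem_or_mem ((inferInstance : Q.IsPrime).mem_of_pow_mem N h) with h | h
      · exact hgQ h
      · exact hgQ' h
  have h3 : algebraMap A B g' ^ t' * algebraMap A B (g ^ t) ∈ Q := by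
    have := sub_mem (add_mem h2 (Q.mul_mem_left (algebraMap A B g ^ t) hmQ'))
      (Q.mul_mem_left (algebraMap A B g' ^ t') hmQ)
    convert this using 1
    ring
  rcases (inferInstance : Q.IsPrime).mem_or_mem h3 with h | h
  · exact hgQ' ((inferInstance : Q.IsPrime).mem_of_pow_mem _ h)
  · rw [map_pow] at h
    exact hgQ ((inferInstance : Q.IsPrime).mem_of_pow_mem _ h)

end Groth.Pi1Lef
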