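import Groth.Agent.EtaleAlgebra.TorsionGlue

/-!
# Formal glueing of algebras

`A → C` flat with `A/I = C/IC`, an `A`-algebra `N`, a `C`-algebra `B` and `φ : B → C ⊗ N` with
`I`-power torsion kernel and cokernel. Then `S = B ×_{C ⊗ N} N` satisfies `C ⊗ S = B`.
-/

universe u

set_option autoImplicit false
set_option linter.style.haveILetI false
set_option linter.unusedSectionVars false

open TensorProduct

namespace Groth.Pi1Lef

variable {A C : Type u} [CommRing A] [CommRing C] [Algebra A C] [Module.Flat A C]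
  {N B : Type u} [CommRing N] [Algebra A N] [CommRing B] [Algebra A B] [Algebra C B] [IsScalarTower A C B]

/-- The fibre product `B ×_{C ⊗ N} N`. -/
def glueAlg (φ : B →ₐ[C] C ⊗[A] N) : Subalgebra A (B × N) :=
  AlgHom.equalizer ((φ.restrictScalars A).comp (AlgHom.fst A B N))
    ((Algebra.TensorProduct.includeRight : N →ₐ[A] C ⊗[A] N).comp (AlgHom.snd A B N))

theorem mem_glueAlg {φ : B →ₐ[C] C ⊗[A] N} {x : B × N} : x ∈ glueAlg φ ↔ φ x.1 = (1 : C) ⊗ₜ[A] x.2 :=
  Iff.rfl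

/-- The first projection. -/
noncomputable def glueFst (φ : B →ₐ[C] C ⊗[A] N) : glueAlg φ →ₐ[A] B :=
  (AlgHom.fst A B N).comp (glueAlg φ).val

/-- The second projection. -/
noncomputable def glueSnd (φ : B →ₐ[C] C ⊗[A] N) : glueAlg φ →ₐ[A] N :=
  (AlgHom.snd A B N).comp (glueAlg φ).val

theorem glue_comm (φ : B →ₐ[C] C ⊗[A] N) (s : glueAlg φ) : φ (glueFst φ s) = (1 : C) ⊗ₜ[A] glueSnd φ s :=
  mem_glueAlg.1 s.2

section
variable (I : Ideal A) {φ : B →ₐ[C] C ⊗[A] N}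

theorem glueSnd_ker (hker : ∀ x : B, φ x = 0 → ∃ n : ℕ, ∀ a ∈ I ^ n, algebraMap A C a • x = 0)
    (s : glueAlg φ) (hs : glueSnd φ s = 0) : ∃ n : ℕ, ∀ a ∈ I ^ n, a • s = 0 := by
  have h2 : (s : B × N).2 = 0 := hs
  obtain ⟨n, hn⟩ := hker (s : B × N).1 (by rw [mem_glueAlg.1 s.2, h2, tmul_zero])
  refine ⟨n, fun a ha => Subtype.ext (Prod.ext ?_ ?_)⟩
  · show a • (s : B × N).1 = 0
    rw [← algebraMap_smul C a]
    exact hn a ha
  · show a • (s : B × N).2 = 0
    rw [h2, smul_zero]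

theorem glueSnd_coker
    (hcoker : ∀ y : C ⊗[A] N, ∃ n : ℕ, ∀ a ∈ I ^ n, algebraMap A C a • y ∈ Set.range φ)
    (x : N) : ∃ n : ℕ, ∀ a ∈ I ^ n, a • x ∈ Set.range (glueSnd φ) := by
  obtain ⟨n, hn⟩ := hcoker ((1 : C) ⊗ₜ[A] x)
  refine ⟨n, fun a ha => ?_⟩
  obtain ⟨b, hb⟩ := hn a ha
  exact ⟨⟨(b, a • x), mem_glueAlg.2 (by rw [hb, algebraMap_smul, tmul_smul])⟩, rfl⟩

variable (hq : Function.Bijective
    (Ideal.quotientMap (I.map (algebraMap A C)) (algebraMap A C) Ideal.le_comap_map))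
  (hker : ∀ x : B, φ x = 0 → ∃ n : ℕ, ∀ a ∈ I ^ n, algebraMap A C a • x = 0)
  (hcoker : ∀ y : C ⊗[A] N, ∃ n : ℕ, ∀ a ∈ I ^ n, algebraMap A C a • y ∈ Set.range φ)

include hq hker hcoker

/-- Formal glueing: `B` is the base change of `B ×_{C ⊗ N} N`. -/
theorem isBaseChange_glueFst : IsBaseChange C (glueFst φ).toLinearMap := by
  classical
  let M := glueAlg φ
  let ψ : M →ₗ[A] N := (glueSnd φ).toLinearMap
  let f₁ : M →ₗ[A] B := (glueFst φ).toLinearMap
  let g : C ⊗[A] M →ₗ[C] B := LinearMap.liftBaseChange C f₁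
  have hg1 : ∀ (c : C) (m : M), g (c ⊗ₜ[A] m) = c • f₁ m := fun c m => LinearMap.liftBaseChange_tmul ..
  have hψ : φ.toLinearMap ∘ₗ g = ψ.baseChange C := by
    ext z
    simpa [g, ψ, f₁] using glue_comm φ z
  have hinj : Function.Injective g := by
    rw [injective_iff_map_eq_zero]
    intro z hz
    have h0 : ψ.lTensor C z = 0 := by
      have := LinearMap.congr_fun hψ z
      rw [LinearMap.comp_apply, hz, map_zero] at this
      exact this.symm
    have hex0 := Module.Flat.lTensor_exact (R := A) C (N := LinearMap.ker ψ) (N' := M) (N'' := N)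
      (f := (LinearMap.ker ψ).subtype) (g := ψ) (LinearMap.exact_subtype_ker_map ψ)
    obtain ⟨y, rfl⟩ := (hex0 z).mp h0
    obtain ⟨τ, rfl⟩ := (Groth.Agent.EtaleAlgebra.TorsionGlue.mk_bijective I hq
      (M := LinearMap.ker ψ) fun τ => by
        obtain ⟨n, hn⟩ := glueSnd_ker I hker (τ : M) τ.2
        exact ⟨n, fun a ha => Subtype.ext (hn a ha)⟩).2 y
    have hτ : ((τ : M) : B × N) = 0 := by
      refine Prod.ext ?_ τ.2
      simpa [g, f₁, glueFst] using hz
    obtain rfl : τ = 0 := Subtype.ext (Subtype.ext hτ)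
    simp
  have hsurj : Function.Surjective g := by
    intro x
    let N0 : Submodule A N :=
      ((LinearMap.range φ.toLinearMap).restrictScalars A).comap (TensorProduct.mk A C N 1)
    have htor : ∀ q : N ⧸ N0, ∃ n : ℕ, ∀ a ∈ I ^ n, a • q = 0 := by
      intro q
      obtain ⟨n, rfl⟩ := Submodule.Quotient.mk_surjective N0 q
      obtain ⟨k, hk⟩ := hcoker ((1 : C) ⊗ₜ[A] n)
      refine ⟨k, fun a ha => ?_⟩
      rw [← Submodule.Quotient.mk_smul, Submodule.Quotient.mk_eq_zero]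
      show (1 : C) ⊗ₜ[A] (a • n) ∈ LinearMap.range φ.toLinearMap
      rw [TensorProduct.tmul_smul, ← algebraMap_smul C a]
      exact hk a ha
    have hN0 : ∀ w : C ⊗[A] N0, N0.subtype.lTensor C w ∈ (LinearMap.range g).map φ.toLinearMap := by
      intro w
      induction w with
      | zero => simp
      | add a b ha hb => rw [map_add]; exact add_mem ha hb
      | tmul s n =>
        obtain ⟨y, hy⟩ := n.2
        refine ⟨s • g ((1 : C) ⊗ₜ[A] (⟨(y, (n : N)), mem_glueAlg.mpr hy⟩ : M)),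
          (LinearMap.range g).smul_mem s ⟨_, rfl⟩, ?_⟩
        rw [map_smul, hg1, one_smul]
        show s • φ y = _
        rw [show φ y = (1 : C) ⊗ₜ[A] (n : N) from hy]
        simp [TensorProduct.smul_tmul']
    obtain ⟨q, hq'⟩ := (Groth.Agent.EtaleAlgebra.TorsionGlue.mk_bijective I hq htor).2
      (N0.mkQ.lTensor C (φ x))
    obtain ⟨n, rfl⟩ := Submodule.Quotient.mk_surjective N0 q
    obtain ⟨w, hw⟩ := ((_root_.lTensor_exact C (f := N0.subtype) (g := N0.mkQ)
      (LinearMap.exact_subtype_mkQ N0) (Submodule.mkQ_surjective N0))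
      (φ x - (1 : C) ⊗ₜ[A] n)).mp (by rw [map_sub, ← hq']; simp)
    have hn : n ∈ N0 := by
      obtain ⟨y, -, hy⟩ := hN0 w
      refine ⟨x - y, ?_⟩
      rw [map_sub, hy, hw]; simp
    obtain ⟨y, ⟨z, rfl⟩, hy⟩ : φ x ∈ (LinearMap.range g).map φ.toLinearMap := by
      have h1 := hN0 ((1 : C) ⊗ₜ[A] (⟨n, hn⟩ : N0))
      have h2 := add_mem (hN0 w) h1
      rw [hw] at h2
      simpa using h2
    refine ⟨z + (1 : C) ⊗ₜ[A] (⟨(x - g z, 0), mem_glueAlg.mpr ?_⟩ : M), ?_⟩
    · show φ (x - g z) = (1 : C) ⊗ₜ[A] (0 : N)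
      rw [map_sub, tmul_zero, sub_eq_zero]
      exact hy.symm
    · rw [map_add, hg1, one_smul]
      show g z + (x - g z) = x
      exact add_sub_cancel _ _
  exact IsBaseChange.of_equiv (LinearEquiv.ofBijective g ⟨hinj, hsurj⟩) fun m => by
    rw [LinearEquiv.ofBijective_apply, hg1, one_smul]

end

end Groth.Pi1Lef
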