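import Groth.Agent.Pi1Lef.GlueAlgebra
import Groth.Agent.Pi1Lef.Descent
import Mathlib.RingTheory.Etale.Descent
import Mathlib.RingTheory.Finiteness.Descent

/-!
# Glueing finite schemes over the punctured spectrum and over the completion
-/

universe u

set_option autoImplicit false
set_option backward.isDefEq.respectTransparency false
set_option backward.defeqAttrib.useBackward true
set_option linter.style.haveILetI false
set_option linter.unusedSectionVars false

open CategoryTheory CategoryTheory.Limits AlgebraicGeometry TopologicalSpace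
open IsLocalRing (maximalIdeal closedPoint)
open scoped TensorProduct

namespace Groth.Pi1Lef

section
variable {X : Scheme.{u}} [CompactSpace X] [QuasiSeparatedSpace X] (r : Γ(X, ⊤)) {W : X.Opens}

theorem exists_pow_mul_eq_zero_of_res (hW : W = X.basicOpen r) (x : Γ(X, ⊤))
    (hx : X.presheaf.map (homOfLE le_top : W ⟶ ⊤).op x = 0) : ∃ k : ℕ, r ^ k * x = 0 := by
  subst hW
  letI : Algebra Γ(X, ⊤) Γ(X, X.basicOpen r) :=
    (X.presheaf.map (homOfLE le_top : X.basicOpen r ⟶ ⊤).op).hom.toAlgebra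
  haveI := isLocalization_basicOpen_of_qcqs isCompact_univ isQuasiSeparated_univ r
  obtain ⟨⟨_, k, rfl⟩, hk⟩ := (IsLocalization.eq_iff_exists (Submonoid.powers r) Γ(X, X.basicOpen r)).1
    (show algebraMap Γ(X, ⊤) Γ(X, X.basicOpen r) x = algebraMap _ _ 0 by rw [map_zero]; exact hx)
  exact ⟨k, hk.trans (mul_zero _)⟩

theorem exists_pow_mul_res (hW : W = X.basicOpen r) (w : Γ(X, W)) :
    ∃ (k : ℕ) (x : Γ(X, ⊤)), X.presheaf.map (homOfLE le_top : W ⟶ ⊤).op r ^ k * w =
      X.presheaf.map (homOfLE le_top : W ⟶ ⊤).op x := by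
  subst hW
  letI : Algebra Γ(X, ⊤) Γ(X, X.basicOpen r) :=
    (X.presheaf.map (homOfLE le_top : X.basicOpen r ⟶ ⊤).op).hom.toAlgebra
  haveI := isLocalization_basicOpen_of_qcqs isCompact_univ isQuasiSeparated_univ r
  obtain ⟨⟨x, _, k, rfl⟩, hk⟩ := IsLocalization.surj (Submonoid.powers r) w
  have hk' : w * X.presheaf.map (homOfLE le_top : X.basicOpen r ⟶ ⊤).op (r ^ k) =
      X.presheaf.map (homOfLE le_top : X.basicOpen r ⟶ ⊤).op x := hk
  exact ⟨k, x, by rw [← hk', map_pow, mul_comm]⟩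

end

/-- Sections of an open subscheme compared with sections of the ambient scheme. -/
theorem exists_pow_mul_appTop {P Y : Scheme.{u}} (h : P ⟶ Y) [IsOpenImmersion h] [CompactSpace Y]
    [QuasiSeparatedSpace Y] [CompactSpace P] [QuasiSeparatedSpace P] (r : Γ(Y, ⊤))
    (hr : Y.basicOpen r ≤ h.opensRange) :
    (∀ x, h.appTop x = 0 → ∃ k : ℕ, r ^ k * x = 0) ∧
      ∀ z, ∃ (k : ℕ) (x : Γ(Y, ⊤)), h.appTop r ^ k * z = h.appTop x := by
  let D := Y.basicOpen r
  have hW : h ⁻¹ᵁ D = P.basicOpen (h.appTop r) := Scheme.preimage_basicOpen_top h r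
  haveI : IsIso (h.app D) := h.isIso_app _ hr
  have nat : ∀ x : Γ(Y, ⊤), h.app D (Y.presheaf.map (homOfLE le_top : D ⟶ ⊤).op x) =
      P.presheaf.map (homOfLE le_top : h ⁻¹ᵁ D ⟶ ⊤).op (h.appTop x) := fun x =>
    congr($(h.naturality (homOfLE le_top : D ⟶ ⊤).op).hom x)
  have hbij : Function.Bijective (h.app D) := ConcreteCategory.bijective_of_isIso (h.app D)
  refine ⟨fun x hx => exists_pow_mul_eq_zero_of_res r rfl x (hbij.1 ?_), fun z => ?_⟩
  · rw [nat, hx, map_zero, map_zero]
  · obtain ⟨w, hw⟩ := hbij.2 (P.presheaf.map (homOfLE le_top : h ⁻¹ᵁ D ⟶ ⊤).op z)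
    obtain ⟨k, x, hx⟩ := exists_pow_mul_res r rfl w
    have hzero : P.presheaf.map (homOfLE le_top : h ⁻¹ᵁ D ⟶ ⊤).op
        (h.appTop r ^ k * z - h.appTop x) = 0 := by
      rw [map_sub, map_mul, map_pow, ← nat, ← nat, ← hw, ← map_pow, ← map_mul, sub_eq_zero]
      exact congrArg _ hx
    obtain ⟨l, hl⟩ := exists_pow_mul_eq_zero_of_res (h.appTop r) hW _ hzero
    refine ⟨l + k, r ^ l * x, ?_⟩
    rw [mul_sub, sub_eq_zero, ← mul_assoc, ← pow_add] at hl
    rw [hl, map_mul, map_pow]

variable {A : Type u} [CommRing A] [IsNoetherianRing A] [IsLocalRing A]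
  {C : Type u} [CommRing C] [IsLocalRing C] [Algebra A C] [Module.FaithfullyFlat A C]

theorem bijective_quotientMap (hmap : (maximalIdeal A).map (algebraMap A C) = maximalIdeal C)
    (hsur : ∀ y : C, ∃ a : A, y - algebraMap A C a ∈ maximalIdeal C) :
    Function.Bijective (Ideal.quotientMap ((maximalIdeal A).map (algebraMap A C)) (algebraMap A C)
      Ideal.le_comap_map) := by
  constructor
  · refine Ideal.quotientMap_injective' (le_of_eq ?_)
    exact Ideal.comap_map_eq_self_of_faithfullyFlat _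
  · intro q
    obtain ⟨c, rfl⟩ := Ideal.Quotient.mk_surjective q
    obtain ⟨a, ha⟩ := hsur c
    refine ⟨Ideal.Quotient.mk _ a, ?_⟩
    rw [Ideal.quotientMap_mk, Ideal.Quotient.eq, hmap, ← neg_mem_iff, neg_sub]
    exact ha

theorem exists_pow_le_of_forall {J : Ideal A} (h : ∀ a ∈ maximalIdeal A, ∃ k : ℕ, a ^ k ∈ J) :
    ∃ n : ℕ, maximalIdeal A ^ n ≤ J :=
  Ideal.exists_pow_le_of_le_radical_of_fg (fun a ha => h a ha) (maximalIdeal A).fg_of_isNoetherianRing

/-- A finite scheme over the punctured spectrum and a finite scheme over `C` which agree over the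
punctured spectrum glue to a finite scheme over `A`. -/
theorem exists_glue (hmap : (maximalIdeal A).map (algebraMap A C) = maximalIdeal C)
    (hsur : ∀ y : C, ∃ a : A, y - algebraMap A C a ∈ maximalIdeal C)
    {V : Scheme.{u}} (v : V ⟶ (FEt.puncturedSpec A : Scheme.{u})) [IsFinite v]
    {Y' : Scheme.{u}} (y : Y' ⟶ Spec (CommRingCat.of C)) [IsFinite y]
    (e : pullback v (pullback.fst (FEt.puncturedSpec A).ι (Spec.map (CommRingCat.ofHom (algebraMap A C)))) ≅
      pullback y (pullback.snd (FEt.puncturedSpec A).ι (Spec.map (CommRingCat.ofHom (algebraMap A C)))))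
    (he : e.hom ≫ pullback.snd _ _ = pullback.snd _ _) :
    ∃ (Y : Scheme.{u}) (q : Y ⟶ Spec (CommRingCat.of A)), IsFinite q ∧ (Etale y → Etale q) ∧
      (∃ τ : V ⟶ Y, IsPullback τ v q (FEt.puncturedSpec A).ι) ∧
      ∃ t : Y' ⟶ Y, IsPullback t y q (Spec.map (CommRingCat.ofHom (algebraMap A C))) := by
  classical
  let U := FEt.puncturedSpec A
  let σ := Spec.map (CommRingCat.ofHom (algebraMap A C))
  let g : V ⟶ Spec (CommRingCat.of A) := v ≫ U.ι
  let pr₁ := pullback.fst U.ι σ
  let pr₂ := pullback.snd U.ι σ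
  let h : pullback v pr₁ ⟶ Y' := e.hom ≫ pullback.fst y pr₂
  let c : pullback v pr₁ ⟶ Spec (CommRingCat.of C) := pullback.snd v pr₁ ≫ pr₂
  have H : IsPullback (pullback.fst v pr₁) c g σ :=
    (IsPullback.of_hasPullback v pr₁).paste_vert (IsPullback.of_hasPullback U.ι σ)
  have hhy : h ≫ y = c := by
    simp only [h, c, Category.assoc, pullback.condition]
    rw [← Category.assoc, he]
  haveI : IsOpenImmersion pr₂ := MorphismProperty.pullback_snd _ _ inferInstance
  haveI : IsOpenImmersion (pullback.fst y pr₂) := MorphismProperty.pullback_fst _ _ inferInstance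
  haveI : IsOpenImmersion h := inferInstance
  haveI : IsAffine Y' := isAffine_of_isAffineHom y
  haveI : CompactSpace U := isCompact_iff_compactSpace.1 (NoetherianSpace.isCompact _)
  haveI : CompactSpace V := QuasiCompact.compactSpace_of_compactSpace v
  haveI : IsAffineHom σ := inferInstance
  haveI : IsAffineHom (pullback.fst v pr₁) := MorphismProperty.of_isPullback H.flip (inferInstance : IsAffineHom σ)
  haveI : CompactSpace ↥(pullback v pr₁) := QuasiCompact.compactSpace_of_compactSpace (pullback.fst v pr₁)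
  haveI : (U : Scheme.{u}).IsQuasiAffine := Scheme.IsQuasiAffine.of_isImmersion U.ι
  haveI : V.IsQuasiAffine := Scheme.IsQuasiAffine.of_isAffineHom v
  haveI : (pullback v pr₁).IsQuasiAffine := Scheme.IsQuasiAffine.of_isAffineHom (pullback.fst v pr₁)
  -- the rings
  let φN : A →+* Γ(V, ⊤) := ((Scheme.ΓSpecIso (CommRingCat.of A)).inv ≫ g.appTop).hom
  let φB : C →+* Γ(Y', ⊤) := ((Scheme.ΓSpecIso (CommRingCat.of C)).inv ≫ y.appTop).hom
  let φP : C →+* Γ(pullback v pr₁, ⊤) := ((Scheme.ΓSpecIso (CommRingCat.of C)).inv ≫ c.appTop).hom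
  let ρ : Γ(V, ⊤) →+* Γ(pullback v pr₁, ⊤) := (pullback.fst v pr₁).appTop.hom
  letI : Algebra A Γ(V, ⊤) := φN.toAlgebra
  letI : Algebra C Γ(Y', ⊤) := φB.toAlgebra
  letI : Algebra A Γ(Y', ⊤) := (φB.comp (algebraMap A C)).toAlgebra
  haveI : IsScalarTower A C Γ(Y', ⊤) := IsScalarTower.of_algebraMap_eq fun _ => rfl
  letI : Algebra C Γ(pullback v pr₁, ⊤) := φP.toAlgebra
  letI : Algebra Γ(V, ⊤) Γ(pullback v pr₁, ⊤) := ρ.toAlgebra
  letI : Algebra A Γ(pullback v pr₁, ⊤) := (φP.comp (algebraMap A C)).toAlgebra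
  haveI : IsScalarTower A C Γ(pullback v pr₁, ⊤) := IsScalarTower.of_algebraMap_eq fun _ => rfl
  have hcompat : ∀ x : A, ρ (φN x) = φP (algebraMap A C x) := fun x => by
    have h1 : σ.appTop ((Scheme.ΓSpecIso (CommRingCat.of A)).inv x) =
        (Scheme.ΓSpecIso (CommRingCat.of C)).inv (algebraMap A C x) :=
      (congr($(Scheme.ΓSpecIso_inv_naturality (CommRingCat.ofHom (algebraMap A C))).hom x)).symm
    change (pullback.fst v pr₁).appTop (g.appTop ((Scheme.ΓSpecIso (CommRingCat.of A)).inv x)) =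
      c.appTop ((Scheme.ΓSpecIso (CommRingCat.of C)).inv (algebraMap A C x))
    rw [← h1, ← CommRingCat.comp_apply, ← CommRingCat.comp_apply (f := σ.appTop),
      ← Scheme.Hom.comp_appTop, ← Scheme.Hom.comp_appTop, H.w]
  haveI : IsScalarTower A Γ(V, ⊤) Γ(pullback v pr₁, ⊤) :=
    IsScalarTower.of_algebraMap_eq fun x => (hcompat x).symm
  haveI hpush : Algebra.IsPushout A Γ(V, ⊤) C Γ(pullback v pr₁, ⊤) := by
    refine CommRingCat.isPushout_iff_isPushout.1 ?_
    refine (HensPair.isPushout_appTop (B := A) (C := C) H).of_iso (Scheme.ΓSpecIso (CommRingCat.of A)) (Iso.refl _)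
      (Scheme.ΓSpecIso (CommRingCat.of C)) (Iso.refl _) ?_ ?_ ?_ ?_
    · rw [← Iso.inv_comp_eq, Iso.refl_hom, Category.comp_id]
      rfl
    · rw [← Iso.inv_comp_eq, ← Category.assoc, ← Scheme.ΓSpecIso_inv_naturality, Category.assoc,
        Iso.inv_hom_id, Category.comp_id]
    · simp only [Iso.refl_hom, Category.comp_id, Category.id_comp]
      rfl
    · rw [Iso.refl_hom, Category.comp_id, ← Iso.inv_comp_eq]
      rfl
  haveI := Algebra.IsPushout.symm hpush
  let Θ : C ⊗[A] Γ(V, ⊤) ≃ₐ[C] Γ(pullback v pr₁, ⊤) :=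
    Algebra.IsPushout.equiv A C Γ(V, ⊤) Γ(pullback v pr₁, ⊤)
  have hhC : ∀ x : C, h.appTop (φB x) = φP x := fun x => by
    show h.appTop (y.appTop _) = c.appTop _
    rw [← CommRingCat.comp_apply, ← Scheme.Hom.comp_appTop, hhy]
  let hC : Γ(Y', ⊤) →ₐ[C] Γ(pullback v pr₁, ⊤) := { h.appTop.hom with commutes' := hhC }
  let φ : Γ(Y', ⊤) →ₐ[C] C ⊗[A] Γ(V, ⊤) := Θ.symm.toAlgHom.comp hC
  -- torsion kernel and cokernel
  have hbasY : ∀ x : C, Y'.basicOpen (φB x) = y ⁻¹ᵁ PrimeSpectrum.basicOpen x := fun x => by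
    rw [show φB x = y.appTop ((Scheme.ΓSpecIso (CommRingCat.of C)).inv x) from rfl,
      ← Scheme.preimage_basicOpen_top, basicOpen_eq_of_affine]
  have hrange : ∀ a ∈ maximalIdeal A, Y'.basicOpen (φB (algebraMap A C a)) ≤ h.opensRange := by
    intro a ha z hz
    rw [hbasY] at hz
    have h1 : y z ∈ Set.range pr₂ := by
      rw [Scheme.Pullback.range_snd, Scheme.Opens.range_ι]
      exact basicOpen_le_punctured ha (show a ∉ (σ (y z)).asIdeal from hz)
    obtain ⟨w, rfl⟩ : z ∈ Set.range (pullback.fst y pr₂) := by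
      rw [Scheme.Pullback.range_fst]; exact h1
    obtain ⟨x, rfl⟩ := e.hom.surjective w
    exact ⟨x, rfl⟩
  have hker : ∀ x, φ x = 0 → ∃ n : ℕ, ∀ a ∈ maximalIdeal A ^ n, algebraMap A C a • x = 0 := by
    intro x hx
    have hx' : h.appTop x = 0 := Θ.symm.injective (hx.trans (map_zero _).symm)
    obtain ⟨n, hn⟩ := exists_pow_le_of_forall
      (J := LinearMap.ker (LinearMap.toSpanSingleton A Γ(Y', ⊤) x)) fun a ha => by
        obtain ⟨k, hk⟩ := (exists_pow_mul_appTop h _ (hrange a ha)).1 x hx'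
        refine ⟨k, ?_⟩
        rw [LinearMap.mem_ker, LinearMap.toSpanSingleton_apply, Algebra.smul_def, map_pow]
        exact hk
    exact ⟨n, fun a ha => by rw [algebraMap_smul]; exact hn ha⟩
  have hcoker : ∀ z, ∃ n : ℕ, ∀ a ∈ maximalIdeal A ^ n, algebraMap A C a • z ∈ Set.range φ := by
    intro z
    obtain ⟨n, hn⟩ := exists_pow_le_of_forall
      (J := ((LinearMap.range φ.toLinearMap).restrictScalars A).comap
        (LinearMap.toSpanSingleton A (C ⊗[A] Γ(V, ⊤)) z)) fun a ha => by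
        obtain ⟨k, x, hk⟩ := (exists_pow_mul_appTop h _ (hrange a ha)).2 (Θ z)
        refine ⟨k, x, Θ.injective ?_⟩
        show Θ (Θ.symm (h.appTop x)) = Θ (a ^ k • z)
        rw [AlgEquiv.apply_symm_apply, ← algebraMap_smul C (a ^ k) z, map_smul, ← hk, Algebra.smul_def,
          map_pow, map_pow]
        exact congrArg (fun t => t ^ k * Θ z) (hhC _)
    exact ⟨n, fun a ha => by rw [algebraMap_smul]; exact hn ha⟩
  have hbc := isBaseChange_glueFst (maximalIdeal A) (φ := φ) (bijective_quotientMap hmap hsur) hker hcoker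
  let S := glueAlg φ
  let π₂ : S →ₐ[A] Γ(V, ⊤) := glueSnd φ
  let qY : Spec (CommRingCat.of S) ⟶ Spec (CommRingCat.of A) :=
    Spec.map (CommRingCat.ofHom (algebraMap A S))
  letI : Algebra S Γ(Y', ⊤) := (glueFst φ).toRingHom.toAlgebra
  haveI : IsScalarTower A S Γ(Y', ⊤) :=
    IsScalarTower.of_algebraMap_eq fun x => ((glueFst φ).commutes x).symm
  haveI hpS : Algebra.IsPushout A C S Γ(Y', ⊤) := ⟨by
    convert hbc using 1
    exact LinearMap.ext fun _ => rfl⟩
  let ES : C ⊗[A] S ≃ₐ[C] Γ(Y', ⊤) := Algebra.IsPushout.equiv A C S Γ(Y', ⊤)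
  have hyspec : Y'.isoSpec.hom ≫ Spec.map (CommRingCat.ofHom φB) = y := by
    show Y'.toSpecΓ ≫ Spec.map ((Scheme.ΓSpecIso (CommRingCat.of C)).inv ≫ y.appTop) = y
    rw [Spec.map_comp, ← Scheme.toSpecΓ_naturality_assoc, ← SpecMap_ΓSpecIso_hom, ← Spec.map_comp,
      Iso.inv_hom_id, Spec.map_id, Category.comp_id]
  haveI : Module.Finite C Γ(Y', ⊤) := by
    rw [← RingHom.finite_algebraMap]
    refine (IsFinite.SpecMap_iff (CommRingCat.ofHom φB)).1 ?_
    rw [← MorphismProperty.cancel_left_of_respectsIso @IsFinite Y'.isoSpec.hom, hyspec]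
    infer_instance
  haveI : Module.Finite C (C ⊗[A] S) := Module.Finite.equiv ES.symm.toLinearEquiv
  haveI : Module.Finite A S := Module.Finite.of_finite_tensorProduct_of_faithfullyFlat C
  refine ⟨Spec (CommRingCat.of S), qY, ?_, fun hy => ?_, ?_, ?_⟩
  · exact (IsFinite.SpecMap_iff _).2 (RingHom.finite_algebraMap.2 ‹_›)
  · haveI := hy
    haveI : Algebra.Etale C Γ(Y', ⊤) := by
      rw [← RingHom.etale_algebraMap]
      refine (HasRingHomProperty.Spec_iff (P := @Etale) (φ := CommRingCat.ofHom φB)).1 ?_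
      rw [← MorphismProperty.cancel_left_of_respectsIso @Etale Y'.isoSpec.hom, hyspec]
      infer_instance
    haveI : Algebra.Etale C (C ⊗[A] S) := Algebra.Etale.of_equiv ES.symm
    haveI : Algebra.Etale A S := Algebra.Etale.of_etale_tensorProduct_of_faithfullyFlat C
    exact HasRingHomProperty.Spec_iff.2 (RingHom.etale_algebraMap.2 inferInstance)
  · -- over the punctured spectrum
    have hgspec : V.toSpecΓ ≫ Spec.map (CommRingCat.ofHom φN) = g := by
      show V.toSpecΓ ≫ Spec.map ((Scheme.ΓSpecIso (CommRingCat.of A)).inv ≫ g.appTop) = g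
      rw [Spec.map_comp, ← Scheme.toSpecΓ_naturality_assoc, ← SpecMap_ΓSpecIso_hom, ← Spec.map_comp,
        Iso.inv_hom_id, Spec.map_id, Category.comp_id]
    let τ : V ⟶ Spec (CommRingCat.of S) := V.toSpecΓ ≫ Spec.map (CommRingCat.ofHom π₂.toRingHom)
    have hτ : τ ≫ qY = g := by
      rw [← hgspec]
      simp only [τ, qY, Category.assoc, ← Spec.map_comp, ← CommRingCat.ofHom_comp]
      congr 3
    have hbasV : ∀ a : A, V.basicOpen (φN a) = g ⁻¹ᵁ PrimeSpectrum.basicOpen a := fun a => by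
      rw [show φN a = g.appTop ((Scheme.ΓSpecIso (CommRingCat.of A)).inv a) from rfl,
        ← Scheme.preimage_basicOpen_top, basicOpen_eq_of_affine]
    have haff : ∀ a ∈ maximalIdeal A, IsAffineOpen (V.basicOpen (φN a)) := fun a ha => by
      rw [hbasV, Scheme.Hom.comp_preimage]
      refine IsAffineOpen.preimage ?_ v
      rw [← Scheme.Hom.isAffineOpen_iff_of_isOpenImmersion U.ι]
      convert IsAffineOpen.Spec_basicOpen (R := CommRingCat.of A) a
      exact Opens.ext (Set.image_preimage_eq_of_subset fun x hx =>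
        (Scheme.Opens.range_ι U).ge (basicOpen_le_punctured ha hx))
    have hloc : ∀ a ∈ maximalIdeal A, IsOpenImmersion ((V.basicOpen (φN a)).ι ≫ τ) ∧
        (PrimeSpectrum.basicOpen (algebraMap A S a) : Set (PrimeSpectrum S)) ⊆
          Set.range ((V.basicOpen (φN a)).ι ≫ τ) := by
      intro a ha
      let res := V.presheaf.map (homOfLE le_top : V.basicOpen (φN a) ⟶ ⊤).op
      letI : Algebra S Γ(V, V.basicOpen (φN a)) := (res.hom.comp π₂.toRingHom).toAlgebra
      haveI : IsLocalization.Away (algebraMap A S a) Γ(V, V.basicOpen (φN a)) := by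
        refine IsLocalization.Away.mk _ ?_ (fun w => ?_) (fun x x' hxx => ?_)
        · show IsUnit (res (π₂ (algebraMap A S a)))
          rw [π₂.commutes]
          exact RingedSpace.isUnit_res_basicOpen _ _
        · obtain ⟨k, x, hx⟩ := exists_pow_mul_res (φN a) rfl w
          obtain ⟨n, hn⟩ := glueSnd_coker (maximalIdeal A) hcoker x
          obtain ⟨s, hs⟩ := hn (a ^ n) (Ideal.pow_mem_pow ha n)
          refine ⟨k + n, s, ?_⟩
          show w * res (π₂ (algebraMap A S a)) ^ (k + n) = res (π₂ s)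
          rw [show π₂ s = _ from hs, π₂.commutes, Algebra.smul_def, map_pow, map_mul, map_pow]
          show w * res (φN a) ^ (k + n) = res (φN a) ^ n * res x
          rw [← hx, pow_add]; ring
        · obtain ⟨k, hk⟩ := exists_pow_mul_eq_zero_of_res (φN a) rfl (π₂ (x - x'))
            (by rw [map_sub, map_sub]; exact sub_eq_zero.2 hxx)
          obtain ⟨n, hn⟩ := glueSnd_ker (maximalIdeal A) hker ((algebraMap A S a) ^ k * (x - x'))
            (by rw [map_mul, map_pow]; show π₂ (algebraMap A S a) ^ k * π₂ (x - x') = 0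
                rw [π₂.commutes]; exact hk)
          refine ⟨n + k, ?_⟩
          rw [← sub_eq_zero, ← mul_sub, pow_add, mul_assoc, ← map_pow, ← Algebra.smul_def]
          exact hn _ (Ideal.pow_mem_pow ha n)
      have hfac : (V.basicOpen (φN a)).ι ≫ τ = (haff a ha).isoSpec.hom ≫
          Spec.map (CommRingCat.ofHom (algebraMap S Γ(V, V.basicOpen (φN a)))) := by
        show (V.basicOpen (φN a)).ι ≫ V.toSpecΓ ≫ _ = _
        rw [← Category.assoc, ← Scheme.Opens.toSpecΓ_SpecMap_presheaf_map_top, Category.assoc, ← Spec.map_comp]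
        rfl
      rw [hfac]
      constructor
      · exact MorphismProperty.comp_mem _ _ _ inferInstance (IsOpenImmersion.of_isLocalization (algebraMap A S a))
      · intro z hz
        rw [← PrimeSpectrum.localization_away_comap_range (S := Γ(V, V.basicOpen (φN a))) (algebraMap A S a)] at hz
        obtain ⟨p, rfl⟩ := hz
        obtain ⟨x, rfl⟩ := (haff a ha).isoSpec.hom.surjective p
        exact ⟨x, rfl⟩
    have hτb : ∀ a : A, τ ⁻¹ᵁ PrimeSpectrum.basicOpen (algebraMap A S a) = V.basicOpen (φN a) := fun a => by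
      rw [hbasV, ← hτ, Scheme.Hom.comp_preimage]
      rfl
    have hgU : ∀ x, ∃ a ∈ maximalIdeal A, x ∈ V.basicOpen (φN a) := fun x => by
      have hx : g x ∈ U := (v x).2
      obtain ⟨a, ha, hax⟩ : ∃ a ∈ maximalIdeal A, a ∉ (g x).asIdeal := by
        by_contra! hcon
        exact hx (PrimeSpectrum.ext (le_antisymm (IsLocalRing.le_maximalIdeal (g x).isPrime.ne_top) hcon))
      exact ⟨a, ha, by rw [hbasV]; exact hax⟩
    haveI : IsOpenImmersion τ := by
      refine IsZariskiLocalAtTarget.of_forall_source_exists_preimage _ fun x => ?_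
      obtain ⟨a, ha, hax⟩ := hgU x
      refine ⟨PrimeSpectrum.basicOpen (algebraMap A S a), (hτb a).ge hax, ?_⟩
      have := (hloc a ha).1
      convert! this <;> rw [hτb]
    refine ⟨τ, (IsOpenImmersion.isPullback v τ U.ι qY hτ ?_).flip⟩
    rw [Scheme.Opens.opensRange_ι]
    refine Opens.ext (Set.ext fun z => ⟨fun hz => ?_, ?_⟩)
    · obtain ⟨a, ha, hax⟩ : ∃ a ∈ maximalIdeal A, a ∉ (qY z).asIdeal := by
        by_contra! hcon
        exact hz (PrimeSpectrum.ext (le_antisymm (IsLocalRing.le_maximalIdeal (qY z).isPrime.ne_top) hcon))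
      obtain ⟨x, rfl⟩ := (hloc a ha).2 (show algebraMap A S a ∉ z.asIdeal from hax)
      exact ⟨_, rfl⟩
    · rintro ⟨x, rfl⟩
      show qY (τ x) ∈ U
      rw [← Scheme.Hom.comp_apply, hτ]
      exact (v x).2
  · -- over `C`
    have h1 := isPullback_SpecMap_of_isPushout _ _ _ _
      (CommRingCat.isPushout_iff_isPushout.2 (Algebra.IsPushout.symm hpS))
    exact ⟨_, (IsPullback.of_horiz_isIso (f := Spec.map (CommRingCat.ofHom φB)) (fst := Y'.isoSpec.hom)
      (snd := y) (g := 𝟙 _) ⟨by rw [Category.comp_id]; exact hyspec⟩).paste_horiz h1⟩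

end Groth.Pi1Lef
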