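import Groth.Agent.Calg2.CompleteNagata
import Groth.Agent.Hensel1.Finite
import Groth.Agent.EtaleAlgebra.FiniteComplete
import Groth.Agent.EGA41Two.DimIntegral
import Groth.Agent.RefRank.Algebra
import Groth.Agent.HensPair.SectionsBaseChange
import Mathlib.AlgebraicGeometry.QuasiAffine
import Mathlib.AlgebraicGeometry.Morphisms.Finite
import Mathlib.AlgebraicGeometry.Morphisms.QuasiFinite
import Mathlib.RingTheory.Finiteness.Descent
import Groth.Prelude.Def_FEt

/-!
# Integrality of functions on covers of a punctured spectrum

Let `C` be faithfully flat over the Noetherian local ring `A`, complete local with maximal ideal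
`m_A C`, and `V` finite over the punctured spectrum of `A`. If no maximal point of `V_C` is closed,
then `Γ(V)` is integral over `A`.
-/

universe u

set_option autoImplicit false
set_option backward.isDefEq.respectTransparency false
set_option backward.defeqAttrib.useBackward true
set_option linter.style.haveILetI false

open CategoryTheory CategoryTheory.Limits AlgebraicGeometry TopologicalSpace
open IsLocalRing (maximalIdeal closedPoint)
open scoped TensorProduct

namespace Groth.Pi1Lef

/-- An element of a field which is integral after multiplication by every element of the maximal ideal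
of a complete local domain of dimension at least two, up to powers, is integral. -/
theorem isIntegral_of_forall_pow_mul {C : Type u} [CommRing C] [IsNoetherianRing C] [IsLocalRing C]
    [IsAdicComplete (maximalIdeal C) C] {κ : Type u} [Field κ] [Algebra C κ]
    (hdim : (2 : WithBot ℕ∞) ≤ ringKrullDim (C ⧸ RingHom.ker (algebraMap C κ))) (β : κ)
    (G : Set C) (hG : maximalIdeal C ≤ Ideal.span G)
    (hβ : ∀ a ∈ G, algebraMap C κ a ≠ 0 → ∃ n : ℕ, IsIntegral C (algebraMap C κ a ^ n * β)) :
    IsIntegral C β := by
  classical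
  let q := RingHom.ker (algebraMap C κ)
  haveI : q.IsPrime := RingHom.ker_isPrime _
  let C' := C ⧸ q
  let F := FractionRing C'
  letI : Algebra C' κ := (Ideal.Quotient.lift q (algebraMap C κ) fun a ha => ha).toAlgebra
  haveI : IsScalarTower C C' κ := IsScalarTower.of_algebraMap_eq fun _ => rfl
  haveI : FaithfulSMul C' κ := (faithfulSMul_iff_algebraMap_injective _ _).2
    (RingHom.lift_injective_of_ker_le_ideal _ _ le_rfl)
  letI : Algebra F κ := FractionRing.liftAlgebra C' κ
  haveI : IsScalarTower C' F κ := FractionRing.isScalarTower_liftAlgebra C' κ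
  haveI : IsLocalRing C' := IsLocalRing.of_surjective' (Ideal.Quotient.mk q) Ideal.Quotient.mk_surjective
  have hker : ∀ a, algebraMap C κ a = algebraMap C' κ (Ideal.Quotient.mk q a) := fun a => rfl
  -- some generator is nonzero
  obtain ⟨a₀, ha₀G, ha₀⟩ : ∃ a ∈ G, algebraMap C κ a ≠ 0 := by
    by_contra hno
    simp only [not_exists, not_and, not_not] at hno
    have hle : maximalIdeal C ≤ q := hG.trans (Ideal.span_le.2 fun a ha => hno a ha)
    have hqm : q = maximalIdeal C :=
      le_antisymm (IsLocalRing.le_maximalIdeal Ideal.IsPrime.ne_top') hle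
    haveI : q.IsMaximal := hqm ▸ inferInstance
    letI := Ideal.Quotient.field q
    have h0 : ringKrullDim C' = 0 := ringKrullDim_eq_zero_of_isField (Field.toIsField _)
    rw [show ringKrullDim (C ⧸ RingHom.ker (algebraMap C κ)) = 0 from h0] at hdim
    exact absurd hdim (by decide)
  have hint' : ∀ x : κ, IsIntegral C x ↔ IsIntegral C' x := fun x => by
    constructor
    · exact fun h => h.tower_top
    · exact fun h => isIntegral_trans (R := C) x h
  have halg : IsIntegral F β := by
    obtain ⟨n, hn⟩ := hβ a₀ ha₀G ha₀
    have h1 : IsIntegral F (algebraMap C κ a₀ ^ n * β) := ((hint' _).1 hn).tower_top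
    have h2 : IsIntegral F ((algebraMap C κ a₀ ^ n)⁻¹) := by
      rw [hker, ← map_pow, IsScalarTower.algebraMap_apply C' F κ, ← map_inv₀]
      exact isIntegral_algebraMap
    have := h2.mul h1
    rwa [← mul_assoc, inv_mul_cancel₀ (pow_ne_zero _ ha₀), one_mul] at this
  let L := IntermediateField.adjoin F ({β} : Set κ)
  haveI : FiniteDimensional F L := IntermediateField.adjoin.finiteDimensional halg
  haveI : IsScalarTower C' F L := IsScalarTower.of_algebraMap_eq fun x => Subtype.ext (by
    exact IsScalarTower.algebraMap_apply C' F κ x)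
  let D := integralClosure C' L
  haveI : Module.Finite C' D :=
    (Groth.Calg2.CompleteNagata.isNagata_of_isAdicComplete C).2 q L inferInstance
  haveI : IsFractionRing D L := integralClosure.isFractionRing_of_finite_extension F L
  haveI : IsIntegrallyClosed D := integralClosure.isIntegrallyClosedOfFiniteExtension F
  haveI : IsNoetherianRing D := Algebra.FiniteType.isNoetherianRing C' D
  haveI : Algebra.IsIntegral C' D := Algebra.IsIntegral.of_finite C' D
  have hinjL : Function.Injective (algebraMap C' L) := by
    rw [IsScalarTower.algebraMap_eq C' F L]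
    exact (algebraMap F L).injective.comp (IsFractionRing.injective C' F)
  have hinj : Function.Injective (algebraMap C' D) := fun x y h => hinjL (congrArg Subtype.val h)
  haveI : IsAdicComplete (maximalIdeal C') C' := by
    haveI : IsLocalHom (algebraMap C C') := IsLocalHom.of_surjective _ Ideal.Quotient.mk_surjective
    exact EtaleAlgebra.FiniteComplete.isAdicComplete_maximal (C := C)
  haveI : HenselianLocalRing C' := Hensel1.henselianLocalRing_of_henselianRing
  haveI : IsLocalRing D := by
    obtain ⟨ι, _, ee, he, hloc⟩ := Hensel1.exists_completeOrthogonalIdempotents_local C' D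
    obtain ⟨i, hi⟩ : ∃ i, ee i = 1 := by
      by_contra hno
      simp only [not_exists] at hno
      have h0 : ∀ i, ee i = 0 := fun i =>
        ((IsIdempotentElem.iff_eq_zero_or_one.1 (he.idem i)).resolve_right (hno i))
      exact one_ne_zero (he.complete.symm.trans (Finset.sum_eq_zero fun i _ => h0 i))
    haveI := hloc i
    have hbot : Ideal.span {1 - ee i} = ⊥ := by rw [hi, sub_self]; exact Ideal.span_singleton_eq_bot.2 rfl
    exact ((Ideal.quotEquivOfEq hbot).trans (RingEquiv.quotientBot _)).isLocalRing
  have hdD : (2 : WithBot ℕ∞) ≤ ringKrullDim D := by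
    rw [← EGA41Two.ringKrullDim_eq_of_isIntegral_of_injective hinj]
    exact hdim
  let β' : L := ⟨β, IntermediateField.mem_adjoin_simple_self F β⟩
  obtain ⟨d, hd⟩ : β' ∈ Set.range (algebraMap D L) := by
    refine RefRank.mem_range_of_height_one (A := D) β' fun P hP hP1 => ?_
    -- a generator outside the height one prime
    haveI := hP
    obtain ⟨a, haG, haP⟩ : ∃ a ∈ G, algebraMap C' D (Ideal.Quotient.mk q a) ∉ P := by
      by_contra hno
      simp only [not_exists, not_and, not_not] at hno
      have hle : maximalIdeal C' ≤ P.comap (algebraMap C' D) := by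
        intro x hx
        obtain ⟨a, rfl⟩ := Ideal.Quotient.mk_surjective x
        have ha : a ∈ maximalIdeal C := fun hu => hx (hu.map _)
        have h' : Ideal.span G ≤ (P.comap (algebraMap C' D)).comap (Ideal.Quotient.mk q) :=
          Ideal.span_le.2 fun g hg => hno g hg
        exact h' (hG ha)
      have hmax : (P.comap (algebraMap C' D)).IsMaximal := by
        rw [← (maximalIdeal.isMaximal C').eq_of_le (Ideal.IsPrime.ne_top inferInstance) hle]
        exact maximalIdeal.isMaximal C'
      haveI := Ideal.isMaximal_of_isIntegral_of_isMaximal_comap P hmax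
      rw [IsLocalRing.eq_maximalIdeal this] at hP1
      rw [← IsLocalRing.maximalIdeal_height_eq_ringKrullDim, hP1] at hdD
      exact absurd (WithBot.coe_le_coe.1 hdD) (by decide)
    have ha0 : algebraMap C κ a ≠ 0 := fun h0 => haP (by
      have hz : Ideal.Quotient.mk q a = 0 := Ideal.Quotient.eq_zero_iff_mem.2 h0
      rw [hz, map_zero]; exact P.zero_mem)
    haveI : IsScalarTower C' L κ := IsScalarTower.of_algebraMap_eq fun _ => rfl
    obtain ⟨n, hn⟩ := hβ a haG ha0
    let ā := algebraMap C' D (Ideal.Quotient.mk q a)
    refine ⟨ā ^ n, fun h => haP (hP.mem_of_pow_mem n h), ?_⟩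
    have hmem : IsIntegral C' ((algebraMap C' L (Ideal.Quotient.mk q a)) ^ n * β') := by
      rw [← isIntegral_algebraMap_iff (R := C') (A := L) (B := κ) (algebraMap L κ).injective]
      exact (hint' _).1 hn
    refine ⟨⟨_, hmem⟩, ?_⟩
    rw [map_pow]
    rfl
  have h1 : IsIntegral C' (d : L) := d.2
  have h2 : IsIntegral C' β' := hd ▸ h1
  have h3 : IsIntegral C' β := by
    obtain ⟨p, hp, hp'⟩ := h2
    refine ⟨p, hp, ?_⟩
    have := congrArg Subtype.val hp'
    rw [← Polynomial.aeval_def] at this
    rw [← Polynomial.aeval_def]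
    have e : (Polynomial.aeval β' p : L).1 = Polynomial.aeval β p := by
      rw [show (Polynomial.aeval β' p : L).1 = L.val.restrictScalars C' (Polynomial.aeval β' p) from rfl,
        ← Polynomial.aeval_algHom_apply]
      rfl
    rw [← e]; exact this
  exact (hint' β).2 h3

variable {A : Type u} [CommRing A] [IsNoetherianRing A] [IsLocalRing A]
  {C : Type u} [CommRing C] [IsNoetherianRing C] [IsLocalRing C] [IsAdicComplete (maximalIdeal C) C]
  [Algebra A C] [Module.FaithfullyFlat A C]

/-- The punctured part of an affine basic open. -/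
theorem basicOpen_le_punctured {a : A} (ha : a ∈ maximalIdeal A) :
    (PrimeSpectrum.basicOpen a : (Spec (CommRingCat.of A)).Opens) ≤ FEt.puncturedSpec A := fun x hx e => by
  refine hx ?_
  rw [show x = closedPoint A from e]
  exact ha

/-- Functions on a cover of the punctured spectrum are integral. -/
theorem isIntegral_sections (hmap : (maximalIdeal A).map (algebraMap A C) = maximalIdeal C)
    {V : Scheme.{u}} (v : V ⟶ (FEt.puncturedSpec A : Scheme.{u})) [IsFinite v] {P : Scheme.{u}} [IsLocallyNoetherian P]
    (π : P ⟶ V) (c : P ⟶ Spec (CommRingCat.of C))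
    (H : IsPullback π c (v ≫ (FEt.puncturedSpec A).ι) (Spec.map (CommRingCat.ofHom (algebraMap A C))))
    (hmax : ∀ η : P, (∀ y, y ⤳ η → y = η) → ¬ IsClosed ({η} : Set P)) :
    ((Scheme.ΓSpecIso (CommRingCat.of A)).inv ≫ (v ≫ (FEt.puncturedSpec A).ι).appTop).hom.IsIntegral := by
  classical
  let U := FEt.puncturedSpec A
  let g : V ⟶ Spec (CommRingCat.of A) := v ≫ U.ι
  let σ := Spec.map (CommRingCat.ofHom (algebraMap A C))
  haveI : CompactSpace U := isCompact_iff_compactSpace.1 (NoetherianSpace.isCompact _)
  haveI : CompactSpace V := QuasiCompact.compactSpace_of_compactSpace v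
  haveI : QuasiCompact c := MorphismProperty.of_isPullback H (inferInstance : QuasiCompact g)
  haveI : LocallyQuasiFinite c := MorphismProperty.of_isPullback H (inferInstance : LocallyQuasiFinite g)
  haveI : CompactSpace P := QuasiCompact.compactSpace_of_compactSpace c
  haveI : IsNoetherian P := {}
  haveI : QuasiSeparatedSpace V := quasiSeparatedSpace_of_quasiSeparated g
  let φ : A →+* Γ(V, ⊤) := ((Scheme.ΓSpecIso (CommRingCat.of A)).inv ≫ g.appTop).hom
  let ψ : C →+* Γ(P, ⊤) := ((Scheme.ΓSpecIso (CommRingCat.of C)).inv ≫ c.appTop).hom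
  let ρ : Γ(V, ⊤) →+* Γ(P, ⊤) := π.appTop.hom
  have hcompat : ∀ x : A, ρ (φ x) = ψ (algebraMap A C x) := fun x => by
    have h1 : σ.appTop ((Scheme.ΓSpecIso (CommRingCat.of A)).inv x) =
        (Scheme.ΓSpecIso (CommRingCat.of C)).inv (algebraMap A C x) :=
      (congr($(Scheme.ΓSpecIso_inv_naturality (CommRingCat.ofHom (algebraMap A C))).hom x)).symm
    change π.appTop (g.appTop ((Scheme.ΓSpecIso (CommRingCat.of A)).inv x)) =
      c.appTop ((Scheme.ΓSpecIso (CommRingCat.of C)).inv (algebraMap A C x))
    rw [← h1, ← CommRingCat.comp_apply, ← CommRingCat.comp_apply (f := σ.appTop),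
      ← Scheme.Hom.comp_appTop, ← Scheme.Hom.comp_appTop, H.w]
  intro b
  letI : Algebra A Γ(V, ⊤) := φ.toAlgebra
  letI : Algebra C Γ(P, ⊤) := ψ.toAlgebra
  -- integrality at each maximal point
  have hpt : ∀ η : P, (∀ y, y ⤳ η → y = η) → ∃ p : Polynomial C, p.Monic ∧
      η ∉ P.basicOpen (Polynomial.aeval (ρ b) p) := by
    intro η hη
    let ev : Γ(P, ⊤) →+* P.residueField η := (P.evaluation ⊤ η trivial).hom
    letI : Algebra C (P.residueField η) := (ev.comp ψ).toAlgebra
    let q : PrimeSpectrum C := c η
    have hevC : ∀ x : C, algebraMap C (P.residueField η) x = 0 ↔ x ∈ q.asIdeal := fun x => by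
      change ev (ψ x) = 0 ↔ _
      rw [show ev (ψ x) = P.evaluation ⊤ η trivial (ψ x) from rfl, Scheme.evaluation_eq_zero_iff_notMem_basicOpen]
      change η ∉ P.basicOpen (c.appTop ((Scheme.ΓSpecIso (CommRingCat.of C)).inv x)) ↔ _
      rw [← Scheme.preimage_basicOpen_top]
      change c η ∉ (Spec (CommRingCat.of C)).basicOpen ((Scheme.ΓSpecIso (CommRingCat.of C)).inv x) ↔ _
      rw [basicOpen_eq_of_affine]
      exact not_not
    have hker : RingHom.ker (algebraMap C (P.residueField η)) = q.asIdeal := by
      ext x; exact hevC x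
    -- the dimension
    have hdim : (2 : WithBot ℕ∞) ≤ ringKrullDim (C ⧸ q.asIdeal) := by
      obtain ⟨y, hy, hne⟩ : ∃ y, η ⤳ y ∧ y ≠ η := by
        by_contra hno
        simp only [not_exists, not_and, not_not] at hno
        refine hmax η hη (isClosed_iff_clusterPt.2 fun y hy => ?_)
        exact hno y (specializes_iff_mem_closure.2 (mem_closure_iff_clusterPt.2 hy))
      have hle : q.asIdeal ≤ (c y : PrimeSpectrum C).asIdeal :=
        (PrimeSpectrum.le_iff_specializes _ _).2 (hy.map c.continuous)
      have hlt : q.asIdeal < (c y : PrimeSpectrum C).asIdeal := by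
        refine lt_of_le_of_ne hle fun e => hne ?_
        have hd := c.isDiscrete_preimage_singleton (c η)
        have : DiscreteTopology ↥(c.base ⁻¹' {c η}) := hd.to_subtype
        have hy' : y ∈ c.base ⁻¹' {c η} := (PrimeSpectrum.ext e).symm
        have hs : (⟨η, rfl⟩ : ↥(c.base ⁻¹' {c η})) ⤳ ⟨y, hy'⟩ :=
          Topology.IsInducing.subtypeVal.specializes_iff.1 hy
        exact (congrArg Subtype.val hs.eq).symm
      have hlt2 : (c y : PrimeSpectrum C).asIdeal < maximalIdeal C := by
        refine lt_of_le_of_ne (IsLocalRing.le_maximalIdeal Ideal.IsPrime.ne_top') fun e => ?_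
        refine (v (π y)).2 ?_
        have hw : g (π y) = σ (c y) := by rw [← Scheme.Hom.comp_apply, H.w, Scheme.Hom.comp_apply]
        refine Set.mem_singleton_iff.2 (hw.trans (PrimeSpectrum.ext ?_))
        change (c y : PrimeSpectrum C).asIdeal.comap (algebraMap A C) = maximalIdeal A
        rw [e]
        refine ((maximalIdeal.isMaximal A).eq_of_le (Ideal.comap_ne_top _ Ideal.IsPrime.ne_top') ?_).symm
        exact Ideal.map_le_iff_le_comap.1 hmap.le
      let mk := Ideal.Quotient.mk q.asIdeal
      have hk : RingHom.ker mk ≤ (c y : PrimeSpectrum C).asIdeal := by rw [Ideal.mk_ker]; exact hle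
      have hk' : RingHom.ker mk ≤ maximalIdeal C := hk.trans hlt2.le
      haveI : ((c y : PrimeSpectrum C).asIdeal.map mk).IsPrime :=
        Ideal.map_isPrime_of_surjective Ideal.Quotient.mk_surjective hk
      haveI : ((maximalIdeal C).map mk).IsPrime :=
        Ideal.map_isPrime_of_surjective Ideal.Quotient.mk_surjective hk'
      have hc : ∀ I : Ideal C, RingHom.ker mk ≤ I → (I.map mk).comap mk = I := fun I hI => by
        rw [Ideal.comap_map_of_surjective' _ Ideal.Quotient.mk_surjective, sup_eq_left.2 hI]
      have hl1 : (⊥ : Ideal (C ⧸ q.asIdeal)) < (c y : PrimeSpectrum C).asIdeal.map mk := by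
        refine bot_lt_iff_ne_bot.2 fun e => hlt.not_ge ?_
        rw [← hc _ hk, e, ← RingHom.ker_eq_comap_bot, Ideal.mk_ker]
      have hl2 : (c y : PrimeSpectrum C).asIdeal.map mk < (maximalIdeal C).map mk := by
        refine lt_of_le_of_ne (Ideal.map_mono hlt2.le) fun e => hlt2.ne ?_
        rw [← hc _ hk, ← hc _ hk', e]
      have h1 := Ideal.height_add_one_le_of_lt_of_isPrime hl1
      have h2 := Ideal.height_add_one_le_of_lt_of_isPrime hl2
      rw [Ideal.height_bot, zero_add] at h1
      refine le_trans ?_ (Ideal.height_le_ringKrullDim_of_ne_top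
        (I := (maximalIdeal C).map mk) Ideal.IsPrime.ne_top')
      exact WithBot.coe_le_coe.2 (((add_le_add h1 le_rfl).trans h2).trans' (le_of_eq one_add_one_eq_two.symm))
    have hint : IsIntegral C (ev (ρ b)) := by
      refine isIntegral_of_forall_pow_mul (by rw [hker]; exact hdim) _
        (algebraMap A C '' (maximalIdeal A : Set A)) hmap.ge ?_
      rintro _ ⟨a, ha, rfl⟩ ha0
      -- the affine piece over `D(a)`
      let Da : (Spec (CommRingCat.of A)).Opens := PrimeSpectrum.basicOpen a
      have hDa : Da ≤ U := basicOpen_le_punctured ha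
      have hDaff : IsAffineOpen (U.ι ⁻¹ᵁ Da) := by
        refine (Scheme.Hom.isAffineOpen_iff_of_isOpenImmersion U.ι).1 ?_
        rw [Scheme.Hom.image_preimage_eq_opensRange_inf, Scheme.Opens.opensRange_ι, inf_eq_right.2 hDa]
        exact IsAffineOpen.Spec_basicOpen (R := CommRingCat.of A) a
      haveI : IsIso (U.ι.app Da) := U.ι.isIso_app Da (by rw [Scheme.Opens.opensRange_ι]; exact hDa)
      have hfin : (g.app Da).hom.Finite := by
        rw [Scheme.Hom.comp_app, CommRingCat.hom_comp]
        exact (v.finite_app _ hDaff).comp (RingHom.Finite.of_surjective _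
          (ConcreteCategory.bijective_of_isIso (U.ι.app Da)).2)
      have hmemη : π η ∈ g ⁻¹ᵁ Da := by
        change g (π η) ∈ Da
        have hw : g (π η) = σ (c η) := by rw [← Scheme.Hom.comp_apply, H.w, Scheme.Hom.comp_apply]
        rw [hw]
        exact fun hmem => ha0 ((hevC _).2 hmem)
      let evV : Γ(V, g ⁻¹ᵁ Da) →+* P.residueField η :=
        ((π.residueFieldMap η).hom.comp (V.evaluation (g ⁻¹ᵁ Da) (π η) hmemη).hom)
      let T := Γ(Spec (CommRingCat.of A), Da)
      letI : Algebra A T := StructureSheaf.openAlgebra A (Opposite.op (PrimeSpectrum.basicOpen a))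
      letI : Algebra T (P.residueField η) := (evV.comp (g.app Da).hom).toAlgebra
      letI : Algebra A (P.residueField η) := ((algebraMap C (P.residueField η)).comp (algebraMap A C)).toAlgebra
      haveI : IsScalarTower A C (P.residueField η) := IsScalarTower.of_algebraMap_eq fun _ => rfl
      have hres : ∀ s : Γ(V, ⊤), evV (V.presheaf.map (homOfLE le_top).op s) = ev (ρ s) := by
        intro s
        change (π.residueFieldMap η) (V.evaluation (g ⁻¹ᵁ Da) (π η) hmemη (V.presheaf.map (homOfLE le_top).op s)) =
          P.evaluation ⊤ η trivial (π.appTop s)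
        simp only [Scheme.evaluation, CommRingCat.comp_apply]
        rw [TopCat.Presheaf.germ_res_apply]
        exact congr($(Scheme.residue_residueFieldMap π η).hom (V.presheaf.germ ⊤ (π η) trivial s)).symm.trans
          (congrArg (P.residue η) (Scheme.Hom.germ_stalkMap_apply π ⊤ η trivial s))
      haveI : IsScalarTower A T (P.residueField η) := IsScalarTower.of_algebraMap_eq fun x => by
        change ev (ψ (algebraMap A C x)) = evV (g.app Da (algebraMap A T x))
        have h1 : g.app Da (algebraMap A T x) = V.presheaf.map (homOfLE le_top).op (φ x) := by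
          have h2 : algebraMap A T x = (Spec (CommRingCat.of A)).presheaf.map (homOfLE le_top).op
              ((Scheme.ΓSpecIso (CommRingCat.of A)).inv x) := rfl
          rw [h2, ← CommRingCat.comp_apply, Scheme.Hom.naturality]
          rfl
        rw [h1, hres, hcompat]
      haveI : IsLocalization.Away a T := StructureSheaf.IsLocalization.to_basicOpen A a
      let β := ev (ρ b)
      have hβT : IsIntegral T β := by
        obtain ⟨p, hp, hp0⟩ := hfin.to_isIntegral (V.presheaf.map (homOfLE le_top).op b)
        refine ⟨p, hp, ?_⟩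
        have := congrArg evV hp0
        rw [Polynomial.hom_eval₂, map_zero, hres] at this
        exact this
      obtain ⟨⟨_, n, rfl⟩, hn⟩ :=
        IsIntegral.exists_multiple_integral_of_isLocalization (Submonoid.powers a) β hβT
      refine ⟨n, ?_⟩
      rw [Submonoid.smul_def, Algebra.smul_def] at hn
      have : IsIntegral C (algebraMap A (P.residueField η) (a ^ n) * β) := hn.tower_top
      rwa [map_pow, show algebraMap A (P.residueField η) a = algebraMap C _ (algebraMap A C a) from rfl] at this
    obtain ⟨p, hp, hp0⟩ := hint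
    refine ⟨p, hp, ?_⟩
    rw [← Scheme.evaluation_eq_zero_iff_notMem_basicOpen (U := ⊤) (x := η) (hx := trivial)]
    change ev (Polynomial.aeval (ρ b) p) = 0
    rw [Polynomial.aeval_def, Polynomial.hom_eval₂]
    exact hp0
  -- the product polynomial
  have hfinmax : {η : P | ∀ y, y ⤳ η → y = η}.Finite := by
    haveI : Finite (irreducibleComponents P) := NoetherianSpace.finite_irreducibleComponents.to_subtype
    refine Set.Finite.subset (Set.finite_range fun Z : irreducibleComponents P => Z.2.1.genericPoint) ?_
    intro η hη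
    refine ⟨⟨_, irreducibleComponent_mem_irreducibleComponents η⟩, hη _ ?_⟩
    exact IsGenericPoint.specializes ((isIrreducible_irreducibleComponent).isGenericPoint_genericPoint
      isClosed_irreducibleComponent) mem_irreducibleComponent
  choose! p hpm hpη using hpt
  let Q : Polynomial C := ∏ η ∈ hfinmax.toFinset, p η
  have hQ : Q.Monic := Polynomial.monic_prod_of_monic _ _ fun η hη => hpm η (hfinmax.mem_toFinset.1 hη)
  have hnil : IsNilpotent (Polynomial.aeval (ρ b) Q) := by
    rw [Scheme.isNilpotent_iff_basicOpen_eq_bot]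
    refine Opens.ext (Set.eq_empty_iff_forall_notMem.2 fun y hy => ?_)
    let η := (isIrreducible_irreducibleComponent (x := y)).genericPoint
    have hgen := (isIrreducible_irreducibleComponent (x := y)).isGenericPoint_genericPoint
      isClosed_irreducibleComponent
    have hηy : η ⤳ y := hgen.specializes mem_irreducibleComponent
    have hηmax : ∀ z, z ⤳ η → z = η := fun z hz => by
      have hsub : irreducibleComponent y ⊆ closure {z} := hgen.def ▸ hz.closure_subset
      have := (irreducibleComponent_mem_irreducibleComponents y).2 isIrreducible_singleton.closure hsub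
      exact IsGenericPoint.eq (show IsGenericPoint z (irreducibleComponent y) from le_antisymm this hsub) hgen
    have hη' : η ∈ P.basicOpen (Polynomial.aeval (ρ b) Q) := hηy.mem_open (P.basicOpen _).2 hy
    refine hpη η hηmax ?_
    rw [show Q = p η * ∏ θ ∈ hfinmax.toFinset.erase η, p θ from
      (Finset.mul_prod_erase _ _ (hfinmax.mem_toFinset.2 hηmax)).symm, map_mul, Scheme.basicOpen_mul] at hη'
    exact hη'.1
  have hintP : IsIntegral C (ρ b) := by
    obtain ⟨n, hn⟩ := hnil
    exact ⟨Q ^ n, hQ.pow n, by rw [← Polynomial.aeval_def, map_pow, hn]⟩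
  -- descent
  haveI : Module.Flat A C := inferInstance
  have hiso := HensPair.isPushout_appTop (B := A) (C := C) H
  letI : Algebra A Γ(P, ⊤) := (ψ.comp (algebraMap A C)).toAlgebra
  let ψA : C →ₐ[A] Γ(P, ⊤) := { ψ with commutes' := fun _ => rfl }
  let ρA : Γ(V, ⊤) →ₐ[A] Γ(P, ⊤) := { ρ with commutes' := fun x => hcompat x }
  let j : C ⊗[A] Γ(V, ⊤) →+* Γ(P, ⊤) := (Algebra.TensorProduct.productMap ψA ρA).toRingHom
  have hj : Function.Injective j := by
    let e : C ⊗[A] Γ(V, ⊤) →+* Γ(P, ⊤) := j
    -- the inverse from the pushout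
    let j₁ : Γ(V, ⊤) ⟶ CommRingCat.of (C ⊗[A] Γ(V, ⊤)) :=
      CommRingCat.ofHom (Algebra.TensorProduct.includeRight : Γ(V, ⊤) →ₐ[A] C ⊗[A] Γ(V, ⊤)).toRingHom
    let j₂ : Γ(Spec (CommRingCat.of C), ⊤) ⟶ CommRingCat.of (C ⊗[A] Γ(V, ⊤)) :=
      (Scheme.ΓSpecIso (CommRingCat.of C)).hom ≫ CommRingCat.ofHom (algebraMap C _)
    have hw : g.appTop ≫ j₁ = σ.appTop ≫ j₂ := by
      rw [← cancel_epi (Scheme.ΓSpecIso (CommRingCat.of A)).inv, ← Category.assoc, ← Category.assoc,
        ← Scheme.ΓSpecIso_inv_naturality]
      refine CommRingCat.hom_ext (RingHom.ext fun r => ?_)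
      simp only [j₁, j₂, Category.assoc, Iso.inv_hom_id_assoc]
      exact ((Algebra.TensorProduct.includeRight : Γ(V, ⊤) →ₐ[A] C ⊗[A] Γ(V, ⊤)).commutes r).trans
        (IsScalarTower.algebraMap_apply A C (C ⊗[A] Γ(V, ⊤)) r)
    let k := hiso.desc j₁ j₂ hw
    have hk : k.hom.comp j = RingHom.id _ := by
      refine RingHom.ext fun x => ?_
      induction x using TensorProduct.induction_on with
      | zero => simp
      | add x y hx hy => rw [map_add, map_add, hx, hy]
      | tmul x y =>
        have e1 : k (c.appTop ((Scheme.ΓSpecIso (CommRingCat.of C)).inv x)) = x ⊗ₜ[A] (1 : Γ(V, ⊤)) := by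
          rw [← CommRingCat.comp_apply, hiso.inr_desc]
          simp only [j₂]
          rw [← CommRingCat.comp_apply, Iso.inv_hom_id_assoc]
          rfl
        have e2 : k (π.appTop y) = (1 : C) ⊗ₜ[A] y := by
          rw [← CommRingCat.comp_apply, hiso.inl_desc]
          rfl
        change k.hom (ψ x * ρ y) = x ⊗ₜ[A] y
        rw [map_mul]
        change k (c.appTop ((Scheme.ΓSpecIso (CommRingCat.of C)).inv x)) * k (π.appTop y) = _
        rw [e1, e2, Algebra.TensorProduct.tmul_mul_tmul, mul_one, one_mul]
    intro x y hxy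
    have := congrArg k.hom hxy
    rwa [← RingHom.comp_apply, ← RingHom.comp_apply, hk] at this
  let S := Algebra.adjoin A ({b} : Set Γ(V, ⊤))
  have hψA : ∀ x : A, ψ (algebraMap A C x) = algebraMap A Γ(P, ⊤) x := fun _ => rfl
  let jS : C ⊗[A] S →ₗ[C] Γ(P, ⊤) :=
    { toFun := fun x => j (TensorProduct.map LinearMap.id S.val.toLinearMap x)
      map_add' := fun x y => by rw [map_add, map_add]
      map_smul' := fun r x => by
        simp only [RingHom.id_apply]
        induction x using TensorProduct.induction_on with
        | zero => simp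
        | add x y hx hy => rw [smul_add, map_add, map_add, hx, hy, map_add, map_add, smul_add]
        | tmul x y =>
          rw [TensorProduct.smul_tmul', TensorProduct.map_tmul, TensorProduct.map_tmul]
          change ψ (r * x) * ρ y.1 = ψ r * (ψ x * ρ y.1)
          rw [map_mul, mul_assoc] }
  have hjS : Function.Injective jS :=
    hj.comp (Module.Flat.lTensor_preserves_injective_linearMap (M := C) S.val.toLinearMap Subtype.val_injective)
  haveI : Module.Finite C (C ⊗[A] S) := by
    let N : Subalgebra C Γ(P, ⊤) := Algebra.adjoin C {ρ b}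
    haveI : Module.Finite C N := Module.Finite.iff_fg.2 hintP.fg_adjoin_singleton
    have hρS : ∀ y : Γ(V, ⊤), y ∈ S → ρ y ∈ N := by
      intro y hy
      induction hy using Algebra.adjoin_induction with
      | mem y hy => rw [Set.mem_singleton_iff.1 hy]; exact Algebra.self_mem_adjoin_singleton C _
      | algebraMap x => rw [show ρ (algebraMap A Γ(V, ⊤) x) = _ from hcompat x]; exact N.algebraMap_mem _
      | add x y _ _ hx hy => rw [map_add]; exact add_mem hx hy
      | mul x y _ _ hx hy => rw [map_mul]; exact mul_mem hx hy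
    have hrange : ∀ x, jS x ∈ N := by
      intro x
      induction x using TensorProduct.induction_on with
      | zero => rw [map_zero]; exact zero_mem _
      | add x y hx hy => rw [map_add]; exact add_mem hx hy
      | tmul x y =>
        change ψ x * ρ y.1 ∈ N
        exact mul_mem (N.algebraMap_mem x) (hρS y.1 y.2)
    exact Module.Finite.of_injective (LinearMap.codRestrict N.toSubmodule jS hrange)
      fun x y hxy => hjS (congrArg Subtype.val hxy)
  haveI : Module.Finite A S := Module.Finite.of_finite_tensorProduct_of_faithfullyFlat C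
  exact IsIntegral.of_mem_of_fg S (Module.Finite.iff_fg.1 inferInstance) b
    (Algebra.self_mem_adjoin_singleton A b)

end Groth.Pi1Lef
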