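import Groth.Agent.S5184
import Groth.Agent.Pi1Purity.Extend
import Groth.Agent.Pi1FEt.Colimits
import Groth.Agent.PicAux.EffCartierSection
import Groth.Agent.VarietyBC.ZeroConnected
import Groth.Agent.RefRank.RelDiv
import Groth.Agent.Ega4Algebra2.SkFlat
import Groth.Agent.LocCohBase.Depth

/-!
# Lefschetz for finite étale covers
-/

universe u

set_option autoImplicit false
set_option backward.isDefEq.respectTransparency false
set_option backward.defeqAttrib.useBackward true
set_option linter.style.haveILetI false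

open CategoryTheory CategoryTheory.Limits AlgebraicGeometry TopologicalSpace

namespace Groth.Pi1Lef

/-- Effective Lefschetz and purity off `Y` give extension of covers of `Y`. -/
theorem essSurj_of_leff {X : Scheme.{u}} [IsNoetherian X] (I : X.IdealSheafData) (h : LefX.LeffCond X I)
    (hp : ∀ U : X.Opens, (I.support : Set X) ⊆ (U : Set X) → ∀ x : X, x ∉ U →
      FEt.PurityHolds (X.presheaf.stalk x)) :
    (FEt.restrict I.subschemeι).EssSurj := by
  refine ⟨fun R => ?_⟩
  obtain ⟨U, R', hU, hR'⟩ := Groth.Agent.S5184.result X I h R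
  haveI := Groth.Pi1Purity.restrict_essSurj_of_purity U (hp U hU)
  let i : I.subscheme ⟶ (U : Scheme.{u}) := IsOpenImmersion.lift U.ι I.subschemeι (by
    rw [Scheme.Opens.range_ι, Scheme.IdealSheafData.range_subschemeι]; exact hU)
  have hi : i ≫ U.ι = I.subschemeι := IsOpenImmersion.lift_fac ..
  obtain ⟨e⟩ := hR' i hi
  exact ⟨(FEt.restrict U.ι).objPreimage R', ⟨((Groth.Pi1FEt.restrictCongr hi.symm ≪≫
    Groth.Pi1FEt.restrictCompIso i U.ι).app _) ≪≫
      (FEt.restrict i).mapIso ((FEt.restrict U.ι).objObjPreimageIso R') ≪≫ e⟩⟩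

open Groth.PicAux in
/-- A monomorphism out of the structure module is a regular section. -/
theorem regularSection_of_mono {X : Scheme.{u}} {L : X.Modules} (s : Coh.structureModule X ⟶ L) [Mono s] :
    RegularSection L s := by
  intro W e he c hc x hx
  rw [mem_nonZeroDivisors_iff_right]
  intro v hv
  obtain ⟨V, hxV, w, rfl⟩ := X.presheaf.exists_germ_eq v
  rw [← X.presheaf.germ_res_apply (homOfLE (inf_le_left : V ⊓ W ≤ V)) x ⟨hxV, hx⟩,
    ← X.presheaf.germ_res_apply (homOfLE (inf_le_right : V ⊓ W ≤ W)) x ⟨hxV, hx⟩, ← map_mul,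
    ← map_zero (X.presheaf.germ (V ⊓ W) x ⟨hxV, hx⟩).hom] at hv
  obtain ⟨Z, hxZ, i₁, i₂, hZ⟩ := X.presheaf.germ_eq x _ _ _ _ hv
  rw [map_mul, map_zero] at hZ
  have hZV : Z ≤ V := i₁.le.trans inf_le_left
  have hZW : Z ≤ W := i₁.le.trans inf_le_right
  have h1 : resX X hZV w * resX X hZW c = 0 := by
    rw [← resX_resX (inf_le_left : V ⊓ W ≤ V) i₁.le, ← resX_resX (inf_le_right : V ⊓ W ≤ W) i₁.le]
    exact hZ
  have h2 : res (Coh.structureModule X) hZV (w : Γ(Coh.structureModule X, V)) = 0 := by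
    refine (Groth.CohTwo.mono_iff_app_injective s).1 inferInstance Z ?_
    rw [map_zero, eq_toFun_smul_oneSec (res (Coh.structureModule X) hZV _), Scheme.Modules.Hom.app_smul,
      ← res_app_oneSec s hZW, hc, res_smul, smul_smul, toFun_res]
    rw [show resX X hZV (toFun (w : Γ(Coh.structureModule X, V))) * resX X hZW c = 0 from h1, zero_smul]
  rw [← X.presheaf.germ_res_apply (homOfLE hZV) x hxZ]
  exact (congrArg (X.presheaf.germ Z x hxZ) (show resX X hZV w = 0 from h2)).trans (map_zero _)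

/-- Depth drops by one on an effective Cartier divisor. -/
theorem le_depth_divisor {X : Scheme.{u}} [IsLocallyNoetherian X] (I : X.IdealSheafData)
    (hI : BlowUp.IsEffCartierIdeal I) (d : ↥I.subscheme) {n : ℕ}
    (hn : ((n + 1 : ℕ) : ℕ∞) ≤ LocCoh.depth (X.presheaf.stalk (I.subschemeι d)) (X.presheaf.stalk (I.subschemeι d))) :
    (n : ℕ∞) ≤ LocCoh.depth (I.subscheme.presheaf.stalk d) (I.subscheme.presheaf.stalk d) := by
  obtain ⟨_, ⟨V, hV, rfl⟩, hxV, -⟩ :=
    X.isBasis_affineOpens.exists_subset_of_mem_open (Set.mem_univ (I.subschemeι d)) isOpen_univ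
  set R := X.presheaf.stalk (I.subschemeι d)
  obtain ⟨g, hg, hspan⟩ := Groth.RefRank.RelDiv.exists_stalk_gen hI (V := ⟨V, hV⟩) hxV
  have hker : RingHom.ker (I.subschemeι.stalkMap d).hom = Ideal.span {g} :=
    ((Groth.Ega4b.ker_stalkMap_eq_map I.subschemeι hV d hxV).trans (by rw [I.ker_subschemeι])).trans hspan
  have hgm : g ∈ IsLocalRing.maximalIdeal R := by
    intro hu
    have : (1 : R) ∈ RingHom.ker (I.subschemeι.stalkMap d).hom := by
      rw [hker, Ideal.span_singleton_eq_top.2 hu]; trivial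
    rw [RingHom.mem_ker, map_one] at this
    exact one_ne_zero this
  let e : (R ⧸ Ideal.span {g}) ≃+* I.subscheme.presheaf.stalk d :=
    (Ideal.quotEquivOfEq hker.symm).trans
      (RingHom.quotientKerEquivOfSurjective (I.subschemeι.stalkMap_surjective d))
  have : IsLocalRing (R ⧸ Ideal.span {g}) := e.symm.isLocalRing
  have htop : IsLocalRing.maximalIdeal R • (⊤ : Submodule R R) ≠ ⊤ := by
    simpa using (IsLocalRing.maximalIdeal.isMaximal R).ne_top
  have hreg : IsSMulRegular R g :=
    fun a b (h : g * a = g * b) => (mul_cancel_left_mem_nonZeroDivisors hg).1 h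
  have hd : LocCoh.depth (R ⧸ Ideal.span {g}) (R ⧸ Ideal.span {g}) + 1 = LocCoh.depth R R := by
    rw [← Groth.Ega4b.depth_eq_of_surjective_algebraMap (A := R) Ideal.Quotient.mk_surjective,
      LocCoh.depth, LocCoh.depth,
      ← Groth.LocCohBase.idealDepth_quotSMulTop_add_one _ R htop hgm hreg]
    congr 1
    exact Groth.Ega4b.depth_congr' ((Submodule.quotEquivOfEq _ _
      (by rw [← Submodule.ideal_span_singleton_smul, Ideal.smul_eq_mul, Ideal.mul_top])))
  rw [← Groth.Ega4b.depth_eq_of_ringEquiv e]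
  rw [← hd, Nat.cast_add, Nat.cast_one] at hn
  exact (ENat.add_le_add_iff_right ENat.one_ne_top).1 hn

end Groth.Pi1Lef
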