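import Groth.Agent.LocCohBase.Connected
import Groth.Agent.HensPair.Couple
import Mathlib.AlgebraicGeometry.Stalk
import Mathlib.AlgebraicGeometry.Noetherian

/-!
# Clopens of a scheme and of a closed subset meeting every component connectedly
-/

universe u

set_option autoImplicit false
set_option linter.style.haveILetI false

open AlgebraicGeometry TopologicalSpace

namespace Groth.Pi1Lef

/-- If every irreducible component of a Noetherian scheme `W` meets `range q` in a connected set and all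
points of closed sets missing `range q` are closed of depth at least two, then clopens of `W`
correspond to clopens of the source of `q` (Hartshorne). -/
theorem clopenBij_of_components {W : Scheme.{u}} [IsNoetherian W] {W' : Type*} [TopologicalSpace W']
    (q : W' → W) (hq : Topology.IsEmbedding q)
    (hcomp : ∀ Z ∈ irreducibleComponents W, _root_.IsConnected (Z ∩ Set.range q))
    (hoff : ∀ K : Set W, IsClosed K → Disjoint K (Set.range q) →
      ∀ w ∈ K, IsClosed ({w} : Set W) ∧ (2 : ℕ∞) ≤ LocCoh.depth (W.presheaf.stalk w) (W.presheaf.stalk w)) :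
    HensPair.ClopenBij q := by
  classical
  haveI : Finite (irreducibleComponents W) := NoetherianSpace.finite_irreducibleComponents.to_subtype
  intro D hD
  have hpre : ∀ Z : irreducibleComponents W, _root_.IsPreconnected (q ⁻¹' Z.1) := fun Z => by
    rw [← hq.isInducing.isPreconnected_image, Set.image_preimage_eq_inter_range]
    exact (hcomp Z.1 Z.2).2
  have hne : ∀ Z : irreducibleComponents W, ∃ y, q y ∈ Z.1 := fun Z => by
    obtain ⟨z, hz, y, rfl⟩ := (hcomp Z.1 Z.2).1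
    exact ⟨y, hz⟩
  have hclZ : ∀ Z : irreducibleComponents W, IsClosed Z.1 := fun Z =>
    isClosed_of_mem_irreducibleComponents Z.1 Z.2
  have hmemZ : ∀ w : W, ∃ Z : irreducibleComponents W, w ∈ Z.1 := fun w =>
    ⟨⟨_, irreducibleComponent_mem_irreducibleComponents w⟩, mem_irreducibleComponent⟩
  let S : Set (irreducibleComponents W) := {Z | ∃ y, q y ∈ Z.1 ∧ y ∈ D}
  have hS : ∀ Z ∈ S, ∀ y, q y ∈ Z.1 → y ∈ D := by
    rintro Z ⟨y₀, hy₀, hy₀D⟩ y hy
    exact (hpre Z).subset_isClopen hD ⟨y₀, hy₀, hy₀D⟩ hy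
  let A : Set W := ⋃ Z ∈ S, Z.1
  let B : Set W := ⋃ Z ∈ Sᶜ, Z.1
  have hA : IsClosed A := Set.Finite.isClosed_biUnion (Set.toFinite _) fun Z _ => hclZ Z
  have hB : IsClosed B := Set.Finite.isClosed_biUnion (Set.toFinite _) fun Z _ => hclZ Z
  have hcov : A ∪ B = Set.univ := by
    refine Set.eq_univ_of_forall fun w => ?_
    obtain ⟨Z, hZ⟩ := hmemZ w
    by_cases h : Z ∈ S
    · exact Or.inl (Set.mem_biUnion h hZ)
    · exact Or.inr (Set.mem_biUnion h hZ)
  have hqA : ∀ y, q y ∈ A ↔ y ∈ D := by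
    refine fun y => ⟨fun h => ?_, fun h => ?_⟩
    · obtain ⟨Z, hZS, hyZ⟩ := Set.mem_iUnion₂.1 h
      exact hS Z hZS y hyZ
    · obtain ⟨Z, hZ⟩ := hmemZ (q y)
      exact Set.mem_biUnion (x := Z) ⟨y, hZ, h⟩ hZ
  have hqB : ∀ y, q y ∈ B → y ∉ D := fun y h hy => by
    obtain ⟨Z, hZS, hyZ⟩ := Set.mem_iUnion₂.1 h
    exact hZS ⟨y, hyZ, hy⟩
  have hAB : Disjoint (A ∩ B) (Set.range q) := by
    rw [Set.disjoint_left]
    rintro _ ⟨ha, hb⟩ ⟨y, rfl⟩
    exact hqB y hb ((hqA y).1 ha)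
  have hdisj : A ∩ B = ∅ := by
    refine Set.eq_empty_iff_forall_notMem.2 fun w hw => ?_
    obtain ⟨hwc, hd2⟩ := hoff _ (hA.inter hB) hAB w hw
    have hconn := LocCohBase.isConnected_punctured hd2
    let σ := W.fromSpecStalk w
    let Q : Set W := σ.base '' {x | x.asIdeal ≠ IsLocalRing.maximalIdeal (W.presheaf.stalk w)}
    have hQ : _root_.IsPreconnected Q := hconn.2.image _ σ.continuous.continuousOn
    have hQmem : ∀ z, z ⤳ w → z ≠ w → z ∈ Q := fun z hz hne => by
      obtain ⟨x, rfl⟩ := Scheme.range_fromSpecStalk.ge hz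
      refine ⟨x, fun e => hne ?_, rfl⟩
      rw [show x = IsLocalRing.closedPoint _ from PrimeSpectrum.ext e]
      exact Scheme.fromSpecStalk_closedPoint
    have hQw : ∀ z ∈ Q, z ⤳ w ∧ z ≠ w := by
      rintro _ ⟨x, hx, rfl⟩
      refine ⟨Scheme.range_fromSpecStalk.le ⟨x, rfl⟩, fun e => hx ?_⟩
      have : x = IsLocalRing.closedPoint _ := σ.isEmbedding.injective
        (e.trans Scheme.fromSpecStalk_closedPoint.symm)
      rw [this]; rfl
    have hside : ∀ R : Set (irreducibleComponents W), w ∈ (⋃ Z ∈ R, Z.1) →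
        (Q ∩ ⋃ Z ∈ R, Z.1).Nonempty := by
      intro R hwR
      obtain ⟨Z, hZR, hwZ⟩ := Set.mem_iUnion₂.1 hwR
      obtain ⟨η, hη⟩ : ∃ η, IsGenericPoint η Z.1 := QuasiSober.sober Z.2.1 (hclZ Z)
      refine ⟨η, hQmem η (hη.specializes hwZ) fun e => ?_, Set.mem_biUnion hZR hη.mem⟩
      obtain ⟨z, hz⟩ := hconn.1
      obtain ⟨hzw, hne⟩ := hQw _ ⟨z, hz, rfl⟩
      have hsub : Z.1 ⊆ closure {σ z} := by
        rw [← hη.def, e]; exact hzw.closure_subset
      have heq : closure {σ z} = Z.1 := le_antisymm (Z.2.2 isIrreducible_singleton.closure hsub) hsub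
      exact hne ((IsGenericPoint.eq (show IsGenericPoint (σ z) Z.1 from heq) hη).trans e)
    obtain ⟨z, hzQ, hzA, hzB⟩ := isPreconnected_closed_iff.1 hQ A B hA hB
      (hcov ▸ Set.subset_univ _) (hside S hw.1) (hside Sᶜ hw.2)
    obtain ⟨hzw, hne⟩ := hQw z hzQ
    exact hne ((hoff _ (hA.inter hB) hAB z ⟨hzA, hzB⟩).1.closure_eq ▸
      specializes_iff_mem_closure.1 hzw : w ∈ ({z} : Set W)).symm
  have hAc : Aᶜ = B := Set.Subset.antisymm (fun w h => (hcov.ge trivial).resolve_left h)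
    fun w hwB hwA => hdisj.subset ⟨hwA, hwB⟩
  have hAclop : IsClopen A := ⟨hA, isClosed_compl_iff.1 (hAc ▸ hB)⟩
  refine ⟨A, ⟨hAclop, Set.ext hqA⟩, ?_⟩
  rintro C ⟨hC, hCD⟩
  ext w
  obtain ⟨Z, hZ⟩ := hmemZ w
  obtain ⟨y, hy⟩ := hne Z
  have hZp : _root_.IsPreconnected Z.1 := Z.2.1.isConnected.isPreconnected
  have key : ∀ E : Set W, IsClopen E → (w ∈ E ↔ q y ∈ E) := fun E hE =>
    ⟨fun h => hZp.subset_isClopen hE ⟨w, hZ, h⟩ hy, fun h => hZp.subset_isClopen hE ⟨q y, hy, h⟩ hZ⟩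
  rw [key C hC, key A hAclop, hqA, ← hCD]
  rfl

end Groth.Pi1Lef
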